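import Mathlib

/-!
# Global dimension passes to localizations (helper33)
-/

set_option autoImplicit false
universe u
open CategoryTheory

namespace Groth.Agent.Lib.Helper33

set_option backward.isDefEq.respectTransparency false in
/-- The categorical localized module is isomorphic to any localization of the module. -/
noncomputable def localizedModuleEquiv {R : Type u} [CommRing R] (S : Submonoid R)
    (M : ModuleCat.{u} R) (N : Type u) [AddCommGroup N] [Module R N] [Module (Localization S) N]
    [IsScalarTower R (Localization S) N] (f : M →ₗ[R] N) [IsLocalizedModule S f] :
    (M.localizedModule S) ≃ₗ[Localization S] N :=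
  LinearEquiv.extendScalarsOfIsLocalization S (Localization S)
    (IsLocalizedModule.linearEquiv S (M.localizedModuleMkLinearMap S) f)

/-- If every `R`-module has projective dimension `≤ d`, so does every `S⁻¹R`-module. -/
theorem hasProjectiveDimensionLE_of_localization (R : Type u) [CommRing R] (S : Submonoid R) (d : ℕ)
    (h : ∀ (M : Type u) [AddCommGroup M] [Module R M],
      HasProjectiveDimensionLT (ModuleCat.of R M) (d + 1))
    (N : Type u) [AddCommGroup N] [Module (Localization S) N] :
    HasProjectiveDimensionLT (ModuleCat.of (Localization S) N) (d + 1) := by
  let _ : Module R N := Module.compHom N (algebraMap R (Localization S))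
  have : IsScalarTower R (Localization S) N := IsScalarTower.of_algebraMap_smul fun _ _ => rfl
  have h1 : HasProjectiveDimensionLE (ModuleCat.of R N) d := h N
  have h2 : HasProjectiveDimensionLE ((ModuleCat.of R N).localizedModule S) d :=
    ModuleCat.localizedModule_hasProjectiveDimensionLE d S (ModuleCat.of R N)
  have := isLocalizedModule_id S N (Localization S)
  let e : ((ModuleCat.of R N).localizedModule S) ≃ₗ[Localization S] N :=
    localizedModuleEquiv S (ModuleCat.of R N) N (LinearMap.id : N →ₗ[R] N)
  exact hasProjectiveDimensionLT_of_iso e.toModuleIso (d + 1)

end Groth.Agent.Lib.Helper33
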