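import Mathlib

/-!
# Change of rings for projective dimension (helper33)

`pd_{R/x}(M/xM) ≤ pd_R(M)` when `x` is `R`-regular and `M`-regular
(EGA 0_IV 17.3.? / Matsumura §18 Lemma 2 / Stacks 00MK-type).
-/

set_option autoImplicit false
universe u
open CategoryTheory

namespace Groth.Agent.Lib.Helper33

open Pointwise

section

variable (R : Type u) [CommRing R] (x : R)

/-- `QuotSMulTop.map` as an `R ⧸ (x)`-linear map. -/
noncomputable def quotMap {M N : Type u} [AddCommGroup M] [Module R M] [AddCommGroup N] [Module R N]
    (f : M →ₗ[R] N) : QuotSMulTop x M →ₗ[R ⧸ Ideal.span {x}] QuotSMulTop x N :=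
  (QuotSMulTop.map x f).extendScalarsOfSurjective Ideal.Quotient.mk_surjective

theorem quotMap_apply {M N : Type u} [AddCommGroup M] [Module R M] [AddCommGroup N] [Module R N]
    (f : M →ₗ[R] N) (y : QuotSMulTop x M) : quotMap R x f y = QuotSMulTop.map x f y := rfl

/-- If `M` is projective over `R` then `M/xM` is projective over `R/x`. -/
theorem projective_quotSMulTop (M : Type u) [AddCommGroup M] [Module R M] [Module.Projective R M] :
    Module.Projective (R ⧸ Ideal.span {x}) (QuotSMulTop x M) :=
  Module.Projective.of_equiv ((QuotSMulTop.equivQuotTensor x M).extendScalarsOfSurjective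
    Ideal.Quotient.mk_surjective).symm

/-- Injectivity of `K/xK → F/xF` when `F/K` is `x`-regular. -/
theorem quotSMulTop_map_injective {K F M : Type u} [AddCommGroup K] [Module R K]
    [AddCommGroup F] [Module R F] [AddCommGroup M] [Module R M]
    (ι : K →ₗ[R] F) (π : F →ₗ[R] M) (hι : Function.Injective ι) (hex : Function.Exact ι π)
    (hM : IsSMulRegular M x) : Function.Injective (QuotSMulTop.map x ι) := by
  have h0 : Function.Exact (0 : PUnit.{u+1} →ₗ[R] K) ι := by
    intro y
    constructor
    · intro hy
      have hy0 : y = 0 := hι (by rw [hy, map_zero])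
      exact ⟨0, by rw [hy0, LinearMap.zero_apply]⟩
    · rintro ⟨z, rfl⟩
      simp
  have h1 := QuotSMulTop.map_first_exact_on_four_term_exact_of_isSMulRegular_last h0 hex hM
  rw [injective_iff_map_eq_zero]
  intro y hy
  obtain ⟨z, hz⟩ := (h1 y).mp hy
  rw [← hz, map_zero, LinearMap.zero_apply]

/-- One step of the change of rings argument: from a presentation `0 → K → F → M → 0` with `F`
projective and `M` `x`-regular, `pd_{R/x}(K/xK) < n+1` implies `pd_{R/x}(M/xM) < n+2`. -/
theorem hasProjectiveDimensionLT_quotSMulTop_step {K F M : Type u} [AddCommGroup K] [Module R K]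
    [AddCommGroup F] [Module R F] [AddCommGroup M] [Module R M] [Module.Projective R F]
    (ι : K →ₗ[R] F) (π : F →ₗ[R] M) (hι : Function.Injective ι) (hex : Function.Exact ι π)
    (hπ : Function.Surjective π) (hM : IsSMulRegular M x) (n : ℕ)
    (hK : HasProjectiveDimensionLT (ModuleCat.of (R ⧸ Ideal.span {x}) (QuotSMulTop x K)) (n + 1)) :
    HasProjectiveDimensionLT (ModuleCat.of (R ⧸ Ideal.span {x}) (QuotSMulTop x M)) (n + 2) := by
  have hexQ : Function.Exact (QuotSMulTop.map x ι) (QuotSMulTop.map x π) :=
    QuotSMulTop.map_exact x hex hπ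
  let T := ModuleCat.shortComplexOfCompEqZero (quotMap R x ι)
    (quotMap R x π) (LinearMap.ext fun y => hexQ.apply_apply_eq_zero y)
  have T_exact : T.ShortExact := ModuleCat.shortComplex_shortExact T
    hexQ (quotSMulTop_map_injective R x ι π hι hex hM) (QuotSMulTop.map_surjective x hπ)
  have : Module.Projective (R ⧸ Ideal.span {x}) (QuotSMulTop x F) := projective_quotSMulTop R x F
  have projT : Projective T.X₂ :=
    (IsProjective.iff_projective (R := R ⧸ Ideal.span {x})
      (P := QuotSMulTop x F)).mp inferInstance
  exact (T_exact.hasProjectiveDimensionLT_X₃_iff n projT).mpr hK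

/-- Every module has a free presentation (in the same universe). -/
theorem exists_free_presentation (M : Type u) [AddCommGroup M] [Module R M] :
    ∃ (F : Type u) (_ : AddCommGroup F) (_ : Module R F) (_ : Module.Free R F) (π : F →ₗ[R] M),
      Function.Surjective π :=
  ⟨M →₀ R, inferInstance, inferInstance, inferInstance, Finsupp.linearCombination R id,
    Finsupp.linearCombination_id_surjective R M⟩

/-- Change of rings: if `x` is regular on `R` and on `M`, then
`pd_{R/x}(M/xM) ≤ pd_R(M)`. -/
theorem hasProjectiveDimensionLT_quotSMulTop (hx : IsSMulRegular R x) (n : ℕ) :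
    ∀ (M : Type u) [AddCommGroup M] [Module R M], IsSMulRegular M x →
      HasProjectiveDimensionLT (ModuleCat.of R M) (n + 1) →
      HasProjectiveDimensionLT (ModuleCat.of (R ⧸ Ideal.span {x}) (QuotSMulTop x M)) (n + 1) := by
  induction n with
  | zero =>
    intro M _ _ hM h
    rw [zero_add, ← projective_iff_hasProjectiveDimensionLT_one,
      ← IsProjective.iff_projective] at h ⊢
    exact projective_quotSMulTop R x M
  | succ n ih =>
    intro M _ _ hM h
    obtain ⟨F, _, _, _, π, hπ⟩ := exists_free_presentation R M
    have S_exact := LinearMap.shortExact_shortComplexKer hπ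
    have proj : Projective π.shortComplexKer.X₂ :=
      (IsProjective.iff_projective (R := R) (P := F)).mp inferInstance
    have hK : HasProjectiveDimensionLT (ModuleCat.of R (LinearMap.ker π)) (n + 1) :=
      (S_exact.hasProjectiveDimensionLT_X₃_iff n proj).mp h
    have hFreg : IsSMulRegular F x := by
      let b := Module.Free.chooseBasis R F
      intro a c hac
      apply b.repr.injective
      ext i
      have := DFunLike.congr_fun (congrArg b.repr hac) i
      simp only [map_smul, Finsupp.smul_apply] at this
      exact hx this
    have hKreg : IsSMulRegular (LinearMap.ker π) x := hFreg.submodule _ x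
    have ihK := ih (LinearMap.ker π) hKreg hK
    exact hasProjectiveDimensionLT_quotSMulTop_step R x (LinearMap.ker π).subtype π
      (Submodule.injective_subtype _) (LinearMap.exact_subtype_ker_map π) hπ hM n ihK

end

end Groth.Agent.Lib.Helper33
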