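import Mathlib

/-!
# Finite projective dimension over a depth-zero local ring (helper33)

If `(R, m)` is a Noetherian local ring with `m ∈ Ass R` (depth zero), every finite module of finite
projective dimension is projective (free).  Uses minimal presentations.
-/

set_option autoImplicit false
universe u
open CategoryTheory IsLocalRing TensorProduct

namespace Groth.Agent.Lib.Helper33

/-- A free module killed by a nonzero scalar is trivial. -/
theorem subsingleton_of_free_of_smul_eq_zero {R : Type*} [CommRing R] (K : Type*) [AddCommGroup K]
    [Module R K] [Module.Free R K] (z : R) (hz : z ≠ 0) (h : ∀ y : K, z • y = 0) :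
    Subsingleton K := by
  let b := Module.Free.chooseBasis R K
  by_contra hns
  rw [not_subsingleton_iff_nontrivial] at hns
  obtain ⟨i⟩ : Nonempty (Module.Free.ChooseBasisIndex R K) := b.index_nonempty
  have h1 := h (b i)
  have h2 : b.repr (z • b i) i = z := by simp
  rw [h1] at h2
  simp only [map_zero, Finsupp.coe_zero, Pi.zero_apply] at h2
  exact hz h2.symm

/-- Minimal presentation of a finite module over a local ring: a surjection `R^r → M` whose kernel
has all coordinates in the maximal ideal. -/
theorem exists_minimal_presentation (R : Type u) [CommRing R] [IsLocalRing R] (M : Type u)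
    [AddCommGroup M] [Module R M] [Module.Finite R M] :
    ∃ (r : ℕ) (π : (Fin r → R) →ₗ[R] M), Function.Surjective π ∧
      ∀ c ∈ LinearMap.ker π, ∀ i, c i ∈ maximalIdeal R := by
  let k := ResidueField R
  let b := Module.finBasis k (k ⊗[R] M)
  have hsurj : Function.Surjective (TensorProduct.mk R k M 1) :=
    TensorProduct.mk_surjective R M k Ideal.Quotient.mk_surjective
  choose v hv using fun i => hsurj (b i)
  refine ⟨_, Fintype.linearCombination R v, ?_, ?_⟩
  · rw [← LinearMap.range_eq_top, Fintype.range_linearCombination]
    exact IsLocalRing.span_eq_top_of_tmul_eq_basis v b hv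
  · intro c hc i
    rw [LinearMap.mem_ker, Fintype.linearCombination_apply] at hc
    have h1 := congrArg (TensorProduct.mk R k M 1) hc
    rw [map_sum, map_zero] at h1
    have h2 : ∑ j, (algebraMap R k (c j)) • b j = 0 := by
      rw [← h1]
      refine Finset.sum_congr rfl fun j _ => ?_
      rw [map_smul, hv j, algebraMap_smul]
    have h3 := Fintype.linearIndependent_iff.mp b.linearIndependent _ h2 i
    exact (Ideal.Quotient.eq_zero_iff_mem).mp h3

/-- Over a Noetherian local ring of depth zero (`m ∈ Ass R`), a finite module of finite projective
dimension is projective. -/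
theorem projective_of_maximalIdeal_mem_ass (R : Type u) [CommRing R] [IsLocalRing R]
    [IsNoetherianRing R] (hass : maximalIdeal R ∈ associatedPrimes R R) (n : ℕ) :
    ∀ (M : Type u) [AddCommGroup M] [Module R M] [Module.Finite R M],
      HasProjectiveDimensionLT (ModuleCat.of R M) (n + 1) → Module.Projective R M := by
  rw [AssociatedPrimes.mem_iff, isAssociatedPrime_iff] at hass
  obtain ⟨_, z, hz⟩ := hass
  have hz0 : z ≠ 0 := by
    intro h0
    have : (1 : R) ∈ maximalIdeal R := by
      rw [hz, Submodule.mem_colon_singleton, h0, smul_zero]
      exact Submodule.zero_mem _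
    exact (maximalIdeal.isMaximal R).ne_top ((Ideal.eq_top_iff_one _).mpr this)
  have hmz : ∀ a ∈ maximalIdeal R, a * z = 0 := by
    intro a ha
    rw [hz, Submodule.mem_colon_singleton] at ha
    simpa using ha
  induction n with
  | zero =>
    intro M _ _ _ h
    rw [zero_add, ← projective_iff_hasProjectiveDimensionLT_one,
      ← IsProjective.iff_projective] at h
    exact h
  | succ n ih =>
    intro M _ _ _ h
    obtain ⟨r, π, hπ, hker⟩ := exists_minimal_presentation R M
    have S_exact := LinearMap.shortExact_shortComplexKer hπ
    have proj : Projective π.shortComplexKer.X₂ :=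
      (IsProjective.iff_projective (R := R) (P := (Fin r → R))).mp inferInstance
    have hK : HasProjectiveDimensionLT (ModuleCat.of R (LinearMap.ker π)) (n + 1) :=
      (S_exact.hasProjectiveDimensionLT_X₃_iff n proj).mp h
    have hKproj : Module.Projective R (LinearMap.ker π) := ih (LinearMap.ker π) hK
    have hKfree : Module.Free R (LinearMap.ker π) := Module.free_of_flat_of_isLocalRing
    have hKsub : Subsingleton (LinearMap.ker π) := by
      refine subsingleton_of_free_of_smul_eq_zero (LinearMap.ker π) z hz0 ?_
      rintro ⟨c, hc⟩
      ext i
      simp only [SetLike.mk_smul_mk, Pi.smul_apply, smul_eq_mul, ZeroMemClass.coe_zero,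
        Pi.zero_apply]
      rw [mul_comm]
      exact hmz _ (hker c hc i)
    have hinj : Function.Injective π := by
      rw [← LinearMap.ker_eq_bot]
      exact (Submodule.subsingleton_iff_eq_bot).mp hKsub
    exact Module.Projective.of_equiv (LinearEquiv.ofBijective π ⟨hinj, hπ⟩)

/-- If the residue field of a local ring is a projective module, then the maximal ideal is zero. -/
theorem maximalIdeal_eq_bot_of_projective_residueField (R : Type u) [CommRing R] [IsLocalRing R]
    (h : Module.Projective R (ResidueField R)) : maximalIdeal R = ⊥ := by
  have hfree : Module.Free R (ResidueField R) := Module.free_of_flat_of_isLocalRing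
  rw [eq_bot_iff]
  intro a ha
  rw [Submodule.mem_bot]
  by_contra ha0
  have : Subsingleton (ResidueField R) := by
    refine subsingleton_of_free_of_smul_eq_zero (ResidueField R) a ha0 ?_
    intro y
    have h0 : algebraMap R (ResidueField R) a = 0 := Ideal.Quotient.eq_zero_iff_mem.mpr ha
    rw [Algebra.smul_def, h0, zero_mul]
  exact not_subsingleton (ResidueField R) this

/-- Depth zero and `pd k < ∞` forces the ring to be a field. -/
theorem maximalIdeal_eq_bot_of_mem_ass (R : Type u) [CommRing R] [IsLocalRing R]
    [IsNoetherianRing R] (hass : maximalIdeal R ∈ associatedPrimes R R) (n : ℕ)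
    (h : HasProjectiveDimensionLT (ModuleCat.of R (ResidueField R)) n) : maximalIdeal R = ⊥ := by
  have h' : HasProjectiveDimensionLT (ModuleCat.of R (ResidueField R)) (n + 1) :=
    hasProjectiveDimensionLT_of_ge _ n (n + 1) (Nat.le_succ n)
  exact maximalIdeal_eq_bot_of_projective_residueField R
    (projective_of_maximalIdeal_mem_ass R hass n (ResidueField R) h')

end Groth.Agent.Lib.Helper33
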