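import Mathlib
import Groth.Agent.Lib.Helper33.ChangeOfRings
import Groth.Agent.Lib.Helper33.DepthZeroFree
import Groth.Agent.S0560
import Groth.Agent.Lib.Helper29.AssDepth

/-!
# Serre's converse: finite projective dimension of the residue field implies regular (helper33)
-/

set_option autoImplicit false
universe u
open CategoryTheory IsLocalRing

namespace Groth.Agent.Lib.Helper33

open Pointwise

section PrimeAvoidance

variable (R : Type u) [CommRing R] [IsLocalRing R] [IsNoetherianRing R]

/-- If `m ≠ 0` and `m ∉ Ass R`, there is a nonzerodivisor in `m \ m²`. -/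
theorem exists_regular_not_mem_sq (hm : maximalIdeal R ≠ ⊥)
    (hass : maximalIdeal R ∉ associatedPrimes R R) :
    ∃ x ∈ maximalIdeal R, x ∉ maximalIdeal R ^ 2 ∧ IsSMulRegular R x := by
  by_contra h
  push Not at h
  have hfin : (associatedPrimes R R).Finite := associatedPrimes.finite R R
  have hsub : ((maximalIdeal R : Ideal R) : Set R) ⊆
      ⋃ p ∈ ((insert (maximalIdeal R ^ 2) hfin.toFinset : Finset (Ideal R)) : Set (Ideal R)),
        ((id p : Ideal R) : Set R) := by
    intro x hx
    by_cases hx2 : x ∈ maximalIdeal R ^ 2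
    · refine Set.mem_biUnion (x := maximalIdeal R ^ 2) ?_ hx2
      simp
    · have h1 := h x hx hx2
      have h2 : x ∈ ⋃ p ∈ associatedPrimes R R, (p : Set R) := by
        rw [biUnion_associatedPrimes_eq_compl_regular]
        exact h1
      rw [Set.mem_iUnion₂] at h2
      obtain ⟨p, hp, hxp⟩ := h2
      refine Set.mem_biUnion (x := p) ?_ hxp
      simp [hp]
  rw [Ideal.subset_union_prime (f := id) (maximalIdeal R ^ 2) (maximalIdeal R ^ 2)] at hsub
  · obtain ⟨p, hp, hle⟩ := hsub
    rw [Finset.mem_insert] at hp
    rcases hp with rfl | hp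
    · apply hm
      refine Submodule.eq_bot_of_le_smul_of_le_jacobson_bot (maximalIdeal R) (maximalIdeal R)
        (IsNoetherian.noetherian _) ?_ ?_
      · rw [smul_eq_mul, ← pow_two]
        exact hle
      · rw [IsLocalRing.jacobson_eq_maximalIdeal ⊥ bot_ne_top]
    · have hp' : p ∈ associatedPrimes R R := by simpa using hp
      have hprime : p.IsPrime := hp'.isPrime
      have : maximalIdeal R = p := (maximalIdeal.isMaximal R).eq_of_le hprime.ne_top hle
      exact hass (this ▸ hp')
  · intro p hp hne _
    rw [Finset.mem_insert] at hp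
    rcases hp with rfl | hp
    · exact absurd rfl hne
    · have hp' : p ∈ associatedPrimes R R := by simpa using hp
      exact hp'.isPrime

end PrimeAvoidance

section Splitting

variable (R : Type u) [CommRing R] [IsLocalRing R] (x : R)

/-- A linear functional on the maximal ideal with value `1` at `x ∉ m²`, killing `x • m`. -/
theorem exists_functional (hx : x ∈ maximalIdeal R) (hx2 : x ∉ maximalIdeal R ^ 2) :
    ∃ φ : maximalIdeal R →ₗ[R] ResidueField R, φ ⟨x, hx⟩ = 1 ∧
      ∀ y : maximalIdeal R, φ (x • y) = 0 := by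
  have hv : (maximalIdeal R).toCotangent ⟨x, hx⟩ ≠ 0 := by
    rw [Ne, Ideal.toCotangent_eq_zero]
    exact hx2
  obtain ⟨f, hf⟩ := Module.Projective.exists_dual_eq_one (ResidueField R)
    (V := CotangentSpace R) hv
  refine ⟨(f.restrictScalars R).comp (maximalIdeal R).toCotangent, hf, ?_⟩
  intro y
  have h0 : (maximalIdeal R).toCotangent (x • y) = 0 := by
    rw [Ideal.toCotangent_eq_zero, pow_two]
    exact Ideal.mul_mem_mul hx y.2
  rw [LinearMap.comp_apply, h0, map_zero]

variable [IsLocalRing (R ⧸ Ideal.span {x})]

/-- The `R`-linear map between residue fields `k(R) → k(R/x)`. -/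
noncomputable def resMap : ResidueField R →ₗ[R] ResidueField (R ⧸ Ideal.span {x}) :=
  have : IsLocalHom (Ideal.Quotient.mk (Ideal.span {x})) :=
    IsLocalHom.of_surjective _ Ideal.Quotient.mk_surjective
  { toFun := ResidueField.map (Ideal.Quotient.mk (Ideal.span {x}))
    map_add' := map_add _
    map_smul' := by
      intro a y
      rw [Algebra.smul_def, map_mul, RingHom.id_apply, Algebra.smul_def,
        ResidueField.algebraMap_eq, ResidueField.map_residue,
        IsScalarTower.algebraMap_apply R (R ⧸ Ideal.span {x})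
          (ResidueField (R ⧸ Ideal.span {x})) a, ResidueField.algebraMap_eq,
        Ideal.Quotient.algebraMap_eq] }

theorem resMap_one : resMap R x 1 = 1 := by
  have : IsLocalHom (Ideal.Quotient.mk (Ideal.span {x})) :=
    IsLocalHom.of_surjective _ Ideal.Quotient.mk_surjective
  exact map_one (ResidueField.map (Ideal.Quotient.mk (Ideal.span {x})))

/-- For `x ∈ m \ m²`, the residue field of `R/x` is a direct summand of `m/xm` as an
`R/x`-module. -/
theorem exists_retract (hx : x ∈ maximalIdeal R) (hx2 : x ∉ maximalIdeal R ^ 2) :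
    ∃ (i : ResidueField (R ⧸ Ideal.span {x}) →ₗ[R ⧸ Ideal.span {x}]
          QuotSMulTop x (maximalIdeal R))
      (r : QuotSMulTop x (maximalIdeal R) →ₗ[R ⧸ Ideal.span {x}]
          ResidueField (R ⧸ Ideal.span {x})), r.comp i = LinearMap.id := by
  obtain ⟨φ, hφ1, hφ0⟩ := exists_functional R x hx hx2
  -- the class of `x` in `m/xm`
  let xbar : QuotSMulTop x (maximalIdeal R) := Submodule.Quotient.mk ⟨x, hx⟩
  have hkill : ∀ a' ∈ maximalIdeal (R ⧸ Ideal.span {x}), a' • xbar = 0 := by
    intro a' ha'
    obtain ⟨a, rfl⟩ := Ideal.Quotient.mk_surjective a'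
    have ha : a ∈ maximalIdeal R := by
      by_contra hna
      have hu : IsUnit a := by
        by_contra hnu
        exact hna ((IsLocalRing.mem_maximalIdeal a).mpr hnu)
      exact ((IsLocalRing.mem_maximalIdeal _).mp ha') (hu.map (Ideal.Quotient.mk _))
    have h1 : (Ideal.Quotient.mk (Ideal.span {x}) a) • xbar = a • xbar := by
      rw [← Ideal.Quotient.algebraMap_eq, algebraMap_smul]
    rw [h1]
    have h2 : a • (⟨x, hx⟩ : maximalIdeal R) = x • (⟨a, ha⟩ : maximalIdeal R) := by
      ext
      simp [mul_comm]
    show a • Submodule.Quotient.mk (⟨x, hx⟩ : maximalIdeal R) = 0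
    rw [← Submodule.Quotient.mk_smul, h2, Submodule.Quotient.mk_eq_zero]
    exact Submodule.smul_mem_pointwise_smul _ x ⊤ Submodule.mem_top
  let ψ₀ : ((R ⧸ Ideal.span {x}) ⧸ maximalIdeal (R ⧸ Ideal.span {x}))
      →ₗ[R ⧸ Ideal.span {x}] QuotSMulTop x (maximalIdeal R) :=
    Submodule.liftQ _ (LinearMap.toSpanSingleton (R ⧸ Ideal.span {x}) _ xbar) (by
      intro a' ha'
      rw [LinearMap.mem_ker, LinearMap.toSpanSingleton_apply]
      exact hkill a' ha')
  have hle : x • (⊤ : Submodule R (maximalIdeal R)) ≤ LinearMap.ker ((resMap R x).comp φ) := by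
    intro y hy
    obtain ⟨z, -, rfl⟩ := (Submodule.mem_smul_pointwise_iff_exists _ _ _).mp hy
    rw [LinearMap.mem_ker, LinearMap.comp_apply, hφ0, map_zero]
  let r₀ : QuotSMulTop x (maximalIdeal R) →ₗ[R] ResidueField (R ⧸ Ideal.span {x}) :=
    Submodule.liftQ _ ((resMap R x).comp φ) hle
  refine ⟨ψ₀.comp (Groth.Agent.Lib.Helper29.residueFieldLinearEquiv
    (R ⧸ Ideal.span {x})).symm.toLinearMap,
    r₀.extendScalarsOfSurjective (Ideal.Quotient.mk_surjective (I := Ideal.span {x})), ?_⟩
  apply LinearMap.ext
  intro y
  obtain ⟨a', rfl⟩ := IsLocalRing.residue_surjective y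
  have h1 : (ψ₀.comp (Groth.Agent.Lib.Helper29.residueFieldLinearEquiv
    (R ⧸ Ideal.span {x})).symm.toLinearMap) (IsLocalRing.residue _ a') = a' • xbar := rfl
  rw [LinearMap.comp_apply, h1, map_smul, LinearMap.id_apply]
  have h2 : (r₀.extendScalarsOfSurjective
      (Ideal.Quotient.mk_surjective (I := Ideal.span {x}))) xbar = 1 := by
    show resMap R x (φ ⟨x, hx⟩) = 1
    rw [hφ1, resMap_one]
  rw [h2, Algebra.smul_def, mul_one]
  rfl

end Splitting

section Main

/-- `pd_R(m) < n + 1` if `pd_R(k) < n + 2`. -/
theorem hasProjectiveDimensionLT_maximalIdeal (R : Type u) [CommRing R] [IsLocalRing R] (n : ℕ)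
    (h : HasProjectiveDimensionLT (ModuleCat.of R (ResidueField R)) (n + 2)) :
    HasProjectiveDimensionLT (ModuleCat.of R (maximalIdeal R)) (n + 1) := by
  let π : R →ₗ[R] ResidueField R := Algebra.linearMap R (ResidueField R)
  have hπ : Function.Surjective π := IsLocalRing.residue_surjective
  have S_exact := LinearMap.shortExact_shortComplexKer hπ
  have proj : Projective π.shortComplexKer.X₂ :=
    (IsProjective.iff_projective (R := R) (P := R)).mp inferInstance
  have hK : HasProjectiveDimensionLT (ModuleCat.of R (LinearMap.ker π)) (n + 1) :=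
    (S_exact.hasProjectiveDimensionLT_X₃_iff n proj).mp h
  have hker : LinearMap.ker π = maximalIdeal R := by
    ext a
    rw [LinearMap.mem_ker]
    exact Ideal.Quotient.eq_zero_iff_mem
  exact hasProjectiveDimensionLT_of_iso (LinearEquiv.ofEq _ _ hker).toModuleIso (n + 1)

/-- **Serre's converse**: a Noetherian local ring whose residue field has finite projective
dimension is regular. -/
theorem isRegularLocalRing_of_hasProjectiveDimensionLT_residueField (n : ℕ) :
    ∀ (R : Type u) [CommRing R] [IsLocalRing R] [IsNoetherianRing R],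
      HasProjectiveDimensionLT (ModuleCat.of R (ResidueField R)) n → IsRegularLocalRing R := by
  induction n with
  | zero =>
    intro R _ _ _ h
    exfalso
    have hz : Limits.IsZero (ModuleCat.of R (ResidueField R)) :=
      (hasProjectiveDimensionLT_zero_iff_isZero _).mp h
    have := ModuleCat.subsingleton_of_isZero hz
    exact not_subsingleton (ResidueField R) this
  | succ n ih =>
    intro R _ _ _ h
    by_cases hm : maximalIdeal R = ⊥
    · apply IsRegularLocalRing.of_spanFinrank_maximalIdeal_le
      rw [hm, Submodule.spanFinrank_bot]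
      exact ringKrullDim_nonneg_of_nontrivial
    · have hass : maximalIdeal R ∉ associatedPrimes R R :=
        fun hass => hm (maximalIdeal_eq_bot_of_mem_ass R hass _ h)
      obtain ⟨x, hx, hx2, hreg⟩ := exists_regular_not_mem_sq R hm hass
      cases n with
      | zero =>
        exfalso
        apply hm
        rw [zero_add, ← projective_iff_hasProjectiveDimensionLT_one,
          ← IsProjective.iff_projective] at h
        exact maximalIdeal_eq_bot_of_projective_residueField R h
      | succ n =>
        have hmpd := hasProjectiveDimensionLT_maximalIdeal R n h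
        have hne : Ideal.span {x} ≠ ⊤ := by
          rw [Ne, Ideal.span_singleton_eq_top]
          exact (IsLocalRing.mem_maximalIdeal x).mp hx
        have : Nontrivial (R ⧸ Ideal.span {x}) := Ideal.Quotient.nontrivial_iff.mpr hne
        have : IsLocalRing (R ⧸ Ideal.span {x}) :=
          IsLocalRing.of_surjective' (Ideal.Quotient.mk _) Ideal.Quotient.mk_surjective
        have hreg_m : IsSMulRegular (maximalIdeal R) x := hreg.submodule _ x
        have h1 := hasProjectiveDimensionLT_quotSMulTop R x hreg n (maximalIdeal R) hreg_m hmpd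
        obtain ⟨i, r, hri⟩ := exists_retract R x hx hx2
        have retr : Retract (ModuleCat.of (R ⧸ Ideal.span {x}) (ResidueField (R ⧸ Ideal.span {x})))
            (ModuleCat.of (R ⧸ Ideal.span {x}) (QuotSMulTop x (maximalIdeal R))) :=
          ⟨ModuleCat.ofHom i, ModuleCat.ofHom r, by
            rw [← ModuleCat.ofHom_comp, hri]; rfl⟩
        have h2 := retr.hasProjectiveDimensionLT (n + 1)
        have : IsRegularLocalRing (R ⧸ Ideal.span {x}) := ih (R ⧸ Ideal.span {x}) h2
        refine Groth.Agent.S0560.result R x hx ?_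
        rw [mem_nonZeroDivisors_iff_right]
        intro y hy
        exact hreg (show x • y = x • 0 by rw [smul_eq_mul, smul_eq_mul, mul_comm, hy, mul_zero])

end Main

end Groth.Agent.Lib.Helper33
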