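import Mathlib
import Groth.Agent.Lib.Helper29.AssDepth

/-!
# Global dimension of Noetherian local rings via the residue field (helper33)

* `hasProjectiveDimensionLT_quotient`: `A` Noetherian local, `pd k ≤ n`; then every quotient `M ⧸ N`
  of a finite module has `pd ≤ n` (Noetherian induction on `N`).
* `hasProjectiveDimensionLT_of_finite`: every finite `A`-module has `pd ≤ n`.
-/

set_option autoImplicit false
universe u

namespace Groth.Agent.Lib.Helper33

open CategoryTheory IsLocalRing Pointwise

variable (A : Type u) [CommRing A] [IsLocalRing A] [IsNoetherianRing A]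

omit [IsLocalRing A] [IsNoetherianRing A] in
/-- transport of projective dimension along a linear equivalence -/
theorem hasProjectiveDimensionLT_of_linearEquiv {M N : Type u} [AddCommGroup M] [Module A M]
    [AddCommGroup N] [Module A N] (e : M ≃ₗ[A] N) (n : ℕ)
    (h : HasProjectiveDimensionLT (ModuleCat.of A M) n) :
    HasProjectiveDimensionLT (ModuleCat.of A N) n :=
  hasProjectiveDimensionLT_of_iso e.toModuleIso n

/-- For a submodule `K` of `M ⧸ N`, the quotient `(M ⧸ N) ⧸ K` is `M ⧸ comap K`. -/
noncomputable def quotQuotEquiv {M : Type u} [AddCommGroup M] [Module A M] (N : Submodule A M)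
    (K : Submodule A (M ⧸ N)) : ((M ⧸ N) ⧸ K) ≃ₗ[A] M ⧸ (K.comap N.mkQ) :=
  (Submodule.quotEquivOfEq _ _
    (Submodule.map_comap_eq_of_surjective (Submodule.mkQ_surjective N) K).symm).trans
    (Submodule.quotientQuotientEquivQuotient N (K.comap N.mkQ)
      (fun x hx => by
        rw [Submodule.mem_comap, Submodule.mkQ_apply, (Submodule.Quotient.mk_eq_zero N).mpr hx]
        exact K.zero_mem))

omit [IsLocalRing A] [IsNoetherianRing A] in
theorem lt_comap_of_ne_bot {M : Type u} [AddCommGroup M] [Module A M] (N : Submodule A M)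
    (K : Submodule A (M ⧸ N)) (hK : K ≠ ⊥) : N < K.comap N.mkQ := by
  refine lt_of_le_of_ne (fun x hx => ?_) ?_
  · rw [Submodule.mem_comap, Submodule.mkQ_apply, (Submodule.Quotient.mk_eq_zero N).mpr hx]
    exact K.zero_mem
  · intro h
    apply hK
    rw [eq_bot_iff]
    intro z hz
    obtain ⟨w, rfl⟩ := Submodule.mkQ_surjective N z
    have : w ∈ K.comap N.mkQ := hz
    rw [← h] at this
    rw [Submodule.mem_bot, Submodule.mkQ_apply, Submodule.Quotient.mk_eq_zero]
    exact this

theorem hasProjectiveDimensionLT_quotient (n : ℕ)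
    (hk : HasProjectiveDimensionLT (ModuleCat.of A (ResidueField A)) (n + 1))
    (M : Type u) [AddCommGroup M] [Module A M] [Module.Finite A M] (N : Submodule A M) :
    HasProjectiveDimensionLT (ModuleCat.of A (M ⧸ N)) (n + 1) := by
  induction N using WellFoundedGT.induction with
  | ind N ih =>
  by_cases hsub : Subsingleton (M ⧸ N)
  · haveI := (ModuleCat.isZero_of_subsingleton (ModuleCat.of A (M ⧸ N))).hasProjectiveDimensionLT_zero
    exact hasProjectiveDimensionLT_of_ge _ 0 (n + 1) (Nat.zero_le _)
  · rw [not_subsingleton_iff_nontrivial] at hsub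
    by_cases hass : maximalIdeal A ∈ associatedPrimes A (M ⧸ N)
    · -- the residue field embeds
      rw [AssociatedPrimes.mem_iff, isAssociatedPrime_iff_exists_injective_linearMap] at hass
      obtain ⟨_, f, hf⟩ := hass
      let K : Submodule A (M ⧸ N) := LinearMap.range f
      have hKne : K ≠ ⊥ := by
        intro h
        rw [LinearMap.range_eq_bot] at h
        have h1 : f (Submodule.Quotient.mk (1 : A)) = 0 := by rw [h]; rfl
        have h2 : (Submodule.Quotient.mk (1 : A) : A ⧸ maximalIdeal A) = 0 :=
          hf (by rw [h1, map_zero])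
        rw [Submodule.Quotient.mk_eq_zero] at h2
        exact (maximalIdeal.isMaximal A).ne_top ((Ideal.eq_top_iff_one _).mpr h2)
      have h3 : HasProjectiveDimensionLT (ModuleCat.of A ((M ⧸ N) ⧸ K)) (n + 1) :=
        hasProjectiveDimensionLT_of_linearEquiv A (quotQuotEquiv A N K).symm _
          (ih _ (lt_comap_of_ne_bot A N K hKne))
      have hS := LinearMap.shortExact_shortComplexKer (Submodule.mkQ_surjective K)
      have e1 : (A ⧸ maximalIdeal A) ≃ₗ[A] LinearMap.ker K.mkQ :=
        (LinearEquiv.ofInjective f hf).trans (LinearEquiv.ofEq _ _ (Submodule.ker_mkQ K).symm)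
      have h1 : HasProjectiveDimensionLT (ModuleCat.of A (LinearMap.ker K.mkQ)) (n + 1) :=
        hasProjectiveDimensionLT_of_linearEquiv A
          ((Groth.Agent.Lib.Helper29.residueFieldLinearEquiv A).symm.trans e1) _ hk
      exact hS.hasProjectiveDimensionLT_X₂ (n + 1) h1 h3
    · -- there is a regular element in the maximal ideal
      rw [← Groth.Agent.Lib.Helper29.forall_not_isSMulRegular_iff_maximalIdeal_mem_ass] at hass
      push Not at hass
      obtain ⟨x, hxm, hxreg⟩ := hass
      let K : Submodule A (M ⧸ N) := x • (⊤ : Submodule A (M ⧸ N))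
      have hKne : K ≠ ⊥ := by
        intro h
        obtain ⟨y, hy⟩ := exists_ne (0 : M ⧸ N)
        apply hy
        have : x • y ∈ K := Submodule.smul_mem_pointwise_smul y x ⊤ Submodule.mem_top
        rw [h, Submodule.mem_bot] at this
        exact hxreg (show x • y = x • 0 by rw [this, smul_zero])
      have h3 : HasProjectiveDimensionLT (ModuleCat.of A (QuotSMulTop x (M ⧸ N))) (n + 1) :=
        hasProjectiveDimensionLT_of_linearEquiv A (quotQuotEquiv A N K).symm _
          (ih _ (lt_comap_of_ne_bot A N K hKne))
      have h4 := ModuleCat.projectiveDimension_quotSMulTop_eq_succ_of_isSMulRegular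
        (ModuleCat.of A (M ⧸ N)) x hxreg hxm
      have h5 : projectiveDimension (ModuleCat.of A (QuotSMulTop x (M ⧸ N))) ≤ n :=
        (projectiveDimension_le_iff _ n).mpr h3
      have h6 : projectiveDimension (ModuleCat.of A (M ⧸ N)) ≤ n := by
        refine le_trans ?_ (h4 ▸ h5)
        exact le_add_of_nonneg_right (by decide)
      exact (projectiveDimension_le_iff _ n).mp h6

theorem hasProjectiveDimensionLT_of_finite (n : ℕ)
    (hk : HasProjectiveDimensionLT (ModuleCat.of A (ResidueField A)) (n + 1))
    (M : Type u) [AddCommGroup M] [Module A M] [Module.Finite A M] :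
    HasProjectiveDimensionLT (ModuleCat.of A M) (n + 1) :=
  hasProjectiveDimensionLT_of_linearEquiv A (Submodule.quotEquivOfEqBot (⊥ : Submodule A M) rfl) _
    (hasProjectiveDimensionLT_quotient A n hk M ⊥)

end Groth.Agent.Lib.Helper33
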