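import Mathlib

/-!
# Faithfully flat descent of projective dimension (helper33)

`R` Noetherian, `S` faithfully flat over `R`, `M` a finite `R`-module:
`pd_S (S ⊗_R M) ≤ n → pd_R M ≤ n`.
-/

set_option autoImplicit false
universe u
open CategoryTheory TensorProduct

namespace Groth.Agent.Lib.Helper33

/-- One step: base change of a short exact sequence `0 → K → P → M → 0` along a flat algebra, with
`P` projective: `pd_S(S ⊗ M) < n + 2 ↔ pd_S(S ⊗ K) < n + 1`. -/
theorem hasProjectiveDimensionLT_baseChange_step (R S : Type u) [CommRing R] [CommRing S]
    [Algebra R S] [Module.Flat R S] {K P M : Type u} [AddCommGroup K] [Module R K]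
    [AddCommGroup P] [Module R P] [AddCommGroup M] [Module R M] [Module.Projective R P]
    (ι : K →ₗ[R] P) (π : P →ₗ[R] M) (hι : Function.Injective ι) (hex : Function.Exact ι π)
    (hπ : Function.Surjective π) (n : ℕ) :
    HasProjectiveDimensionLT (ModuleCat.of S (S ⊗[R] M)) (n + 2) ↔
      HasProjectiveDimensionLT (ModuleCat.of S (S ⊗[R] K)) (n + 1) := by
  have hexS : Function.Exact (ι.baseChange S) (π.baseChange S) :=
    Module.Flat.lTensor_exact S hex
  let T := ModuleCat.shortComplexOfCompEqZero (ι.baseChange S) (π.baseChange S)
    (LinearMap.ext fun y => hexS.apply_apply_eq_zero y)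
  have T_exact : T.ShortExact := ModuleCat.shortComplex_shortExact T hexS
    (Module.Flat.lTensor_preserves_injective_linearMap ι hι)
    (LinearMap.lTensor_surjective S hπ)
  have projT : Projective T.X₂ :=
    (IsProjective.iff_projective (R := S) (P := S ⊗[R] P)).mp inferInstance
  exact T_exact.hasProjectiveDimensionLT_X₃_iff n projT

/-- Faithfully flat descent of projective dimension for finite modules over a Noetherian ring. -/
theorem hasProjectiveDimensionLT_of_baseChange (R S : Type u) [CommRing R] [CommRing S]
    [Algebra R S] [IsNoetherianRing R] [Module.FaithfullyFlat R S] (n : ℕ) :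
    ∀ (M : Type u) [AddCommGroup M] [Module R M] [Module.Finite R M],
      HasProjectiveDimensionLT (ModuleCat.of S (S ⊗[R] M)) (n + 1) →
      HasProjectiveDimensionLT (ModuleCat.of R M) (n + 1) := by
  induction n with
  | zero =>
    intro M _ _ _ h
    rw [zero_add, ← projective_iff_hasProjectiveDimensionLT_one,
      ← IsProjective.iff_projective] at h ⊢
    have : Module.Flat S (S ⊗[R] M) := inferInstance
    have : Module.Flat R M := Module.Flat.of_flat_tensorProduct R M S
    have : Module.FinitePresentation R M := Module.finitePresentation_of_finite R M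
    exact Module.Flat.projective_of_finitePresentation
  | succ n ih =>
    intro M _ _ _ h
    rcases Module.exists_finite_presentation R M with ⟨P, _, _, _, _, f, surjf⟩
    have S_exact := LinearMap.shortExact_shortComplexKer surjf
    have proj : Projective f.shortComplexKer.X₂ :=
      (IsProjective.iff_projective (R := R) (P := P)).mp inferInstance
    have hK : HasProjectiveDimensionLT (ModuleCat.of S (S ⊗[R] (LinearMap.ker f))) (n + 1) :=
      (hasProjectiveDimensionLT_baseChange_step R S (LinearMap.ker f).subtype f
        (Submodule.injective_subtype _) (LinearMap.exact_subtype_ker_map f) surjf n).mp h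
    have := ih (LinearMap.ker f) hK
    exact (S_exact.hasProjectiveDimensionLT_X₃_iff n proj).mpr this

end Groth.Agent.Lib.Helper33
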