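import Mathlib
import Groth.Prelude.Def_GrSyz

/-!
# Homogeneous primes in the standard graded polynomial ring
-/

set_option autoImplicit false
universe u
open MvPolynomial

namespace Groth.Agent.Lib.Helper33.HomogPrimes

section General

variable {ι A σ : Type*} [CommRing A] [SetLike σ A] [AddSubmonoidClass σ A]
  [AddCommMonoid ι] [LinearOrder ι] [IsOrderedCancelAddMonoid ι]
  (𝒜 : ι → σ) [GradedRing 𝒜]

/-- Minimal primes over a homogeneous ideal are homogeneous. -/
theorem isHomogeneous_of_mem_minimalPrimes {I p : Ideal A} (hI : I.IsHomogeneous 𝒜)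
    (hp : p ∈ I.minimalPrimes) : p.IsHomogeneous 𝒜 := by
  have hprime : p.IsPrime := hp.1.1
  have hcore : (p.homogeneousCore 𝒜).toIdeal.IsPrime := Ideal.IsPrime.homogeneousCore hprime
  have hle : I ≤ (p.homogeneousCore 𝒜).toIdeal := by
    rw [← hI.toIdeal_homogeneousCore_eq_self]
    exact Ideal.homogeneousCore_mono 𝒜 hp.1.2
  have h1 : p ≤ (p.homogeneousCore 𝒜).toIdeal :=
    hp.2 ⟨hcore, hle⟩ (Ideal.toIdeal_homogeneousCore_le 𝒜 p)
  rw [Ideal.IsHomogeneous.iff_eq]
  exact le_antisymm (Ideal.toIdeal_homogeneousCore_le 𝒜 p) h1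

end General

section Std

variable (K : Type u) [Field K] (σ : Type*)

theorem weight_one_eq_zero_iff (d : σ →₀ ℕ) :
    Finsupp.weight (fun _ : σ => (1 : ℤ)) d = 0 ↔ d = 0 := by
  constructor
  · intro h
    rw [Finsupp.weight_apply, Finsupp.sum] at h
    have h2 := (Finset.sum_eq_zero_iff_of_nonneg (fun i _ => by positivity)).1 h
    ext i
    by_cases hi : i ∈ d.support
    · have := h2 i hi
      simpa using this
    · simpa using hi
  · rintro rfl
    simp

/-- A proper homogeneous ideal of the standard graded polynomial ring over a field is contained in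
the ideal of polynomials without constant term. -/
theorem le_ker_constantCoeff {p : Ideal (MvPolynomial σ K)}
    (hp : p.IsHomogeneous (GrSyz.stdGr K σ)) (hne : p ≠ ⊤) :
    p ≤ RingHom.ker (constantCoeff : MvPolynomial σ K →+* K) := by
  classical
  intro f hf
  rw [RingHom.mem_ker]
  by_contra ha
  apply hne
  have hg : weightedHomogeneousComponent (fun _ : σ => (1 : ℤ)) 0 f ∈ p :=
    MvPolynomial.weightedHomogeneousComponent_mem_of_mem K (fun _ : σ => (1 : ℤ)) hp hf 0
  have hgC : weightedHomogeneousComponent (fun _ : σ => (1 : ℤ)) 0 f = C (constantCoeff f) := by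
    ext d
    rw [coeff_weightedHomogeneousComponent, coeff_C]
    by_cases hd : d = 0
    · subst hd
      simp [constantCoeff_eq]
    · rw [if_neg (fun h => hd ((weight_one_eq_zero_iff σ d).1 h)), if_neg (Ne.symm hd)]
  rw [hgC] at hg
  rw [Ideal.eq_top_iff_one]
  have : (1 : MvPolynomial σ K) = C (constantCoeff f)⁻¹ * C (constantCoeff f) := by
    rw [← C_mul, inv_mul_cancel₀ ha, C_1]
  rw [this]
  exact p.mul_mem_left _ hg

end Std

end Groth.Agent.Lib.Helper33.HomogPrimes
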