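import Mathlib
import Groth.Prelude.Def_CAlg
import Groth.Agent.Lib.Helper29.CM
import Groth.Agent.Lib.Helper49.Serre2
import Groth.Agent.Lib.Helper49.CMQuot
import Groth.Agent.S0341
import Groth.Agent.S5671

/-!
# Dimension formula for Cohen–Macaulay rings and unmixedness
-/

set_option autoImplicit false
universe u
open IsLocalRing

namespace Groth.Agent.Lib.Helper33.Unmixed

/-- In a Cohen–Macaulay local ring, `dim A = dim A/q + ht q` for every prime `q`. -/
theorem ringKrullDim_eq_quotient_add_height (A : Type u) [CommRing A]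
    [LocCoh.IsCohenMacaulayLocalRing A] (q : Ideal A) [q.IsPrime] :
    ringKrullDim A = ringKrullDim (A ⧸ q) + (q.height : WithBot ℕ∞) := by
  have hM : LocCoh.IsCohenMacaulayModule A A :=
    LocCoh.IsCohenMacaulayLocalRing.supportDim_eq_depth
  have hsupp : (⟨q, inferInstance⟩ : PrimeSpectrum A) ∈ Module.support A A := by
    rw [Module.support_eq_zeroLocus, Module.annihilator_eq_bot.mpr inferInstance]
    simp
  obtain ⟨-, h2⟩ := Groth.Agent.Lib.Helper29.CMLib.isCM_localizedModule_and_dim A A hM ⟨q, inferInstance⟩ hsupp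
  rw [Module.supportDim_self_eq_ringKrullDim,
    Groth.Agent.Lib.Helper29.CMLib.supportDim_quotient_smul_top_eq A A ⟨q, inferInstance⟩ hsupp,
    Groth.Agent.Lib.Helper49.Serre.supportDim_localizedModule_self] at h2
  exact h2


/-- In a Cohen–Macaulay ring `S`, for a prime `p` and a prime `q` of `S/p` with contraction `P`:
`ht P = ht p + ht q`. -/
theorem height_comap_eq_add (S : Type u) [CommRing S] [LocCoh.IsCohenMacaulayRing S]
    (p : Ideal S) [p.IsPrime] (q : Ideal (S ⧸ p)) [q.IsPrime] :
    (q.comap (Ideal.Quotient.mk p)).height = p.height + q.height := by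
  set P := q.comap (Ideal.Quotient.mk p) with hP
  have hPprime : P.IsPrime := Ideal.IsPrime.comap _
  have hpP : p ≤ P := by
    intro x hx
    rw [hP, Ideal.mem_comap, Ideal.Quotient.eq_zero_iff_mem.mpr hx]
    exact zero_mem _
  have hCM : LocCoh.IsCohenMacaulayLocalRing (Localization.AtPrime P) :=
    LocCoh.IsCohenMacaulayRing.isCohenMacaulayLocalRing_localization P
  have hdisj : Disjoint (P.primeCompl : Set S) (p : Set S) := by
    rw [Set.disjoint_left]
    intro x hx hx'
    exact hx (hpP hx')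
  have hpA : (p.map (algebraMap S (Localization.AtPrime P))).IsPrime :=
    IsLocalization.isPrime_of_isPrime_disjoint P.primeCompl _ p inferInstance hdisj
  have hht : (p.map (algebraMap S (Localization.AtPrime P))).height = p.height := by
    have h1 := IsLocalization.height_under P.primeCompl (A := Localization.AtPrime P)
      (p.map (algebraMap S (Localization.AtPrime P)))
    have h2 : (p.map (algebraMap S (Localization.AtPrime P))).under S = p :=
      IsLocalization.under_map_of_isPrime_disjoint P.primeCompl _ inferInstance hdisj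
    rw [← h1, h2]
  have key := ringKrullDim_eq_quotient_add_height (Localization.AtPrime P)
    (p.map (algebraMap S (Localization.AtPrime P)))
  have e := Groth.Agent.Lib.Helper49.CMQuot.localizationQuotientEquiv p q
  rw [IsLocalization.AtPrime.ringKrullDim_eq_height P (Localization.AtPrime P),
    ← ringKrullDim_eq_of_ringEquiv e,
    IsLocalization.AtPrime.ringKrullDim_eq_height q (Localization.AtPrime q), hht] at key
  rw [add_comm]
  exact_mod_cast key


/-- Comparison of heights: `R` and `R/𝔠` Cohen–Macaulay rings, `p` a minimal prime of `𝔠` contained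
in a prime `m`. Then `ht m = ht p + ht (m/𝔠)`. -/
theorem height_eq_add_of_mem_minimalPrimes (R : Type u) [CommRing R] [LocCoh.IsCohenMacaulayRing R]
    (𝔠 : Ideal R) [LocCoh.IsCohenMacaulayRing (R ⧸ 𝔠)] (m : Ideal R) [m.IsPrime] (p : Ideal R)
    (hp : p ∈ 𝔠.minimalPrimes) (hpm : p ≤ m) :
    m.height = p.height + (m.map (Ideal.Quotient.mk 𝔠)).height := by
  have hpprime : p.IsPrime := hp.1.1
  have hcp : 𝔠 ≤ p := hp.1.2
  -- the prime `m/p` of `R/p`
  have hq₁ : (m.map (Ideal.Quotient.mk p)).IsPrime :=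
    Ideal.map_isPrime_of_surjective Ideal.Quotient.mk_surjective (by rwa [Ideal.mk_ker])
  have hq₁c : (m.map (Ideal.Quotient.mk p)).comap (Ideal.Quotient.mk p) = m := by
    rw [Ideal.comap_map_of_surjective _ Ideal.Quotient.mk_surjective, ← RingHom.ker_eq_comap_bot,
      Ideal.mk_ker]
    exact sup_eq_left.mpr hpm
  have h1 := height_comap_eq_add R p (m.map (Ideal.Quotient.mk p))
  rw [hq₁c] at h1
  -- the minimal prime `p/𝔠` of `R/𝔠`
  have hpbar : (p.map (Ideal.Quotient.mk 𝔠)).IsPrime :=
    Ideal.map_isPrime_of_surjective Ideal.Quotient.mk_surjective (by rwa [Ideal.mk_ker])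
  have hpbarmin : p.map (Ideal.Quotient.mk 𝔠) ∈ minimalPrimes (R ⧸ 𝔠) := by
    have h2 := hp
    rw [Ideal.minimalPrimes_eq_comap] at h2
    obtain ⟨Q, hQ, hQp⟩ := h2
    rw [← hQp, Ideal.map_comap_of_surjective _ Ideal.Quotient.mk_surjective]
    exact hQ
  have hpbar0 : (p.map (Ideal.Quotient.mk 𝔠)).height = 0 := Ideal.height_eq_zero_iff.mpr hpbarmin
  let e : (R ⧸ 𝔠) ⧸ p.map (Ideal.Quotient.mk 𝔠) ≃+* R ⧸ p := DoubleQuot.quotQuotEquivQuotOfLE hcp
  have hq₂ : ((m.map (Ideal.Quotient.mk p)).comap e.toRingHom).IsPrime := Ideal.IsPrime.comap _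
  have hq₂h : ((m.map (Ideal.Quotient.mk p)).comap e.toRingHom).height =
      (m.map (Ideal.Quotient.mk p)).height := RingEquiv.height_comap e _
  have hq₂c : ((m.map (Ideal.Quotient.mk p)).comap e.toRingHom).comap
      (Ideal.Quotient.mk (p.map (Ideal.Quotient.mk 𝔠))) = m.map (Ideal.Quotient.mk 𝔠) := by
    apply Ideal.comap_injective_of_surjective (Ideal.Quotient.mk 𝔠) Ideal.Quotient.mk_surjective
    rw [Ideal.comap_comap, Ideal.comap_comap,
      Ideal.comap_map_of_surjective _ Ideal.Quotient.mk_surjective, ← RingHom.ker_eq_comap_bot,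
      Ideal.mk_ker]
    have hcomp : e.toRingHom.comp ((Ideal.Quotient.mk (p.map (Ideal.Quotient.mk 𝔠))).comp
        (Ideal.Quotient.mk 𝔠)) = Ideal.Quotient.mk p := by
      ext x
      rfl
    rw [hcomp, hq₁c]
    exact (sup_eq_left.mpr (hcp.trans hpm)).symm
  have h2 := height_comap_eq_add (R ⧸ 𝔠) (p.map (Ideal.Quotient.mk 𝔠))
    ((m.map (Ideal.Quotient.mk p)).comap e.toRingHom)
  rw [hq₂c, hpbar0, zero_add, hq₂h] at h2
  rw [h1, h2]


/-- Associated primes of `R/(𝔠 : I)` are associated primes of `R/𝔠`. -/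
theorem associatedPrimes_colon_subset (R : Type u) [CommRing R] [IsNoetherianRing R]
    (𝔠 I : Ideal R) :
    associatedPrimes R (R ⧸ 𝔠.colon (I : Set R)) ⊆ associatedPrimes R (R ⧸ 𝔠) := by
  classical
  intro p hp
  obtain ⟨hprime, xbar, hx⟩ := isAssociatedPrime_iff.1 hp
  obtain ⟨x, rfl⟩ := Ideal.Quotient.mk_surjective xbar
  obtain ⟨s, hs⟩ : ∃ s : Finset R, Ideal.span (s : Set R) = I :=
    (isNoetherianRing_iff_ideal_fg R).mp inferInstance I
  have hmem : ∀ r : R, r ∈ p ↔ ∀ i ∈ s, r * x * i ∈ 𝔠 := by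
    intro r
    rw [hx, Submodule.mem_colon_singleton, Submodule.mem_bot, Algebra.smul_def,
      Ideal.Quotient.algebraMap_eq, ← map_mul, Ideal.Quotient.eq_zero_iff_mem,
      Submodule.mem_colon]
    constructor
    · intro h i hi
      have := h i (hs ▸ Ideal.subset_span hi)
      simpa [smul_eq_mul] using this
    · intro h i hi
      rw [← hs] at hi
      refine Submodule.span_induction ?_ ?_ ?_ ?_ hi
      · intro j hj
        simpa [smul_eq_mul] using h j hj
      · simp
      · intro a b _ _ ha hb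
        rw [smul_add]
        exact 𝔠.add_mem ha hb
      · intro a b _ hb
        rw [smul_eq_mul] at hb ⊢
        have : r * x * (a • b) = a * (r * x * b) := by rw [smul_eq_mul]; ring
        rw [this]
        exact 𝔠.mul_mem_left _ hb
  let f : R → Ideal R := fun i =>
    (⊥ : Submodule R (R ⧸ 𝔠)).colon {Ideal.Quotient.mk 𝔠 (x * i)}
  have hf : ∀ (i r : R), r ∈ f i ↔ r * x * i ∈ 𝔠 := by
    intro i r
    simp only [f]
    rw [Submodule.mem_colon_singleton, Submodule.mem_bot, Algebra.smul_def,
      Ideal.Quotient.algebraMap_eq, ← map_mul, Ideal.Quotient.eq_zero_iff_mem, mul_assoc]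
  have hle : s.inf f ≤ p := by
    intro r hr
    rw [hmem]
    intro i hi
    rw [← hf]
    exact (Finset.inf_le hi : s.inf f ≤ f i) hr
  obtain ⟨i, hi, hfi⟩ := (Ideal.IsPrime.inf_le' hprime).1 hle
  have hpf : p = f i := by
    apply le_antisymm _ hfi
    intro r hr
    rw [hf]
    exact (hmem r).1 hr i hi
  exact isAssociatedPrime_iff.2 ⟨hprime, _, hpf⟩

end Groth.Agent.Lib.Helper33.Unmixed
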