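import Mathlib

/-!
# Vanishing of morphisms in the derived category from global dimension (helper33)

* `exists_Q_map_eq`: morphisms in `D(C)` out of a K-projective complex come from chain maps.
* `hom_single_projective_eq_zero`: `Hom(P[-j], L) = 0` for `P` projective, `L ∈ D^{≤ m}`, `m < j`.
* `hom_single_eq_zero_of_pd'`: `Hom(M[-j], L) = 0` for `pd M ≤ e`, `L ∈ D^{≤ m}`, `m + e < j`.
* `hom_eq_zero_of_gldim`: if every object has `pd ≤ d`, `K ∈ D^{[a,b]}`, `L ∈ D^{≤ m}`, `m + d < a`
  then `Hom(K, L) = 0`.
-/

set_option autoImplicit false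
universe u v w
open CategoryTheory CategoryTheory.Limits DerivedCategory

namespace Groth.Agent.Lib.Helper33.DerivedHomVanish

section
variable {C : Type u} [Category.{v} C] [Abelian C] [HasDerivedCategory.{w} C]

lemma exists_Q_map_eq {S L' : CochainComplex C ℤ} [S.IsKProjective]
    (g : (Q : _ ⥤ DerivedCategory C).obj S ⟶ Q.obj L') : ∃ φ : S ⟶ L', g = Q.map φ := by
  let g' : Qh.obj ((HomotopyCategory.quotient C (ComplexShape.up ℤ)).obj S) ⟶
      Qh.obj ((HomotopyCategory.quotient C (ComplexShape.up ℤ)).obj L') :=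
    (quotientCompQhIso C).hom.app S ≫ g ≫ (quotientCompQhIso C).inv.app L'
  obtain ⟨h, hh⟩ := (CochainComplex.IsKProjective.Qh_map_bijective S
    ((HomotopyCategory.quotient C (ComplexShape.up ℤ)).obj L')).surjective g'
  obtain ⟨φ, rfl⟩ := (HomotopyCategory.quotient C (ComplexShape.up ℤ)).map_surjective h
  refine ⟨φ, ?_⟩
  have h1 := quotientCompQhIso_hom_naturality (C := C) φ
  rw [hh] at h1
  simp only [g', Category.assoc, Iso.inv_hom_id_app, Category.comp_id] at h1
  exact (cancel_epi ((quotientCompQhIso C).hom.app S)).mp h1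
end

section
variable {C : Type u} [Category.{v} C] [Abelian C] [HasDerivedCategory.{w} C]

lemma hom_single_projective_eq_zero (P : C) [Projective P] (j m : ℤ) (hjm : m < j)
    (L : DerivedCategory C) [L.IsLE m]
    (f : (DerivedCategory.singleFunctor C j).obj P ⟶ L) : f = 0 := by
  obtain ⟨L', hL', ⟨e⟩⟩ := L.exists_iso_Q_obj_of_isLE m
  let S : CochainComplex C ℤ := (CochainComplex.singleFunctor C j).obj P
  have eS : (DerivedCategory.singleFunctor C j).obj P ≅ Q.obj S :=
    (singleFunctorIsoCompQ C j).app P
  haveI : ∀ n : ℤ, Projective (S.X n) := by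
    intro n
    by_cases hn : n = j
    · subst hn
      exact Projective.of_iso (HomologicalComplex.singleObjXSelf (ComplexShape.up ℤ) n P).symm
        inferInstance
    · have hz : IsZero (S.X n) := HomologicalComplex.isZero_single_obj_X (ComplexShape.up ℤ) j P n hn
      exact hz.projective
  haveI : S.IsKProjective := CochainComplex.isKProjective_of_projective S j
  obtain ⟨φ, hφ⟩ := exists_Q_map_eq (eS.inv ≫ f ≫ e.hom)
  have hφ0 : φ = 0 := by
    ext n
    by_cases hn : n = j
    · subst hn
      exact (L'.isZero_of_isStrictlyLE m n hjm).eq_of_tgt _ _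
    · exact (HomologicalComplex.isZero_single_obj_X (ComplexShape.up ℤ) j P n hn).eq_of_src _ _
  rw [hφ0, Functor.map_zero] at hφ
  have h2 : f ≫ e.hom = 0 := by
    have := congrArg (fun t => eS.hom ≫ t) hφ
    simpa using this
  have h3 := congrArg (fun t => t ≫ e.inv) h2
  simpa using h3
end

section
variable {C : Type u} [Category.{v} C] [Abelian C] [HasDerivedCategory.{w} C] [EnoughProjectives C]

open CategoryTheory.Pretriangulated

lemma hom_single_eq_zero_of_pd : ∀ (e : ℕ) (M : C),
    HasProjectiveDimensionLT M (e + 1) → ∀ (m : ℤ), m + e < 0 →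
    ∀ (L : DerivedCategory C) [L.IsLE m]
      (f : (DerivedCategory.singleFunctor C 0).obj M ⟶ L), f = 0 := by
  intro e
  induction e with
  | zero =>
    intro M h m hm L _ f
    have hproj : Projective M := projective_iff_hasProjectiveDimensionLT_one.mpr h
    exact hom_single_projective_eq_zero M 0 m (by simpa using hm) L f
  | succ e ih =>
    intro M h m hm L _ f
    let S : ShortComplex C :=
      ShortComplex.mk (kernel.ι (Projective.π M)) (Projective.π M) (kernel.condition _)
    have hS : S.ShortExact :=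
      { exact := ShortComplex.exact_of_f_is_kernel _ (kernelIsKernel _)
        mono_f := inferInstanceAs (Mono (kernel.ι (Projective.π M)))
        epi_g := inferInstanceAs (Epi (Projective.π M)) }
    have hT := hS.singleTriangle_distinguished
    have hNpd : HasProjectiveDimensionLT S.X₁ (e + 1) := by
      have h2 : HasProjectiveDimensionLT S.X₂ (e + 1) := by
        have : Projective S.X₂ := inferInstanceAs (Projective (Projective.over M))
        infer_instance
      exact hS.hasProjectiveDimensionLT_X₁ (e + 1) h2 h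
    have h0 : hS.singleTriangle.mor₂ ≫ f = 0 :=
      hom_single_projective_eq_zero (Projective.over M) 0 m (by push_cast at hm; omega) L _
    obtain ⟨g, hg⟩ := Triangle.yoneda_exact₃ _ hT f h0
    have hL1 : (L⟦(-1 : ℤ)⟧).IsLE (m + 1) :=
      DerivedCategory.TStructure.t.isLE_shift L m (-1) (m + 1) (by omega)
    have hg0 : (shiftShiftNeg ((DerivedCategory.singleFunctor C 0).obj S.X₁) (1 : ℤ)).inv ≫
        g⟦(-1 : ℤ)⟧' = 0 :=
      ih S.X₁ hNpd (m + 1) (by push_cast at hm; omega) (L⟦(-1 : ℤ)⟧) _
    have hg1 : g⟦(-1 : ℤ)⟧' = 0 := by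
      exact (cancel_epi (shiftShiftNeg ((DerivedCategory.singleFunctor C 0).obj S.X₁)
        (1 : ℤ)).inv).mp (hg0.trans comp_zero.symm)
    have hg2 : g = 0 := (shiftFunctor (DerivedCategory C) (-1 : ℤ)).map_injective (by
      rw [hg1, Functor.map_zero])
    rw [hg, hg2]
    exact comp_zero
end

section
variable {C : Type u} [Category.{v} C] [Abelian C] [HasDerivedCategory.{w} C] [EnoughProjectives C]

open CategoryTheory.Pretriangulated

lemma hom_single_eq_zero_of_pd' (e : ℕ) (M : C) (hM : HasProjectiveDimensionLT M (e + 1))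
    (j m : ℤ) (hm : m + e < j) (L : DerivedCategory C) [L.IsLE m]
    (f : (DerivedCategory.singleFunctor C j).obj M ⟶ L) : f = 0 := by
  let ι := ((DerivedCategory.singleFunctors C).shiftIso j 0 j (by omega)).app M
  have hL1 : (L⟦j⟧).IsLE (m - j) :=
    DerivedCategory.TStructure.t.isLE_shift L m j (m - j) (by omega)
  have h0 : ι.inv ≫ f⟦j⟧' = 0 :=
    hom_single_eq_zero_of_pd e M hM (m - j) (by omega) (L⟦j⟧) _
  have h1 : f⟦j⟧' = 0 := (cancel_epi ι.inv).mp (h0.trans comp_zero.symm)
  exact (shiftFunctor (DerivedCategory C) j).map_injective (by rw [h1, Functor.map_zero])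

lemma hom_eq_zero_of_gldim (d : ℕ) (hgl : ∀ M : C, HasProjectiveDimensionLT M (d + 1)) :
    ∀ (n : ℕ) (K : DerivedCategory C) (a b : ℤ), K.IsGE a → K.IsLE b → b < a + n →
      ∀ (m : ℤ), m + d < a → ∀ (L : DerivedCategory C) [L.IsLE m] (f : K ⟶ L), f = 0 := by
  intro n
  induction n with
  | zero =>
    intro K a b hKa hKb hab m hm L _ f
    have hz : IsZero K := DerivedCategory.TStructure.t.isZero K b a (by simpa using hab)
    exact hz.eq_of_src _ _
  | succ n ih =>
    intro K a b hKa hKb hab m hm L _ f
    by_cases hlt : b < a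
    · have hz : IsZero K := DerivedCategory.TStructure.t.isZero K b a hlt
      exact hz.eq_of_src _ _
    have hle : a ≤ b := not_lt.mp hlt
    let t := (DerivedCategory.TStructure.t : Triangulated.TStructure (DerivedCategory C))
    have hT := t.triangleLTGE_distinguished b K
    have h1 : (t.truncLTι b).app K ≫ f = 0 := by
      have h2 : t.IsGE ((t.truncLT b).obj K) a := inferInstance
      have h3 : t.IsLE ((t.truncLT b).obj K) (b - 1) := inferInstance
      exact ih _ a (b - 1) h2 h3 (by push_cast at hab; omega) m hm L _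
    obtain ⟨g, hg⟩ := Triangle.yoneda_exact₂ _ hT f h1
    have h4 : t.IsGE ((t.truncGE b).obj K) b := inferInstance
    have h5 : t.IsLE ((t.truncGE b).obj K) b := inferInstance
    obtain ⟨Y, ⟨eY⟩⟩ := DerivedCategory.exists_iso_singleFunctor_obj_of_isGE_of_isLE
      ((t.truncGE b).obj K) b
    have h6 : eY.inv ≫ g = 0 :=
      hom_single_eq_zero_of_pd' d Y (hgl Y) b m (by omega) L _
    have h7 : g = 0 := (cancel_epi eY.inv).mp (h6.trans comp_zero.symm)
    rw [hg, h7]
    exact comp_zero
end

end Groth.Agent.Lib.Helper33.DerivedHomVanish
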