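import Mathlib
import Groth.Prelude.Def_Wider
import Groth.Agent.Lib.Helper33.DerivedHomVanish
import Groth.Agent.Lib.Helper12.DRingPCModule

set_option autoImplicit false
universe u
open CategoryTheory CategoryTheory.Limits DerivedCategory
attribute [local instance] HasDerivedCategory.standard

namespace Groth.Agent.Lib.Helper33.DualizingSelf

variable (A : Type u) [CommRing A]

/-- negative shifts: no maps `M[0] → N[i]` for `i < 0` -/
lemma subsingleton_hom_inD_shift_of_neg (M N : Type u) [AddCommGroup M] [Module A M]
    [AddCommGroup N] [Module A N] (i : ℤ) (hi : i < 0) :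
    Subsingleton (Dual.inD A M ⟶ (Dual.inD A N)⟦i⟧) := by
  let t := (DerivedCategory.TStructure.t : Triangulated.TStructure (DerivedCategory (ModuleCat.{u} A)))
  have h1 : t.IsLE (Dual.inD A M) 0 := inferInstance
  have h2 : t.IsGE ((Dual.inD A N)⟦i⟧) (-i) := t.isGE_shift (Dual.inD A N) 0 i (-i) (by omega)
  refine ⟨fun f g => ?_⟩
  rw [t.zero_of_isLE_of_isGE f 0 (-i) (by omega) h1 h2, t.zero_of_isLE_of_isGE g 0 (-i) (by omega) h1 h2]

/-- positive shifts out of a projective module -/
lemma subsingleton_hom_inD_shift_of_projective (P N : Type u) [AddCommGroup P] [Module A P]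
    [Module.Projective A P] [AddCommGroup N] [Module A N] (i : ℤ) (hi : 0 < i) :
    Subsingleton (Dual.inD A P ⟶ (Dual.inD A N)⟦i⟧) := by
  let t := (DerivedCategory.TStructure.t : Triangulated.TStructure (DerivedCategory (ModuleCat.{u} A)))
  have h2 : t.IsLE ((Dual.inD A N)⟦i⟧) (-i) := t.isLE_shift (Dual.inD A N) 0 i (-i) (by omega)
  have hP : Projective (ModuleCat.of A P) := (IsProjective.iff_projective _).mp inferInstance
  refine ⟨fun f g => ?_⟩
  rw [DerivedHomVanish.hom_single_projective_eq_zero (ModuleCat.of A P) 0 (-i) (by omega) _ f,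
    DerivedHomVanish.hom_single_projective_eq_zero (ModuleCat.of A P) 0 (-i) (by omega) _ g]

/-- `A → End(A[0])` is bijective -/
lemma toEnd_bijective :
    Function.Bijective (fun a : A => a • (𝟙 (Dual.inD A A))) := by
  let F := DerivedCategory.singleFunctor (ModuleCat.{u} A) 0
  have hmap : ∀ a : A, a • (𝟙 (Dual.inD A A)) = F.map (a • 𝟙 (ModuleCat.of A A)) := by
    intro a
    rw [Functor.map_smul, CategoryTheory.Functor.map_id]
  constructor
  · intro a a' h
    simp only [hmap] at h
    have h1 := F.map_injective h
    have h2 := congrArg (fun f => f.hom (1 : A)) h1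
    simpa using h2
  · intro f
    obtain ⟨g, rfl⟩ := F.map_surjective f
    refine ⟨g.hom (1 : A), ?_⟩
    simp only [hmap]
    congr 1
    ext
    simp

theorem isDualizing_inD_self [IsNoetherianRing A] (b : ℤ)
    (hinj : ∀ (M : Type u) [AddCommGroup M] [Module A M] (i : ℤ), b < i →
      Subsingleton (Dual.inD A M ⟶ (Dual.inD A A)⟦i⟧)) :
    Dual.IsDualizing A (Dual.inD A A) where
  isNoetherianRing := inferInstance
  finite_injective_dimension := ⟨0, b, fun M _ _ i hi =>
    hi.elim (subsingleton_hom_inD_shift_of_neg A M A i) (hinj M i)⟩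
  finite_cohomology := by
    intro i
    by_cases hi : i = 0
    · subst hi
      have hfin : Module.Finite A ((𝟭 (ModuleCat.{u} A)).obj (ModuleCat.of A A)) :=
        inferInstanceAs (Module.Finite A A)
      exact Module.Finite.equiv
        ((Groth.Agent.Lib.Helper12.HFSingleNatIso (A := A) 0).app (ModuleCat.of A A)).symm.toLinearEquiv
    · have hz : IsZero ((DerivedCategory.homologyFunctor (ModuleCat.{u} A) i).obj (Dual.inD A A)) := by
        rcases lt_or_gt_of_ne hi with h | h
        · exact DerivedCategory.isZero_of_isGE _ 0 i h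
        · exact DerivedCategory.isZero_of_isLE _ 0 i h
      have : Subsingleton (Dual.HD A (Dual.inD A A) i) := ModuleCat.subsingleton_of_isZero hz
      infer_instance
  toEnd_bijective := toEnd_bijective A
  ext_self_subsingleton := by
    intro i hi
    rcases lt_or_gt_of_ne hi with h | h
    · exact subsingleton_hom_inD_shift_of_neg A A A i h
    · exact subsingleton_hom_inD_shift_of_projective A A A i h

/-- injective dimension in terms of morphisms in the derived category -/
lemma hasInjectiveDimensionLT_iff_hom (X : ModuleCat.{u} A) (n : ℕ) :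
    HasInjectiveDimensionLT X n ↔ ∀ i : ℕ, n ≤ i → ∀ Y : ModuleCat.{u} A,
      Subsingleton ((DerivedCategory.singleFunctor (ModuleCat.{u} A) 0).obj Y ⟶
        ((DerivedCategory.singleFunctor (ModuleCat.{u} A) 0).obj X)⟦(i : ℤ)⟧) := by
  letI := HasExt.standard (ModuleCat.{u} A)
  rw [hasInjectiveDimensionLT_iff]
  constructor
  · intro h i hi Y
    refine ⟨fun f g => ?_⟩
    have hf := h i hi (Abelian.Ext.homEquiv.symm f)
    have hg := h i hi (Abelian.Ext.homEquiv.symm g)
    have := hf.trans hg.symm
    exact Abelian.Ext.homEquiv.symm.injective this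
  · intro h i hi Y e
    have := h i hi Y
    exact Abelian.Ext.homEquiv.injective (Subsingleton.elim _ _)

end Groth.Agent.Lib.Helper33.DualizingSelf
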