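import Mathlib
import Groth.Prelude.Def_CAlg

/-!
# Socles under flat local homomorphisms

For a flat local homomorphism `A → B` of local rings with closed fibre `F = B/𝔪_A B` (given by a
surjection `π : B → F` with kernel `𝔪_A B`), the socle of `B` is "the product of the socles of `A`
and `F`".  We prove the elementwise statements needed for Gorenstein ascent/descent.
-/

set_option autoImplicit false
universe u v

namespace Groth.Agent.Lib.Helper33.FlatSocle

open IsLocalRing TensorProduct

section FlatKer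

variable {A : Type u} {B : Type u} [CommRing A] [CommRing B] [Algebra A B] [Module.Flat A B]

/-- Flatness: if `b ⊗ φ(1) = 0` in `B ⊗ N` for a linear map `φ : A → N`, then `b ∈ (ker φ) B`. -/
theorem mem_map_ker_of_flat {N : Type v} [AddCommGroup N] [Module A N] (φ : A →ₗ[A] N) (b : B)
    (h : b ⊗ₜ[A] φ 1 = 0) : b ∈ Ideal.map (algebraMap A B) (LinearMap.ker φ) := by
  have hex := Module.Flat.lTensor_exact B (LinearMap.exact_subtype_ker_map φ)
  have h1 : (LinearMap.lTensor B φ) (b ⊗ₜ[A] (1 : A)) = 0 := by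
    rw [LinearMap.lTensor_tmul]; exact h
  obtain ⟨t, ht⟩ := (hex _).1 h1
  have key : ∀ t : B ⊗[A] (LinearMap.ker φ),
      (TensorProduct.rid A B) (LinearMap.lTensor B (LinearMap.ker φ).subtype t) ∈
        Ideal.map (algebraMap A B) (LinearMap.ker φ) := by
    intro t
    induction t using TensorProduct.induction_on with
    | zero => simp
    | tmul x y =>
      rw [LinearMap.lTensor_tmul, TensorProduct.rid_tmul, Submodule.subtype_apply,
        Algebra.smul_def]
      exact Ideal.mul_mem_right _ _ (Ideal.mem_map_of_mem _ y.2)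
    | add x y hx hy =>
      rw [map_add, map_add]
      exact add_mem hx hy
  have h2 := key t
  rw [ht, TensorProduct.rid_tmul, one_smul] at h2
  exact h2

/-- `a b = 0` implies `b ∈ (0 : a) B`. -/
theorem mem_map_of_mul_eq_zero (a : A) (b : B) (h : algebraMap A B a * b = 0) :
    b ∈ Ideal.map (algebraMap A B) (LinearMap.ker (LinearMap.mulLeft A a)) := by
  apply mem_map_ker_of_flat
  rw [LinearMap.mulLeft_apply, mul_one]
  have : b ⊗ₜ[A] a = (a • b) ⊗ₜ[A] (1 : A) := by
    rw [TensorProduct.smul_tmul, smul_eq_mul, mul_one]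
  rw [this, Algebra.smul_def, h, TensorProduct.zero_tmul]

omit [Module.Flat A B] in
/-- elements of `I B` die in `B ⊗ A/I`. -/
theorem tmul_mk_one_eq_zero (I : Ideal A) (t : B) (ht : t ∈ I.map (algebraMap A B)) :
    t ⊗ₜ[A] (Ideal.Quotient.mk I 1) = 0 := by
  unfold Ideal.map at ht
  induction ht using Submodule.span_induction with
  | mem x hx =>
    obtain ⟨i, hi, rfl⟩ := hx
    have : (algebraMap A B i) ⊗ₜ[A] (Ideal.Quotient.mk I 1) =
        (1 : B) ⊗ₜ[A] (i • (Ideal.Quotient.mk I 1)) := by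
      rw [← TensorProduct.smul_tmul, Algebra.smul_def, mul_one]
    rw [this]
    have h0 : i • (Ideal.Quotient.mk I 1) = 0 := by
      rw [← Ideal.Quotient.mk_eq_mk, ← Submodule.Quotient.mk_smul, smul_eq_mul, mul_one]
      exact (Submodule.Quotient.mk_eq_zero _).2 hi
    rw [h0, TensorProduct.tmul_zero]
  | zero => rw [TensorProduct.zero_tmul]
  | add x y _ _ hx hy => rw [TensorProduct.add_tmul, hx, hy, add_zero]
  | smul c x _ hx =>
    have : (c • x) ⊗ₜ[A] (Ideal.Quotient.mk I 1) = c • (x ⊗ₜ[A] (Ideal.Quotient.mk I 1)) := by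
      rw [TensorProduct.smul_tmul']
    rw [this, hx, smul_zero]

/-- `a b ∈ I B` implies `b ∈ (I : a) B`. -/
theorem mem_map_of_mul_mem (I : Ideal A) (a : A) (b : B)
    (h : algebraMap A B a * b ∈ I.map (algebraMap A B)) :
    b ∈ Ideal.map (algebraMap A B) (LinearMap.ker (I.mkQ ∘ₗ LinearMap.mulLeft A a)) := by
  apply mem_map_ker_of_flat
  rw [LinearMap.comp_apply, LinearMap.mulLeft_apply, mul_one]
  have : b ⊗ₜ[A] (I.mkQ a) = (a • b) ⊗ₜ[A] (Ideal.Quotient.mk I 1) := by
    rw [TensorProduct.smul_tmul]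
    congr 1
    rw [← Ideal.Quotient.mk_eq_mk, ← Submodule.Quotient.mk_smul, smul_eq_mul, mul_one]
    rfl
  rw [this, Algebra.smul_def]
  exact tmul_mk_one_eq_zero I _ h

/-- If `b` is killed by the finitely many `g i`, then `b ∈ (0 : g) B`. -/
theorem mem_map_of_forall_mul_eq_zero {n : ℕ} (g : Fin n → A) (b : B)
    (h : ∀ i, algebraMap A B (g i) * b = 0) :
    b ∈ Ideal.map (algebraMap A B)
      (LinearMap.ker (LinearMap.pi (fun i => LinearMap.mulLeft A (g i)) : A →ₗ[A] (Fin n → A))) := by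
  apply mem_map_ker_of_flat
  have h1 : (LinearMap.pi (fun i => LinearMap.mulLeft A (g i)) : A →ₗ[A] (Fin n → A)) 1 = g := by
    ext i
    simp
  rw [h1, pi_eq_sum_univ g, TensorProduct.tmul_sum]
  apply Finset.sum_eq_zero
  intro i _
  rw [← TensorProduct.smul_tmul, Algebra.smul_def, h i, TensorProduct.zero_tmul]

end FlatKer

section Socle

/-- `u` is a socle element of the local ring `R`. -/
def IsSoc (R : Type u) [CommRing R] [IsLocalRing R] (u : R) : Prop :=
  ∀ r ∈ maximalIdeal R, r * u = 0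

/-- The socle of the local ring `R` is simple (one-dimensional over the residue field). -/
def SocSimple (R : Type u) [CommRing R] [IsLocalRing R] : Prop :=
  ∃ v : R, v ≠ 0 ∧ IsSoc R v ∧ ∀ u, IsSoc R u → ∃ c, u = c * v

theorem SocSimple.gen {R : Type u} [CommRing R] [IsLocalRing R] (h : SocSimple R) (w : R)
    (hw : IsSoc R w) (hw0 : w ≠ 0) : ∀ u, IsSoc R u → ∃ c, u = c * w := by
  obtain ⟨v, hv0, hv, hgen⟩ := h
  obtain ⟨c₁, hc₁⟩ := hgen w hw
  have hunit : IsUnit c₁ := by
    by_contra hnu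
    apply hw0
    rw [hc₁]
    exact hv c₁ ((mem_maximalIdeal c₁).2 hnu)
  obtain ⟨e, rfl⟩ := hunit
  intro u hu
  obtain ⟨c₂, hc₂⟩ := hgen u hu
  refine ⟨c₂ * ↑e⁻¹, ?_⟩
  rw [hc₂, hc₁, mul_assoc, ← mul_assoc (↑e⁻¹ : R), Units.inv_mul, one_mul]

variable {A B F : Type u} [CommRing A] [CommRing B] [CommRing F] [IsLocalRing A] [IsLocalRing B]
  [IsLocalRing F] [Algebra A B] [IsLocalHom (algebraMap A B)]
  (π : B →+* F) (hπ : Function.Surjective π)
  (hker : RingHom.ker π = (maximalIdeal A).map (algebraMap A B))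

include hπ in
omit [IsLocalRing A] [Algebra A B] [IsLocalHom (algebraMap A B)] in
theorem map_mem_maximalIdeal {n : B} (hn : n ∈ maximalIdeal B) : π n ∈ maximalIdeal F := by
  haveI := IsLocalHom.of_surjective π hπ
  rw [mem_maximalIdeal, mem_nonunits_iff] at hn ⊢
  exact fun h => hn (isUnit_of_map_unit π n h)

include hπ in
omit [IsLocalRing A] [Algebra A B] [IsLocalHom (algebraMap A B)] in
theorem exists_mem_maximalIdeal_map_eq {r : F} (hr : r ∈ maximalIdeal F) :
    ∃ n ∈ maximalIdeal B, π n = r := by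
  obtain ⟨n, rfl⟩ := hπ r
  refine ⟨n, ?_, rfl⟩
  rw [mem_maximalIdeal, mem_nonunits_iff] at hr ⊢
  exact fun h => hr (h.map π)

omit [IsLocalRing B] [IsLocalHom (algebraMap A B)] in
/-- A socle element of `A` kills `𝔪_A B`. -/
theorem mul_eq_zero_of_mem_map {a : A} (ha : IsSoc A a) {t : B}
    (ht : t ∈ (maximalIdeal A).map (algebraMap A B)) : algebraMap A B a * t = 0 := by
  unfold Ideal.map at ht
  induction ht using Submodule.span_induction with
  | mem x hx =>
    obtain ⟨m, hm, rfl⟩ := hx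
    rw [← map_mul, mul_comm, ha m hm, map_zero]
  | zero => rw [mul_zero]
  | add x y _ _ hx hy => rw [mul_add, hx, hy, add_zero]
  | smul c x _ hx => rw [smul_eq_mul, mul_left_comm, hx, mul_zero]

include hπ hker in
omit [IsLocalHom (algebraMap A B)] in
/-- The product of socle elements of `A` and `F` is a socle element of `B`. -/
theorem isSoc_mul {a : A} (ha : IsSoc A a) {f : B} (hf : IsSoc F (π f)) :
    IsSoc B (algebraMap A B a * f) := by
  intro n hn
  have h1 : π (n * f) = 0 := by
    rw [map_mul]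
    exact hf _ (map_mem_maximalIdeal π hπ hn)
  have h2 : n * f ∈ (maximalIdeal A).map (algebraMap A B) := by
    rw [← hker]; exact h1
  have h3 := mul_eq_zero_of_mem_map ha h2
  rw [mul_left_comm]
  exact h3

variable [Module.Flat A B]

omit [IsLocalRing B] [IsLocalHom (algebraMap A B)] in
/-- For `a ≠ 0` in `A`, `a b = 0` forces `b ∈ 𝔪_A B`. -/
theorem mem_map_maximalIdeal_of_mul_eq_zero {a : A} (ha0 : a ≠ 0) {b : B}
    (h : algebraMap A B a * b = 0) : b ∈ (maximalIdeal A).map (algebraMap A B) := by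
  have h1 := mem_map_of_mul_eq_zero a b h
  refine Ideal.map_mono ?_ h1
  intro r hr
  rw [LinearMap.mem_ker, LinearMap.mulLeft_apply] at hr
  rw [mem_maximalIdeal, mem_nonunits_iff]
  intro hu
  apply ha0
  obtain ⟨e, rfl⟩ := hu
  have := congrArg (fun z => (↑e⁻¹ : A) * z) hr
  simpa using this

omit [IsLocalRing B] [IsLocalHom (algebraMap A B)] in
/-- For `a ∉ I`, `a b ∈ I B` forces `b ∈ 𝔪_A B`. -/
theorem mem_map_maximalIdeal_of_mul_mem {I : Ideal A} {a : A} (ha : a ∉ I) {b : B}
    (h : algebraMap A B a * b ∈ I.map (algebraMap A B)) :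
    b ∈ (maximalIdeal A).map (algebraMap A B) := by
  have h1 := mem_map_of_mul_mem I a b h
  refine Ideal.map_mono ?_ h1
  intro r hr
  rw [LinearMap.mem_ker, LinearMap.comp_apply, LinearMap.mulLeft_apply, Submodule.mkQ_apply,
    Submodule.Quotient.mk_eq_zero] at hr
  rw [mem_maximalIdeal, mem_nonunits_iff]
  intro hu
  apply ha
  obtain ⟨e, rfl⟩ := hu
  have := I.mul_mem_left (↑e⁻¹ : A) hr
  simpa using this

include hker in
omit [IsLocalRing B] [IsLocalRing F] [IsLocalHom (algebraMap A B)] in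
theorem mul_ne_zero_of {a : A} (ha0 : a ≠ 0) {f : B} (hf0 : π f ≠ 0) :
    algebraMap A B a * f ≠ 0 := by
  intro h
  apply hf0
  have := mem_map_maximalIdeal_of_mul_eq_zero ha0 h
  rw [← hker] at this
  exact this

include hπ hker in
/-- `Soc(B)` is simple if `Soc(A)` and `Soc(F)` are. -/
theorem socSimple_of [IsNoetherianRing A] (hA : SocSimple A) (hF : SocSimple F) : SocSimple B := by
  obtain ⟨a, ha0, ha, hgenA⟩ := hA
  obtain ⟨fb, hf0, hf, hgenF⟩ := hF
  obtain ⟨f, rfl⟩ := hπ fb
  refine ⟨algebraMap A B a * f, mul_ne_zero_of π hker ha0 hf0, isSoc_mul π hπ hker ha hf, ?_⟩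
  intro u hu
  -- `u ∈ Soc(A) B = a B`
  obtain ⟨n, g, hg⟩ := Submodule.fg_iff_exists_fin_generating_family.1
    (IsNoetherian.noetherian (maximalIdeal A))
  have hgm : ∀ i, g i ∈ maximalIdeal A := fun i => by
    rw [← hg]; exact Ideal.subset_span ⟨i, rfl⟩
  have h1 := mem_map_of_forall_mul_eq_zero g u
    (fun i => hu _ (_root_.map_nonunit (algebraMap A B) _ (hgm i)))
  have h2 : LinearMap.ker (LinearMap.pi (fun i => LinearMap.mulLeft A (g i)) : A →ₗ[A] (Fin n → A))
      ≤ Ideal.span {a} := by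
    intro r hr
    rw [LinearMap.mem_ker] at hr
    have hr' : ∀ i, g i * r = 0 := fun i => by
      have := congrFun hr i
      simpa using this
    have hsoc : IsSoc A r := by
      intro m hm
      rw [← hg] at hm
      induction hm using Submodule.span_induction with
      | mem x hx =>
        obtain ⟨i, rfl⟩ := hx
        exact hr' i
      | zero => rw [zero_mul]
      | add x y _ _ hx hy => rw [add_mul, hx, hy, add_zero]
      | smul c x _ hx => rw [smul_eq_mul, mul_assoc, hx, mul_zero]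
    obtain ⟨c, hc⟩ := hgenA r hsoc
    rw [Ideal.mem_span_singleton']
    exact ⟨c, hc.symm⟩
  have h3 := Ideal.map_mono (f := algebraMap A B) h2 h1
  rw [Ideal.map_span, Set.image_singleton, Ideal.mem_span_singleton'] at h3
  obtain ⟨u', hu'⟩ := h3
  -- `π u'` is a socle element of `F`
  have hsocF : IsSoc F (π u') := by
    intro r hr
    obtain ⟨m, hm, rfl⟩ := exists_mem_maximalIdeal_map_eq π hπ hr
    have h4 : algebraMap A B a * (m * u') = 0 := by
      have := hu m hm
      rw [← hu'] at this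
      rw [← this]; ring
    have h5 := mem_map_maximalIdeal_of_mul_eq_zero ha0 h4
    rw [← hker] at h5
    rw [← map_mul]
    exact h5
  obtain ⟨cb, hc⟩ := hgenF _ hsocF
  obtain ⟨c, rfl⟩ := hπ cb
  have h6 : u' - c * f ∈ (maximalIdeal A).map (algebraMap A B) := by
    rw [← hker, RingHom.mem_ker, map_sub, map_mul, hc, sub_self]
  have h7 := mul_eq_zero_of_mem_map ha h6
  refine ⟨c, ?_⟩
  rw [← hu']
  have : u' * algebraMap A B a = algebraMap A B a * (u' - c * f) + c * (algebraMap A B a * f) := by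
    ring
  rw [this, h7, zero_add]

include hπ hker in
/-- `Soc(A)` and `Soc(F)` are simple if `Soc(B)` is (given nonzero socle elements of `A`, `F`). -/
theorem socSimple_of_socSimple (hB : SocSimple B) {a : A} (ha0 : a ≠ 0) (ha : IsSoc A a)
    {f : B} (hf0 : π f ≠ 0) (hf : IsSoc F (π f)) : SocSimple A ∧ SocSimple F := by
  have hgen := hB.gen (algebraMap A B a * f) (isSoc_mul π hπ hker ha hf)
    (mul_ne_zero_of π hker ha0 hf0)
  constructor
  · refine ⟨a, ha0, ha, ?_⟩
    intro a' ha'
    by_contra hne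
    have hnotin : a' ∉ Ideal.span {a} := by
      intro h
      rw [Ideal.mem_span_singleton'] at h
      obtain ⟨c, hc⟩ := h
      exact hne ⟨c, hc.symm⟩
    obtain ⟨c, hc⟩ := hgen (algebraMap A B a' * f) (isSoc_mul π hπ hker ha' hf)
    have h1 : algebraMap A B a' * f ∈ (Ideal.span {a}).map (algebraMap A B) := by
      rw [Ideal.map_span, Set.image_singleton, Ideal.mem_span_singleton', hc]
      exact ⟨c * f, by ring⟩
    have h2 := mem_map_maximalIdeal_of_mul_mem hnotin h1
    rw [← hker] at h2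
    exact hf0 h2
  · refine ⟨π f, hf0, hf, ?_⟩
    intro gb hg
    obtain ⟨g, rfl⟩ := hπ gb
    obtain ⟨c, hc⟩ := hgen (algebraMap A B a * g) (isSoc_mul π hπ hker ha hg)
    have h1 : algebraMap A B a * (g - c * f) = 0 := by
      rw [mul_sub, hc]; ring
    have h2 := mem_map_maximalIdeal_of_mul_eq_zero ha0 h1
    rw [← hker, RingHom.mem_ker, map_sub, sub_eq_zero, map_mul] at h2
    exact ⟨π c, h2⟩

end Socle

end Groth.Agent.Lib.Helper33.FlatSocle
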