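import Mathlib
import Groth.Agent.Lib.Helper29.GorCM2
import Groth.Agent.Lib.Helper29.Bass
import Groth.Agent.Lib.Helper29.DepthZero

/-!
# Zero-dimensional Gorenstein local rings are self-injective; double annihilators
-/

set_option autoImplicit false
universe u

namespace Groth.Agent.Lib.Helper33.SelfInjective

open CategoryTheory Abelian IsLocalRing
open Groth.Agent.Lib.Helper29

/-- A zero-dimensional Gorenstein local ring is injective as a module over itself, and has a
nonzero socle element. -/
theorem injective_self_and_socle (A : Type u) [CommRing A] [LocCoh.IsGorensteinLocalRing A]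
    (hdim : ringKrullDim A = 0) :
    Module.Injective A A ∧ ∃ u : A, u ≠ 0 ∧ ∀ a ∈ maximalIdeal A, a * u = 0 := by
  obtain ⟨n₀, h⟩ := LocCoh.IsGorensteinLocalRing.exists_hasInjectiveDimensionLT (A := A)
  obtain ⟨r, hr, hne, hdim', hdepth⟩ := GorCM.exists_top_ext n₀ h
  have hr0 : r = 0 := by
    rw [hdim] at hdim'
    exact_mod_cast hdim'.symm
  subst hr0
  constructor
  · have h1 : HasInjectiveDimensionLT (ModuleCat.of A A) (0 + 1) :=
      Bass.hasInjectiveDimensionLT_of_residueField A 0 (fun i hi => hr i (by omega))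
    have h2 : Injective (ModuleCat.of A A) :=
      injective_iff_hasInjectiveDimensionLT_one.mpr h1
    exact (Module.injective_iff_injective_object A A).mpr h2
  · have hass : maximalIdeal A ∈ associatedPrimes A A :=
      (depth_eq_zero_iff_maximalIdeal_mem_ass A A).1 (by simpa using hdepth)
    obtain ⟨-, u, hu⟩ := isAssociatedPrime_iff.1 hass
    refine ⟨u, ?_, ?_⟩
    · rintro rfl
      have h1 : (1 : A) ∈ maximalIdeal A := by
        rw [hu, Submodule.mem_colon_singleton]
        simp
      exact (Ideal.ne_top_iff_one _).1 (maximalIdeal.isMaximal A).ne_top h1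
    · intro a ha
      rw [hu, Submodule.mem_colon_singleton, Submodule.mem_bot, smul_eq_mul] at ha
      exact ha

/-- In a self-injective local ring with a nonzero socle element, every element outside an ideal
`𝔞` is detected by an element of the annihilator of `𝔞`. -/
theorem exists_mul_ne_zero_of_notMem (A : Type u) [CommRing A] [IsLocalRing A]
    [Module.Injective A A] (u : A) (hu : u ≠ 0) (hum : ∀ a ∈ maximalIdeal A, a * u = 0)
    (𝔞 : Ideal A) (z : A) (hz : z ∉ 𝔞) :
    ∃ w : A, (∀ a ∈ 𝔞, a * w = 0) ∧ z * w ≠ 0 := by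
  -- the ideal `(𝔞 : z)`
  set L : Ideal A := 𝔞.colon {z} with hL
  have hLm : L ≤ maximalIdeal A := by
    apply le_maximalIdeal
    intro htop
    have h1 : (1 : A) ∈ L := by rw [htop]; trivial
    rw [hL, Submodule.mem_colon_singleton, one_smul] at h1
    exact hz h1
  -- `A/L → A/𝔞`, `a ↦ a z`
  have hle1 : L ≤ Submodule.comap (LinearMap.mulRight A z) 𝔞 := by
    intro a ha
    rw [hL, Submodule.mem_colon_singleton, smul_eq_mul] at ha
    rw [Submodule.mem_comap, LinearMap.mulRight_apply]
    exact ha
  set ι : (A ⧸ L) →ₗ[A] (A ⧸ 𝔞) := Submodule.mapQ L 𝔞 (LinearMap.mulRight A z) hle1 with hι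
  have hιinj : Function.Injective ι := by
    rw [← LinearMap.ker_eq_bot, LinearMap.ker_eq_bot']
    intro y hy
    obtain ⟨a, rfl⟩ := Submodule.Quotient.mk_surjective _ y
    rw [hι, Submodule.mapQ_apply, LinearMap.mulRight_apply, Submodule.Quotient.mk_eq_zero] at hy
    rw [Submodule.Quotient.mk_eq_zero, hL, Submodule.mem_colon_singleton, smul_eq_mul]
    exact hy
  -- `A/L → A`, `a ↦ a u`
  have hle2 : L ≤ LinearMap.ker (LinearMap.toSpanSingleton A A u) := by
    intro a ha
    rw [LinearMap.mem_ker, LinearMap.toSpanSingleton_apply, smul_eq_mul]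
    exact hum a (hLm ha)
  set g₀ : (A ⧸ L) →ₗ[A] A := Submodule.liftQ L (LinearMap.toSpanSingleton A A u) hle2 with hg₀
  obtain ⟨g, hg⟩ := Module.Injective.out (R := A) (Q := A) ι hιinj g₀
  refine ⟨g (Submodule.Quotient.mk 1), ?_, ?_⟩
  · intro a ha
    rw [← smul_eq_mul, ← map_smul, ← Submodule.Quotient.mk_smul, smul_eq_mul, mul_one,
      (Submodule.Quotient.mk_eq_zero 𝔞).2 ha, map_zero]
  · rw [← smul_eq_mul, ← map_smul, ← Submodule.Quotient.mk_smul, smul_eq_mul, mul_one]
    have h1 : ι (Submodule.Quotient.mk 1) = Submodule.Quotient.mk z := by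
      rw [hι, Submodule.mapQ_apply, LinearMap.mulRight_apply, one_mul]
    rw [← h1, hg, hg₀, Submodule.liftQ_apply, LinearMap.toSpanSingleton_apply, one_smul]
    exact hu

end Groth.Agent.Lib.Helper33.SelfInjective
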