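import Mathlib
import Groth.Agent.Lib.Helper33.FlatSocle
import Groth.Agent.Lib.Helper33.SelfInjective
import Groth.Agent.Lib.Helper2.HullCrit

/-!
# Artinian local rings: Gorenstein iff the socle is simple
-/

set_option autoImplicit false
universe u

namespace Groth.Agent.Lib.Helper33.GorSocle

open IsLocalRing CategoryTheory
open Groth.Agent.Lib.Helper33.FlatSocle Groth.Agent.Lib.Helper2

/-- A zero-dimensional Gorenstein local ring has simple socle. -/
theorem socSimple_of_gorenstein (A : Type u) [CommRing A] [LocCoh.IsGorensteinLocalRing A]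
    (hdim : ringKrullDim A = 0) : SocSimple A := by
  obtain ⟨hinj, u, hu0, hu⟩ := SelfInjective.injective_self_and_socle A hdim
  refine ⟨u, hu0, hu, ?_⟩
  intro w hw
  let gu : ResidueField A →ₗ[A] A := quotToOfKill (maximalIdeal A) u (fun r hr => hu r hr)
  let gw : ResidueField A →ₗ[A] A := quotToOfKill (maximalIdeal A) w (fun r hr => hw r hr)
  have hgu1 : gu 1 = u := quotToOfKill_one (maximalIdeal A) u _
  have hgw1 : gw 1 = w := quotToOfKill_one (maximalIdeal A) w _
  have hguinj : Function.Injective gu :=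
    injective_of_residueField_of_ne_zero gu (by rw [hgu1]; exact hu0)
  obtain ⟨φ, hφ⟩ := Module.Injective.out (R := A) gu hguinj gw
  refine ⟨φ 1, ?_⟩
  have h1 := hφ (1 : ResidueField A)
  rw [hgu1, hgw1] at h1
  rw [← h1]
  have : u = u • (1 : A) := by rw [smul_eq_mul, mul_one]
  conv_lhs => rw [this]
  rw [map_smul, smul_eq_mul, mul_comm]

/-- A Noetherian local ring with nilpotent maximal ideal and simple socle is Gorenstein. -/
theorem gorenstein_of_socSimple (A : Type u) [CommRing A] [IsLocalRing A] [IsNoetherianRing A]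
    (hnil : ∃ N : ℕ, maximalIdeal A ^ N = ⊥) (h : SocSimple A) :
    LocCoh.IsGorensteinLocalRing A := by
  obtain ⟨N, hN⟩ := hnil
  obtain ⟨v, hv0, hv, hgen⟩ := h
  have htors : LocCoh.IsPowerTorsion (maximalIdeal A) A := by
    intro a
    refine ⟨N, fun r hr => ?_⟩
    rw [hN] at hr
    rw [(Submodule.mem_bot A).mp hr, zero_smul]
  let g : ResidueField A →ₗ[A] A := quotToOfKill (maximalIdeal A) v (fun r hr => hv r hr)
  have hg1 : g 1 = v := quotToOfKill_one (maximalIdeal A) v _
  have hginj : Function.Injective g :=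
    injective_of_residueField_of_ne_zero g (by rw [hg1]; exact hv0)
  have hsoc : ∀ x : A, (∀ r ∈ maximalIdeal A, r • x = 0) → x ∈ LinearMap.range g := by
    intro x hx
    obtain ⟨c, hc⟩ := hgen x (fun r hr => hx r hr)
    refine ⟨c • (1 : ResidueField A), ?_⟩
    rw [map_smul, hg1, smul_eq_mul, hc]
  have hlen : ∀ n : ℕ, Module.length A (A ⧸ (⊥ : Ideal A)) =
      Module.length A ((A ⧸ (⊥ : Ideal A)) →ₗ[A] A) := by
    intro n
    let e1 : (A ⧸ (⊥ : Ideal A)) ≃ₗ[A] A := Submodule.quotEquivOfEqBot ⊥ rfl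
    let e2 : ((A ⧸ (⊥ : Ideal A)) →ₗ[A] A) ≃ₗ[A] (A →ₗ[A] A) :=
      LinearEquiv.congrLeft A A e1
    let e3 : (A →ₗ[A] A) ≃ₗ[A] A := LinearMap.ringLmapEquivSelf A A A
    rw [e1.length_eq, (e2.trans e3).length_eq]
  have hull := isInjectiveHull_of_length htors g hginj hsoc (fun _ => (⊥ : Ideal A))
    (fun _ => ⟨N, hN.le⟩) (fun _ => ⟨0, bot_le⟩) hlen
  have hinj : Module.Injective A A := hull.isInjective
  haveI : Injective (ModuleCat.of A A) := (Module.injective_iff_injective_object A A).1 hinj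
  exact { exists_hasInjectiveDimensionLT := ⟨1, inferInstance⟩ }

end Groth.Agent.Lib.Helper33.GorSocle
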