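import Mathlib
import Groth.Agent.Lib.Helper33.GorSocle
import Groth.Agent.Lib.Helper29.FlatRegular
import Groth.Agent.Lib.Helper29.DepthZero
import Groth.Agent.Lib.Helper29.GorCM2
import Groth.Agent.S0343

/-!
# Gorenstein property along flat local homomorphisms
-/

set_option autoImplicit false
universe u

namespace Groth.Agent.Lib.Helper33.GorFlat

open IsLocalRing CategoryTheory
open Groth.Agent.Lib.Helper33.FlatSocle Groth.Agent.Lib.Helper33.GorSocle
open Groth.Agent.Lib.Helper29

section Basic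

variable (R : Type u) [CommRing R] [IsLocalRing R] [IsNoetherianRing R]

/-- nilpotent maximal ideal iff Krull dimension zero. -/
theorem exists_pow_eq_bot_iff : (∃ N : ℕ, maximalIdeal R ^ N = ⊥) ↔ ringKrullDim R = 0 := by
  constructor
  · intro h
    haveI : IsArtinianRing R := (isArtinianRing_iff_isNilpotent_maximalIdeal R).2 h
    exact ringKrullDimZero_iff_ringKrullDim_eq_zero.1 inferInstance
  · intro hn
    haveI : Ring.KrullDimLE 0 R := Ring.krullDimLE_iff.mpr (by rw [hn]; rfl)
    haveI : IsArtinianRing R := IsNoetherianRing.isArtinianRing_of_krullDimLE_zero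
    exact (isArtinianRing_iff_isNilpotent_maximalIdeal R).1 inferInstance

variable {R}

theorem maximalIdeal_mem_ass_of_isSoc {v : R} (hv0 : v ≠ 0) (hv : IsSoc R v) :
    maximalIdeal R ∈ associatedPrimes R R := by
  refine isAssociatedPrime_iff.2 ⟨inferInstance, v, ?_⟩
  ext r
  rw [Submodule.mem_colon_singleton, Submodule.mem_bot, smul_eq_mul]
  constructor
  · intro hr; exact hv r hr
  · intro hr
    rw [mem_maximalIdeal, mem_nonunits_iff]
    intro hu
    apply hv0
    obtain ⟨e, rfl⟩ := hu
    have := congrArg (fun z => (↑e⁻¹ : R) * z) hr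
    simpa using this

/-- A Gorenstein local ring with a nonzero socle element has dimension zero. -/
theorem ringKrullDim_eq_zero_of_isSoc (hG : LocCoh.IsGorensteinLocalRing R) {v : R} (hv0 : v ≠ 0)
    (hv : IsSoc R v) : ringKrullDim R = 0 := by
  obtain ⟨n₀, h⟩ := LocCoh.IsGorensteinLocalRing.exists_hasInjectiveDimensionLT (A := R)
  obtain ⟨r, -, -, hdim, hdepth⟩ := GorCM.exists_top_ext n₀ h
  have h0 : LocCoh.depth R R = 0 :=
    (depth_eq_zero_iff_maximalIdeal_mem_ass R R).2 (maximalIdeal_mem_ass_of_isSoc hv0 hv)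
  rw [h0] at hdepth
  have : r = 0 := by exact_mod_cast hdepth.symm
  rw [hdim, this]; rfl

variable (R) in
/-- If no element of the maximal ideal is regular, there is a nonzero socle element. -/
theorem exists_isSoc_of_forall_not_isSMulRegular
    (h : ∀ x ∈ maximalIdeal R, ¬ IsSMulRegular R x) : ∃ v : R, v ≠ 0 ∧ IsSoc R v := by
  have h0 : LocCoh.depth R R = 0 :=
    (depth_eq_zero_iff_forall_not_isSMulRegular R R (maximalIdeal_smul_top_ne_top R R)).2 h
  have hass := (depth_eq_zero_iff_maximalIdeal_mem_ass R R).1 h0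
  obtain ⟨-, u, hu⟩ := isAssociatedPrime_iff.1 hass
  refine ⟨u, ?_, ?_⟩
  · rintro rfl
    have h1 : (1 : R) ∈ maximalIdeal R := by
      rw [hu, Submodule.mem_colon_singleton]
      simp
    exact (Ideal.ne_top_iff_one _).1 (maximalIdeal.isMaximal R).ne_top h1
  · intro a ha
    rw [hu, Submodule.mem_colon_singleton, Submodule.mem_bot, smul_eq_mul] at ha
    exact ha

end Basic

section Fibre

variable {A B F : Type u} [CommRing A] [CommRing B] [CommRing F] [IsLocalRing A] [IsLocalRing B]
  [IsLocalRing F] [IsNoetherianRing A] [IsNoetherianRing B] [IsNoetherianRing F]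
  [Algebra A B] [IsLocalHom (algebraMap A B)] [Module.Flat A B]
  (π : B →+* F) (hπ : Function.Surjective π)
  (hker : RingHom.ker π = (maximalIdeal A).map (algebraMap A B))

omit [IsNoetherianRing A] [IsNoetherianRing B] in
theorem algebraMap_injective' : Function.Injective (algebraMap A B) := by
  rw [injective_iff_map_eq_zero]
  intro a ha
  by_contra ha0
  have h1 : algebraMap A B a * 1 = 0 := by rw [ha, zero_mul]
  have h2 := mem_map_maximalIdeal_of_mul_eq_zero ha0 h1
  have h3 : (maximalIdeal A).map (algebraMap A B) ≤ maximalIdeal B :=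
    IsLocalRing.map_maximalIdeal_le (algebraMap A B)
  exact (Ideal.ne_top_iff_one _).1 (maximalIdeal.isMaximal B).ne_top (h3 h2)

include hπ in
omit [IsNoetherianRing A] [IsNoetherianRing B] [IsNoetherianRing F] in
theorem nilpotent_of_nilpotent (h : ∃ N : ℕ, maximalIdeal B ^ N = ⊥) :
    (∃ N : ℕ, maximalIdeal A ^ N = ⊥) ∧ (∃ N : ℕ, maximalIdeal F ^ N = ⊥) := by
  obtain ⟨N, hN⟩ := h
  have h3 : (maximalIdeal A).map (algebraMap A B) ≤ maximalIdeal B :=
    IsLocalRing.map_maximalIdeal_le (algebraMap A B)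
  constructor
  · refine ⟨N, ?_⟩
    have h1 : (maximalIdeal A ^ N).map (algebraMap A B) = ⊥ := by
      rw [Ideal.map_pow, eq_bot_iff, ← hN]
      exact Ideal.pow_right_mono h3 N
    rw [eq_bot_iff]
    intro x hx
    have h2 : algebraMap A B x ∈ (maximalIdeal A ^ N).map (algebraMap A B) :=
      Ideal.mem_map_of_mem _ hx
    rw [h1, Ideal.mem_bot] at h2
    rw [Ideal.mem_bot]
    exact algebraMap_injective' (by rw [h2, map_zero])
  · refine ⟨N, ?_⟩
    rw [← map_maximalIdeal_of_surjective π hπ, ← Ideal.map_pow, hN, Ideal.map_bot]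

include hπ hker in
omit [IsNoetherianRing A] [IsNoetherianRing B] [IsNoetherianRing F] [Module.Flat A B]
  [IsLocalHom (algebraMap A B)] in
theorem nilpotent_of_nilpotent' (hA : ∃ N : ℕ, maximalIdeal A ^ N = ⊥)
    (hF : ∃ N : ℕ, maximalIdeal F ^ N = ⊥) : ∃ N : ℕ, maximalIdeal B ^ N = ⊥ := by
  obtain ⟨N, hN⟩ := hA
  obtain ⟨M, hM⟩ := hF
  refine ⟨M * N, ?_⟩
  have h1 : maximalIdeal B ^ M ≤ (maximalIdeal A).map (algebraMap A B) := by
    rw [← hker, RingHom.ker_eq_comap_bot]
    rw [← Ideal.map_le_iff_le_comap, Ideal.map_pow, map_maximalIdeal_of_surjective π hπ, hM]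
  rw [pow_mul, eq_bot_iff]
  calc (maximalIdeal B ^ M) ^ N ≤ ((maximalIdeal A).map (algebraMap A B)) ^ N :=
        Ideal.pow_right_mono h1 N
    _ = ⊥ := by rw [← Ideal.map_pow, hN, Ideal.map_bot]

include hπ hker in
/-- The depth zero case. -/
theorem gorenstein_iff_of_isSoc {a : A} (ha0 : a ≠ 0) (ha : IsSoc A a) {f : B} (hf0 : π f ≠ 0)
    (hf : IsSoc F (π f)) :
    LocCoh.IsGorensteinLocalRing B ↔
      (LocCoh.IsGorensteinLocalRing A ∧ LocCoh.IsGorensteinLocalRing F) := by
  constructor
  · intro hB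
    have hdim : ringKrullDim B = 0 :=
      ringKrullDim_eq_zero_of_isSoc hB (mul_ne_zero_of π hker ha0 hf0)
        (isSoc_mul π hπ hker ha hf)
    have hnil := (exists_pow_eq_bot_iff B).2 hdim
    obtain ⟨hnA, hnF⟩ := nilpotent_of_nilpotent (A := A) π hπ hnil
    have hsB := socSimple_of_gorenstein B hdim
    obtain ⟨hsA, hsF⟩ := socSimple_of_socSimple π hπ hker hsB ha0 ha hf0 hf
    exact ⟨gorenstein_of_socSimple A hnA hsA, gorenstein_of_socSimple F hnF hsF⟩
  · rintro ⟨hA, hF⟩
    have hdimA : ringKrullDim A = 0 := ringKrullDim_eq_zero_of_isSoc hA ha0 ha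
    have hdimF : ringKrullDim F = 0 := ringKrullDim_eq_zero_of_isSoc hF hf0 hf
    have hnil := nilpotent_of_nilpotent' π hπ hker ((exists_pow_eq_bot_iff A).2 hdimA)
      ((exists_pow_eq_bot_iff F).2 hdimF)
    have hsA := socSimple_of_gorenstein A hdimA
    have hsF := socSimple_of_gorenstein F hdimF
    exact gorenstein_of_socSimple B hnil (socSimple_of π hπ hker hsA hsF)

end Fibre

section Steps

/-- quotient of a local ring by an element of the maximal ideal is local. -/
theorem isLocalRing_quot {R : Type u} [CommRing R] [IsLocalRing R] {I : Ideal R}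
    (hI : I ≤ maximalIdeal R) : IsLocalRing (R ⧸ I) := by
  have hne : I ≠ ⊤ := by
    intro h
    rw [h] at hI
    exact (maximalIdeal.isMaximal R).ne_top (top_le_iff.1 hI)
  haveI : Nontrivial (R ⧸ I) := Ideal.Quotient.nontrivial_iff.2 hne
  exact IsLocalRing.of_surjective' (Ideal.Quotient.mk I) Ideal.Quotient.mk_surjective

theorem dim_quot_le {R : Type u} [CommRing R] [IsLocalRing R] {y : R} (hy : y ∈ maximalIdeal R)
    (hreg : IsSMulRegular R y) {d : ℕ} (h : ringKrullDim R ≤ d) :
    ∃ d' : ℕ, d = d' + 1 ∧ ringKrullDim (R ⧸ Ideal.span {y}) ≤ d' := by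
  have hy' : y ∈ nonZeroDivisors R := by
    rw [mem_nonZeroDivisors_iff_right]
    intro z hz
    apply hreg
    simp only [smul_eq_mul, mul_zero]
    rw [mul_comm]; exact hz
  have h1 := ringKrullDim_quotient_succ_le_of_nonZeroDivisor hy'
  haveI := isLocalRing_quot ((Ideal.span_singleton_le_iff_mem _).2 hy)
  have h2 : (0 : WithBot ℕ∞) ≤ ringKrullDim (R ⧸ Ideal.span {y}) :=
    ringKrullDim_nonneg_of_nontrivial
  have h3 := h1.trans h
  cases d with
  | zero =>
    exfalso
    have h4 : (0 : WithBot ℕ∞) + 1 ≤ ((0 : ℕ) : WithBot ℕ∞) :=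
      (ENat.WithBot.add_le_add_one_right_iff.2 h2).trans h3
    rw [zero_add, Nat.cast_zero] at h4
    exact (not_le.2 zero_lt_one) h4
  | succ d' =>
    refine ⟨d', rfl, ?_⟩
    rw [Nat.cast_add, Nat.cast_one] at h3
    exact ENat.WithBot.add_le_add_one_right_iff.1 h3

/-- The statement proved by induction on `d`. -/
def Stmt (d : ℕ) : Prop :=
  ∀ (A B F : Type u) [CommRing A] [CommRing B] [CommRing F] [IsLocalRing A] [IsLocalRing B]
    [IsLocalRing F] [IsNoetherianRing A] [IsNoetherianRing B] [IsNoetherianRing F]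
    [Algebra A B] [IsLocalHom (algebraMap A B)] [Module.Flat A B]
    (π : B →+* F) (_ : Function.Surjective π)
    (_ : RingHom.ker π = (maximalIdeal A).map (algebraMap A B)),
    ringKrullDim B ≤ d →
    (LocCoh.IsGorensteinLocalRing B ↔
      (LocCoh.IsGorensteinLocalRing A ∧ LocCoh.IsGorensteinLocalRing F))

/-- Rees' theorem with the ideal given up to equality. -/
theorem rees (R : Type u) [CommRing R] [IsLocalRing R] [IsNoetherianRing R] (y : R)
    (hy : y ∈ maximalIdeal R) (hreg : IsSMulRegular R y) :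
    LocCoh.IsGorensteinLocalRing R ↔ LocCoh.IsGorensteinLocalRing (R ⧸ Ideal.span {y}) :=
  Groth.Agent.S0343.result R y hy hreg

section StepF

open Pointwise

variable {A B F : Type u} [CommRing A] [CommRing B] [CommRing F] [IsLocalRing A] [IsLocalRing B]
  [IsLocalRing F] [IsNoetherianRing A] [IsNoetherianRing B] [IsNoetherianRing F]
  [Algebra A B] [IsLocalHom (algebraMap A B)] [Module.Flat A B]
  (π : B →+* F) (hπ : Function.Surjective π)
  (hker : RingHom.ker π = (maximalIdeal A).map (algebraMap A B))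

include hker in
omit [IsLocalRing F] [IsNoetherianRing A] [IsNoetherianRing F] in
/-- An element regular on the fibre is regular on `B` with flat quotient. -/
theorem regular_and_flat_of_fibre {y : B} (hreg : IsSMulRegular F (π y)) :
    IsSMulRegular B y ∧ Module.Flat A (B ⧸ Ideal.span {y}) := by
  have hf : IsSMulRegular
      (B ⧸ ((maximalIdeal A).map (algebraMap A B) • (⊤ : Submodule B B))) y := by
    intro z z' hzz
    obtain ⟨b, rfl⟩ := Submodule.Quotient.mk_surjective _ z
    obtain ⟨b', rfl⟩ := Submodule.Quotient.mk_surjective _ z'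
    simp only at hzz
    rw [← Submodule.Quotient.mk_smul, ← Submodule.Quotient.mk_smul,
      Submodule.Quotient.eq, smul_eq_mul, Ideal.mul_top] at hzz
    rw [Submodule.Quotient.eq, smul_eq_mul, Ideal.mul_top]
    rw [← hker, RingHom.mem_ker] at hzz ⊢
    have h1 : π y * π (b - b') = π y * 0 := by
      rw [mul_zero, ← map_mul, ← hzz]
      congr 1
      simp only [smul_eq_mul]
      ring
    exact hreg h1
  obtain ⟨h1, h2⟩ := FlatRegular.isSMulRegular_and_flat_of_fibre A B B y hf
  refine ⟨h1, ?_⟩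
  have heq : (y • (⊤ : Submodule B B)) = Ideal.span {y} := by
    ext b
    rw [Submodule.mem_smul_pointwise_iff_exists, Ideal.mem_span_singleton']
    constructor
    · rintro ⟨c, -, rfl⟩; exact ⟨c, by rw [smul_eq_mul, mul_comm]⟩
    · rintro ⟨c, rfl⟩; exact ⟨c, trivial, by rw [smul_eq_mul, mul_comm]⟩
  let e : QuotSMulTop y B ≃ₗ[A] (B ⧸ Ideal.span {y}) :=
    (Submodule.quotEquivOfEq _ _ heq).restrictScalars A
  exact Module.Flat.of_linearEquiv e.symm

include hπ hker in
theorem step_F (d : ℕ) (ih : Stmt.{u} d) {y : B} (hy : y ∈ maximalIdeal B)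
    (hreg : IsSMulRegular F (π y)) (hdim : ringKrullDim (B ⧸ Ideal.span {y}) ≤ d) :
    LocCoh.IsGorensteinLocalRing B ↔
      (LocCoh.IsGorensteinLocalRing A ∧ LocCoh.IsGorensteinLocalRing F) := by
  obtain ⟨hregB, hflat⟩ := regular_and_flat_of_fibre (A := A) π hker hreg
  have hyF : π y ∈ maximalIdeal F := map_mem_maximalIdeal π hπ hy
  haveI : IsLocalRing (B ⧸ Ideal.span {y}) :=
    isLocalRing_quot ((Ideal.span_singleton_le_iff_mem _).2 hy)
  haveI : IsLocalRing (F ⧸ Ideal.span {π y}) :=
    isLocalRing_quot ((Ideal.span_singleton_le_iff_mem _).2 hyF)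
  haveI hloc : IsLocalHom (algebraMap A (B ⧸ Ideal.span {y})) := by
    haveI := IsLocalHom.of_surjective (Ideal.Quotient.mk (Ideal.span {y}))
      Ideal.Quotient.mk_surjective
    constructor
    intro a ha
    have h1 : IsUnit ((Ideal.Quotient.mk (Ideal.span {y})) (algebraMap A B a)) := ha
    exact isUnit_of_map_unit (algebraMap A B) a (isUnit_of_map_unit _ _ h1)
  have hle : Ideal.span {y} ≤ Ideal.comap π (Ideal.span {π y}) := by
    rw [Ideal.span_singleton_le_iff_mem, Ideal.mem_comap]
    exact Ideal.subset_span rfl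
  let π' : B ⧸ Ideal.span {y} →+* F ⧸ Ideal.span {π y} := Ideal.quotientMap _ π hle
  have hπ' : Function.Surjective π' := Ideal.quotientMap_surjective hπ
  have hker' : RingHom.ker π' =
      (maximalIdeal A).map (algebraMap A (B ⧸ Ideal.span {y})) := by
    have hcomp : algebraMap A (B ⧸ Ideal.span {y}) =
        (Ideal.Quotient.mk (Ideal.span {y})).comp (algebraMap A B) := rfl
    rw [hcomp, ← Ideal.map_map]
    ext z
    obtain ⟨b, rfl⟩ := Ideal.Quotient.mk_surjective z
    rw [RingHom.mem_ker, Ideal.mem_map_iff_of_surjective _ Ideal.Quotient.mk_surjective]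
    have h0 : π' (Ideal.Quotient.mk _ b) = Ideal.Quotient.mk _ (π b) := rfl
    rw [h0, Ideal.Quotient.eq_zero_iff_mem, Ideal.mem_span_singleton']
    constructor
    · rintro ⟨c', hc'⟩
      obtain ⟨c, rfl⟩ := hπ c'
      refine ⟨b - c * y, ?_, ?_⟩
      · rw [← hker, RingHom.mem_ker, map_sub, map_mul, hc', sub_self]
      · rw [map_sub, sub_eq_self, Ideal.Quotient.eq_zero_iff_mem, Ideal.mem_span_singleton']
        exact ⟨c, rfl⟩
    · rintro ⟨k, hk, hkb⟩
      rw [← hker, RingHom.mem_ker] at hk
      rw [Ideal.Quotient.eq, Ideal.mem_span_singleton'] at hkb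
      obtain ⟨c, hc⟩ := hkb
      refine ⟨- π c, ?_⟩
      have : π b = π k - π c * π y := by
        rw [← map_mul, ← map_sub, hc]; congr 1; ring
      rw [this, hk]; ring
  have key := ih A (B ⧸ Ideal.span {y}) (F ⧸ Ideal.span {π y}) π' hπ' hker' hdim
  rw [rees B y hy hregB, rees F (π y) hyF hreg]
  exact key

include hπ hker in
theorem step_A (d : ℕ) (ih : Stmt.{u} d) {x : A} (hx : x ∈ maximalIdeal A)
    (hreg : IsSMulRegular A x)
    (hdim : ringKrullDim (B ⧸ Ideal.span {algebraMap A B x}) ≤ d) :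
    LocCoh.IsGorensteinLocalRing B ↔
      (LocCoh.IsGorensteinLocalRing A ∧ LocCoh.IsGorensteinLocalRing F) := by
  have hregB : IsSMulRegular B (algebraMap A B x) := hreg.of_flat
  have hxB : algebraMap A B x ∈ maximalIdeal B := _root_.map_nonunit (algebraMap A B) _ hx
  have hJ : (Ideal.span {x}).map (algebraMap A B) = Ideal.span {algebraMap A B x} := by
    rw [Ideal.map_span, Set.image_singleton]
  have hIle : Ideal.span {x} ≤ maximalIdeal A := (Ideal.span_singleton_le_iff_mem _).2 hx
  have hJle : (Ideal.span {x}).map (algebraMap A B) ≤ maximalIdeal B := by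
    rw [hJ]; exact (Ideal.span_singleton_le_iff_mem _).2 hxB
  haveI : IsLocalRing (A ⧸ Ideal.span {x}) := isLocalRing_quot hIle
  haveI : IsLocalRing (B ⧸ (Ideal.span {x}).map (algebraMap A B)) := isLocalRing_quot hJle
  haveI : IsLocalHom (algebraMap (A ⧸ Ideal.span {x})
      (B ⧸ (Ideal.span {x}).map (algebraMap A B))) := by
    constructor
    intro a' ha'
    obtain ⟨a, rfl⟩ := Ideal.Quotient.mk_surjective a'
    have h1 : IsUnit (Ideal.Quotient.mk ((Ideal.span {x}).map (algebraMap A B))
        (algebraMap A B a)) := ha'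
    haveI := IsLocalHom.of_surjective
      (Ideal.Quotient.mk ((Ideal.span {x}).map (algebraMap A B))) Ideal.Quotient.mk_surjective
    have h2 : IsUnit a := isUnit_of_map_unit (algebraMap A B) a (isUnit_of_map_unit _ _ h1)
    exact h2.map _
  haveI : Module.Flat (A ⧸ Ideal.span {x}) (B ⧸ (Ideal.span {x}).map (algebraMap A B)) :=
    Module.Flat.of_linearEquiv
      (Algebra.TensorProduct.quotIdealMapEquivQuotTensor B (Ideal.span {x})).toLinearEquiv
  have hJker : ∀ b ∈ (Ideal.span {x}).map (algebraMap A B), π b = 0 := by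
    intro b hb
    have : b ∈ (maximalIdeal A).map (algebraMap A B) := Ideal.map_mono hIle hb
    rw [← hker] at this; exact this
  let π' : B ⧸ (Ideal.span {x}).map (algebraMap A B) →+* F := Ideal.Quotient.lift _ π hJker
  have hπ' : Function.Surjective π' := Ideal.Quotient.lift_surjective_of_surjective _ _ hπ
  have hker' : RingHom.ker π' = (maximalIdeal (A ⧸ Ideal.span {x})).map
      (algebraMap (A ⧸ Ideal.span {x}) (B ⧸ (Ideal.span {x}).map (algebraMap A B))) := by
    have h1 : RingHom.ker π' = (RingHom.ker π).map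
        (Ideal.Quotient.mk ((Ideal.span {x}).map (algebraMap A B))) :=
      Ideal.ker_quotient_lift π _
    rw [h1, hker, Ideal.map_map,
      ← map_maximalIdeal_of_surjective (Ideal.Quotient.mk (Ideal.span {x}))
        Ideal.Quotient.mk_surjective, Ideal.map_map]
    congr 1
  have hdim' : ringKrullDim (B ⧸ (Ideal.span {x}).map (algebraMap A B)) ≤ d := by
    rw [hJ]; exact hdim
  have key := ih (A ⧸ Ideal.span {x}) (B ⧸ (Ideal.span {x}).map (algebraMap A B)) F π' hπ' hker'
    hdim'
  rw [rees A x hx hreg]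
  have hB : LocCoh.IsGorensteinLocalRing B ↔
      LocCoh.IsGorensteinLocalRing (B ⧸ (Ideal.span {x}).map (algebraMap A B)) := by
    rw [hJ]; exact rees B _ hxB hregB
  rw [hB]; exact key

end StepF

theorem stmt_all : ∀ d : ℕ, Stmt.{u} d := by
  intro d
  induction d using Nat.strong_induction_on with
  | _ d ih =>
    intro A B F _ _ _ _ _ _ _ _ _ _ _ _ π hπ hker hdim
    by_cases hA : ∃ x ∈ maximalIdeal A, IsSMulRegular A x
    · obtain ⟨x, hx, hreg⟩ := hA
      have hregB : IsSMulRegular B (algebraMap A B x) := hreg.of_flat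
      have hxB := _root_.map_nonunit (algebraMap A B) _ hx
      obtain ⟨d', rfl, hd'⟩ := dim_quot_le hxB hregB hdim
      exact step_A π hπ hker d' (ih d' (Nat.lt_succ_self d')) hx hreg hd'
    · by_cases hF : ∃ y ∈ maximalIdeal B, IsSMulRegular F (π y)
      · obtain ⟨y, hy, hreg⟩ := hF
        obtain ⟨hregB, -⟩ := regular_and_flat_of_fibre (A := A) π hker hreg
        obtain ⟨d', rfl, hd'⟩ := dim_quot_le hy hregB hdim
        exact step_F π hπ hker d' (ih d' (Nat.lt_succ_self d')) hy hreg hd'
      · push Not at hA hF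
        obtain ⟨a, ha0, ha⟩ := exists_isSoc_of_forall_not_isSMulRegular A hA
        have hF' : ∀ r ∈ maximalIdeal F, ¬ IsSMulRegular F r := by
          intro r hr
          obtain ⟨n, hn, rfl⟩ := exists_mem_maximalIdeal_map_eq π hπ hr
          exact hF n hn
        obtain ⟨fb, hf0, hf⟩ := exists_isSoc_of_forall_not_isSMulRegular F hF'
        obtain ⟨f, rfl⟩ := hπ fb
        exact gorenstein_iff_of_isSoc π hπ hker ha0 ha hf0 hf

/-- **Gorenstein along flat local homomorphisms** (abstract fibre): for a flat local homomorphism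
`A → B` of Noetherian local rings and a surjection `π : B → F` with kernel `𝔪_A B`,
`B` is Gorenstein iff `A` and `F` are. -/
theorem gorenstein_flat_local_iff (A B F : Type u) [CommRing A] [CommRing B] [CommRing F]
    [IsLocalRing A] [IsLocalRing B] [IsLocalRing F] [IsNoetherianRing A] [IsNoetherianRing B]
    [IsNoetherianRing F] [Algebra A B] [IsLocalHom (algebraMap A B)] [Module.Flat A B]
    (π : B →+* F) (hπ : Function.Surjective π)
    (hker : RingHom.ker π = (maximalIdeal A).map (algebraMap A B)) :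
    LocCoh.IsGorensteinLocalRing B ↔
      (LocCoh.IsGorensteinLocalRing A ∧ LocCoh.IsGorensteinLocalRing F) := by
  obtain ⟨d, hd⟩ : ∃ d : ℕ, ringKrullDim B ≤ d := by
    have h1 : ringKrullDim B < ⊤ := ringKrullDim_lt_top
    have h2 : ringKrullDim B ≠ ⊤ := h1.ne
    have h3 : ringKrullDim B ≠ ⊥ := ringKrullDim_ne_bot
    obtain ⟨n, hn⟩ := WithBot.ne_bot_iff_exists.1 h3
    have h4 : n ≠ ⊤ := by
      rintro rfl
      exact h2 hn.symm
    obtain ⟨m, rfl⟩ := ENat.ne_top_iff_exists.1 h4
    exact ⟨m, hn.symm.le⟩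
  exact stmt_all d A B F π hπ hker hd

end Steps

end Groth.Agent.Lib.Helper33.GorFlat
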