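import Mathlib
import Groth.Agent.Lib.Helper33.GorFlat

/-!
# Transfer of the Gorenstein property: fields, ring isomorphisms, unramified flat local maps,
quotients
-/

set_option autoImplicit false
universe u

namespace Groth.Agent.Lib.Helper33.GorTransfer

open IsLocalRing
open Groth.Agent.Lib.Helper33.FlatSocle Groth.Agent.Lib.Helper33.GorSocle
  Groth.Agent.Lib.Helper33.GorFlat

/-- A field is a Gorenstein local ring. -/
theorem gorenstein_of_field (k : Type u) [Field k] : LocCoh.IsGorensteinLocalRing k := by
  apply gorenstein_of_socSimple k ⟨1, by rw [pow_one, IsLocalRing.maximalIdeal_eq_bot]⟩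
  refine ⟨1, one_ne_zero, ?_, fun u _ => ⟨u, (mul_one u).symm⟩⟩
  intro r hr
  rw [IsLocalRing.maximalIdeal_eq_bot, Ideal.mem_bot] at hr
  rw [hr, zero_mul]

/-- For a flat local homomorphism `A → B` of Noetherian local rings with `𝔪_A B = 𝔪_B`,
`B` is Gorenstein iff `A` is. -/
theorem gorenstein_iff_of_map_maximalIdeal_eq (A B : Type u) [CommRing A] [CommRing B]
    [IsLocalRing A] [IsLocalRing B] [IsNoetherianRing A] [IsNoetherianRing B] [Algebra A B]
    [IsLocalHom (algebraMap A B)] [Module.Flat A B]
    (h : (maximalIdeal A).map (algebraMap A B) = maximalIdeal B) :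
    LocCoh.IsGorensteinLocalRing B ↔ LocCoh.IsGorensteinLocalRing A := by
  have key := gorenstein_flat_local_iff A B (ResidueField B) (residue B)
    IsLocalRing.residue_surjective (by rw [IsLocalRing.ker_residue, h])
  rw [key]
  exact ⟨fun h => h.1, fun h => ⟨h, gorenstein_of_field _⟩⟩

/-- The Gorenstein property transfers along ring isomorphisms. -/
theorem gorenstein_of_ringEquiv {R R' : Type u} [CommRing R] [CommRing R'] (e : R ≃+* R')
    (h : LocCoh.IsGorensteinLocalRing R) : LocCoh.IsGorensteinLocalRing R' := by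
  haveI : IsLocalRing R' := e.isLocalRing
  haveI : IsNoetherianRing R' := isNoetherianRing_of_ringEquiv R e
  letI : Algebra R R' := e.toRingHom.toAlgebra
  haveI : IsLocalHom (algebraMap R R') := by
    constructor
    intro a ha
    have : IsUnit (e a) := ha
    simpa using this.map e.symm
  haveI : Module.Flat R R' := by
    let l : R ≃ₗ[R] R' :=
      { e.toAddEquiv with
        map_smul' := fun r x => by
          simp only [RingHom.id_apply, smul_eq_mul]
          show e (r * x) = e r * e x
          exact map_mul e r x }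
    exact Module.Flat.of_linearEquiv l.symm
  exact (gorenstein_iff_of_map_maximalIdeal_eq R R'
    (IsLocalRing.map_ringEquiv_maximalIdeal e)).2 h

theorem gorenstein_ringEquiv_iff {R R' : Type u} [CommRing R] [CommRing R'] (e : R ≃+* R') :
    LocCoh.IsGorensteinLocalRing R ↔ LocCoh.IsGorensteinLocalRing R' :=
  ⟨gorenstein_of_ringEquiv e, gorenstein_of_ringEquiv e.symm⟩

/-- Base change of a flat local homomorphism `A → B` (with fibre `F`) to `A/I → B/IB`. Only the
quotients and `F` are assumed Noetherian. -/
theorem gorenstein_quotient_iff (A B F : Type u) [CommRing A] [CommRing B] [CommRing F]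
    [IsLocalRing A] [IsLocalRing B] [IsLocalRing F] [IsNoetherianRing F] [Algebra A B]
    [IsLocalHom (algebraMap A B)] [Module.Flat A B] (I : Ideal A) (hIle : I ≤ maximalIdeal A)
    [IsNoetherianRing (A ⧸ I)] [IsNoetherianRing (B ⧸ I.map (algebraMap A B))]
    (π : B →+* F) (hπ : Function.Surjective π)
    (hker : RingHom.ker π = (maximalIdeal A).map (algebraMap A B)) :
    LocCoh.IsGorensteinLocalRing (B ⧸ I.map (algebraMap A B)) ↔
      (LocCoh.IsGorensteinLocalRing (A ⧸ I) ∧ LocCoh.IsGorensteinLocalRing F) := by
  have hJle : I.map (algebraMap A B) ≤ maximalIdeal B :=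
    (Ideal.map_mono hIle).trans (IsLocalRing.map_maximalIdeal_le (algebraMap A B))
  haveI : IsLocalRing (A ⧸ I) := isLocalRing_quot hIle
  haveI : IsLocalRing (B ⧸ I.map (algebraMap A B)) := isLocalRing_quot hJle
  haveI : IsLocalHom (algebraMap (A ⧸ I) (B ⧸ I.map (algebraMap A B))) := by
    constructor
    intro a' ha'
    obtain ⟨a, rfl⟩ := Ideal.Quotient.mk_surjective a'
    have h1 : IsUnit (Ideal.Quotient.mk (I.map (algebraMap A B)) (algebraMap A B a)) := ha'
    haveI := IsLocalHom.of_surjective
      (Ideal.Quotient.mk (I.map (algebraMap A B))) Ideal.Quotient.mk_surjective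
    have h2 : IsUnit a := isUnit_of_map_unit (algebraMap A B) a (isUnit_of_map_unit _ _ h1)
    exact h2.map _
  haveI : Module.Flat (A ⧸ I) (B ⧸ I.map (algebraMap A B)) :=
    Module.Flat.of_linearEquiv
      (Algebra.TensorProduct.quotIdealMapEquivQuotTensor B I).toLinearEquiv
  have hJker : ∀ b ∈ I.map (algebraMap A B), π b = 0 := by
    intro b hb
    have : b ∈ (maximalIdeal A).map (algebraMap A B) := Ideal.map_mono hIle hb
    rw [← hker] at this; exact this
  let π' : B ⧸ I.map (algebraMap A B) →+* F := Ideal.Quotient.lift _ π hJker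
  have hπ' : Function.Surjective π' := Ideal.Quotient.lift_surjective_of_surjective _ _ hπ
  have hker' : RingHom.ker π' = (maximalIdeal (A ⧸ I)).map
      (algebraMap (A ⧸ I) (B ⧸ I.map (algebraMap A B))) := by
    have h1 : RingHom.ker π' = (RingHom.ker π).map
        (Ideal.Quotient.mk (I.map (algebraMap A B))) :=
      Ideal.ker_quotient_lift π _
    rw [h1, hker, Ideal.map_map,
      ← map_maximalIdeal_of_surjective (Ideal.Quotient.mk I)
        Ideal.Quotient.mk_surjective, Ideal.map_map]
    congr 1
  exact gorenstein_flat_local_iff (A ⧸ I) (B ⧸ I.map (algebraMap A B)) F π' hπ' hker'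

end Groth.Agent.Lib.Helper33.GorTransfer
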