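import Mathlib
import Groth.Agent.Lib.Helper33.GorTransfer

/-!
# Noetherian local rings with principal maximal ideal are Gorenstein; polynomial rings over
Gorenstein rings
-/

set_option autoImplicit false
universe u

namespace Groth.Agent.Lib.Helper33.GorPoly

open IsLocalRing
open Groth.Agent.Lib.Helper33.FlatSocle Groth.Agent.Lib.Helper33.GorSocle
  Groth.Agent.Lib.Helper33.GorFlat Groth.Agent.Lib.Helper33.GorTransfer

/-- A Noetherian local ring with principal maximal ideal is Gorenstein. -/
theorem gorenstein_of_principal_maximalIdeal (F : Type u) [CommRing F] [IsLocalRing F]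
    [IsNoetherianRing F] (t : F) (ht : maximalIdeal F = Ideal.span {t}) :
    LocCoh.IsGorensteinLocalRing F := by
  have htm : t ∈ maximalIdeal F := by rw [ht]; exact Ideal.subset_span rfl
  have hmem : ∀ r ∈ maximalIdeal F, ∃ c, r = c * t := by
    intro r hr
    rw [ht, Ideal.mem_span_singleton'] at hr
    obtain ⟨c, hc⟩ := hr
    exact ⟨c, hc.symm⟩
  have hpow : ∀ k : ℕ, maximalIdeal F ^ k = Ideal.span {t ^ k} := by
    intro k; rw [ht, Ideal.span_singleton_pow]
  by_cases hnil : ∃ n : ℕ, t ^ n = 0
  · -- Artinian case
    classical
    have hn := Nat.find_spec hnil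
    have hmin := fun m => Nat.find_min hnil (m := m)
    generalize Nat.find hnil = n at hn hmin
    cases n with
    | zero =>
      exfalso
      rw [pow_zero] at hn
      exact one_ne_zero hn
    | succ m =>
      have hm0 : t ^ m ≠ 0 := fun h => hmin m (Nat.lt_succ_self m) h
      have hlow : ∀ j ≤ m, t ^ j ≠ 0 := by
        intro j hj h
        apply hm0
        have : t ^ m = t ^ j * t ^ (m - j) := by rw [← pow_add]; congr 1; omega
        rw [this, h, zero_mul]
      apply gorenstein_of_socSimple F ⟨m + 1, by rw [hpow, hn]; simp⟩
      refine ⟨t ^ m, hm0, ?_, ?_⟩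
      · intro r hr
        obtain ⟨c, rfl⟩ := hmem r hr
        rw [mul_assoc, ← pow_succ', hn, mul_zero]
      · intro u hu
        have key : ∀ j ≤ m, ∃ c, u = c * t ^ j := by
          intro j
          induction j with
          | zero => intro _; exact ⟨u, by rw [pow_zero, mul_one]⟩
          | succ j ih =>
            intro hj
            obtain ⟨c, hc⟩ := ih (by omega)
            have hcm : c ∈ maximalIdeal F := by
              rw [mem_maximalIdeal, mem_nonunits_iff]
              intro hunit
              obtain ⟨e, rfl⟩ := hunit
              have h1 : t * u = 0 := hu t htm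
              rw [hc] at h1
              have h2 : (↑e : F) * t ^ (j + 1) = 0 := by
                rw [← h1, pow_succ]; ring
              have h3 := congrArg (fun z => (↑e⁻¹ : F) * z) h2
              simp only [mul_zero, ← mul_assoc, Units.inv_mul, one_mul] at h3
              exact hlow (j + 1) hj h3
            obtain ⟨c', rfl⟩ := hmem c hcm
            exact ⟨c', by rw [hc, pow_succ]; ring⟩
        exact key m le_rfl
  · -- regular case
    push Not at hnil
    have hreg : IsSMulRegular F t := by
      rw [isSMulRegular_iff_right_eq_zero_of_smul]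
      intro a ha
      by_contra ha0
      have hinf := Ideal.iInf_pow_eq_bot_of_isLocalRing (maximalIdeal F)
        (maximalIdeal.isMaximal F).ne_top
      have hex : ∃ k : ℕ, a ∉ maximalIdeal F ^ k := by
        by_contra hall
        push Not at hall
        have : a ∈ ⨅ i : ℕ, maximalIdeal F ^ i := by
          rw [Ideal.mem_iInf]; exact hall
        rw [hinf, Ideal.mem_bot] at this
        exact ha0 this
      classical
      have hk := Nat.find_spec hex
      have hkmin := fun m => Nat.find_min hex (m := m)
      generalize Nat.find hex = k at hk hkmin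
      cases k with
      | zero => exact hk (by rw [pow_zero, Ideal.one_eq_top]; trivial)
      | succ k =>
        have h1 : a ∈ maximalIdeal F ^ k := by
          by_contra h; exact hkmin k (Nat.lt_succ_self k) h
        rw [hpow, Ideal.mem_span_singleton'] at h1
        obtain ⟨c, hc⟩ := h1
        have hcu : IsUnit c := by
          by_contra hnu
          have hcm : c ∈ maximalIdeal F := (mem_maximalIdeal c).2 hnu
          obtain ⟨c', rfl⟩ := hmem c hcm
          apply hk
          rw [hpow, Ideal.mem_span_singleton']
          exact ⟨c', by rw [← hc, pow_succ]; ring⟩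
        obtain ⟨e, rfl⟩ := hcu
        have h2 : (↑e : F) * t ^ (k + 1) = 0 := by
          have : t • a = 0 := ha
          rw [smul_eq_mul, ← hc] at this
          rw [← this, pow_succ]; ring
        have h3 := congrArg (fun z => (↑e⁻¹ : F) * z) h2
        simp only [mul_zero, ← mul_assoc, Units.inv_mul, one_mul] at h3
        exact hnil (k + 1) h3
    rw [rees F t htm hreg, ← ht]
    exact gorenstein_of_field (ResidueField F)

open Polynomial in
/-- Localizations of `R[X]` at primes over the maximal ideal of a Gorenstein local ring `R`
(abstract localization). -/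
theorem gorenstein_localization_polynomial' (R : Type u) [CommRing R]
    [hR : LocCoh.IsGorensteinLocalRing R] (p : Ideal R[X]) [p.IsPrime]
    (hmax : p.comap C = maximalIdeal R)
    (B : Type u) [CommRing B] [Algebra R[X] B] [IsLocalization.AtPrime B p]
    [Algebra R B] [IsScalarTower R R[X] B] :
    LocCoh.IsGorensteinLocalRing B := by
  haveI : IsLocalRing B := IsLocalization.AtPrime.isLocalRing B p
  haveI : IsNoetherianRing B := IsLocalization.isNoetherianRing p.primeCompl B inferInstance
  -- `p = 𝔪 R[X] + (y)`
  obtain ⟨y, hy⟩ : ∃ y : R[X], p = (p.comap C).map C ⊔ Ideal.span {y} := by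
    by_cases hne : p = (p.comap C).map C
    · exact ⟨0, by rw [Ideal.span_singleton_zero, sup_bot_eq]; exact hne⟩
    · have : (p.comap C).IsMaximal := by rw [hmax]; exact maximalIdeal.isMaximal R
      obtain ⟨f, -, hf⟩ := Polynomial.exists_monic_span_sup_map_eq R p this hne
      exact ⟨f, hf⟩
  rw [hmax] at hy
  haveI : IsLocalHom (algebraMap R B) := by
    constructor
    intro r hr
    rw [IsScalarTower.algebraMap_apply R R[X] B] at hr
    have h1 : algebraMap R R[X] r ∈ p.primeCompl :=
      (IsLocalization.AtPrime.isUnit_to_map_iff B p _).1 hr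
    by_contra hnu
    have h2 : r ∈ maximalIdeal R := (mem_maximalIdeal r).2 hnu
    rw [← hmax, Ideal.mem_comap] at h2
    exact h1 h2
  haveI : Module.Flat R[X] B := IsLocalization.flat B p.primeCompl
  haveI : Module.Flat R B := Module.Flat.trans R R[X] B
  have hle : (maximalIdeal R).map (algebraMap R B) ≤ maximalIdeal B :=
    IsLocalRing.map_maximalIdeal_le _
  haveI : IsLocalRing (B ⧸ (maximalIdeal R).map (algebraMap R B)) := isLocalRing_quot hle
  have hF : LocCoh.IsGorensteinLocalRing (B ⧸ (maximalIdeal R).map (algebraMap R B)) := by
    apply gorenstein_of_principal_maximalIdeal _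
      (Ideal.Quotient.mk _ (algebraMap R[X] B y))
    rw [← map_maximalIdeal_of_surjective (Ideal.Quotient.mk _) Ideal.Quotient.mk_surjective,
      ← IsLocalization.AtPrime.map_eq_maximalIdeal p B]
    have hmap : Ideal.map (algebraMap R[X] B) p =
        Ideal.map (algebraMap R[X] B) ((maximalIdeal R).map C ⊔ Ideal.span {y}) :=
      congrArg _ hy
    rw [hmap, Ideal.map_sup, Ideal.map_sup, Ideal.map_span, Ideal.map_span, Set.image_singleton,
      Set.image_singleton]
    have h0 : ((algebraMap R[X] B).comp C) = algebraMap R B := by
      rw [IsScalarTower.algebraMap_eq R R[X] B]; rfl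
    have h1 : Ideal.map (algebraMap R[X] B) (Ideal.map C (maximalIdeal R)) =
        Ideal.map (algebraMap R B) (maximalIdeal R) := by
      rw [Ideal.map_map, h0]
    rw [h1, Ideal.map_quotient_self, bot_sup_eq]
  exact (gorenstein_flat_local_iff R B (B ⧸ (maximalIdeal R).map (algebraMap R B))
    (Ideal.Quotient.mk ((maximalIdeal R).map (algebraMap R B)))
    Ideal.Quotient.mk_surjective Ideal.mk_ker).2 ⟨hR, hF⟩

open Polynomial Ideal in
/-- The polynomial ring over a Gorenstein ring is Gorenstein. -/
theorem isGorensteinRing_polynomial (R : Type u) [CommRing R] [hR : LocCoh.IsGorensteinRing R] :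
    LocCoh.IsGorensteinRing R[X] := by
  haveI : IsNoetherianRing R[X] := inferInstance
  refine ⟨?_⟩
  intro p hp
  let q := p.comap C
  let S := (Localization.AtPrime q)[X]
  let pc := Submonoid.map Polynomial.C.toMonoidHom q.primeCompl
  let : Algebra R[X] S := algebra R (Localization.AtPrime q)
  have : IsLocalization pc S := Polynomial.isLocalization _ _
  let pS := p.map (algebraMap R[X] S)
  have disj : Disjoint (pc : Set R[X]) (p : Set R[X]) := by
    simpa [pc, q] using! Set.disjoint_image_left.mpr
      (Set.disjoint_compl_left_iff_subset.mpr (fun _ a ↦ a))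
  have : pS.IsPrime := IsLocalization.isPrime_of_isPrime_disjoint pc _ _ ‹_› disj
  have : IsLocalization.AtPrime (Localization.AtPrime pS) p := by
    convert IsLocalization.isLocalization_isLocalization_atPrime_isLocalization pc
      (Localization.AtPrime pS) pS
    exact (IsLocalization.under_map_of_isPrime_disjoint pc _ ‹_› disj).symm
  have hq := hR.isGorensteinLocalRing_localization q
  have eq : comap C pS = maximalIdeal (Localization.AtPrime q) := by
    rw [← IsLocalization.map_under q.primeCompl _ (comap C pS),
      ← IsLocalization.map_under q.primeCompl _ (maximalIdeal (Localization.AtPrime q))]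
    simp only [comap_comap, S, pS]
    rw [← Polynomial.algebraMap_eq (R := Localization.AtPrime q),
      ← IsScalarTower.algebraMap_eq R (Localization.AtPrime q) (Localization.AtPrime q)[X],
      IsScalarTower.algebraMap_eq R R[X] (Localization.AtPrime q)[X], ← comap_comap,
      ← Ideal.under_def R[X], IsLocalization.under_map_of_isPrime_disjoint pc _ ‹_› disj]
    simp [q, IsLocalization.AtPrime.under_maximalIdeal (Localization.AtPrime q) q]
  have key := gorenstein_localization_polynomial' (Localization.AtPrime q) pS eq
    (Localization.AtPrime pS)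
  exact gorenstein_of_ringEquiv (IsLocalization.algEquiv p.primeCompl
    (Localization.AtPrime pS) (Localization.AtPrime p)).toRingEquiv key

end Groth.Agent.Lib.Helper33.GorPoly
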