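import Mathlib
import Groth.Agent.Lib.Helper33.GorPoly

/-!
# Gorenstein rings: ring isomorphisms, localizations, quotients by nonzerodivisors
-/

set_option autoImplicit false
universe u

namespace Groth.Agent.Lib.Helper33.GorRing

open IsLocalRing
open Groth.Agent.Lib.Helper33.GorFlat Groth.Agent.Lib.Helper33.GorTransfer

/-- The Gorenstein property of rings transfers along ring isomorphisms. -/
theorem isGorensteinRing_of_ringEquiv {R R' : Type u} [CommRing R] [CommRing R'] (e : R ≃+* R')
    [hR : LocCoh.IsGorensteinRing R] : LocCoh.IsGorensteinRing R' := by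
  haveI : IsNoetherianRing R' := isNoetherianRing_of_ringEquiv R e
  refine ⟨?_⟩
  intro P' hP'
  haveI : (P'.comap (e : R →+* R')).IsPrime := Ideal.comap_isPrime _ _
  have H : (P'.comap (e : R →+* R')).primeCompl.map e.toMonoidHom = P'.primeCompl := by
    ext x
    constructor
    · rintro ⟨y, hy, rfl⟩
      exact hy
    · intro hx
      refine ⟨e.symm x, ?_, by simp⟩
      show e.symm x ∉ P'.comap (e : R →+* R')
      rw [Ideal.mem_comap]
      simpa using hx
  have key := hR.isGorensteinLocalRing_localization (P'.comap (e : R →+* R'))
  exact gorenstein_of_ringEquiv (IsLocalization.ringEquivOfRingEquiv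
    (Localization.AtPrime (P'.comap (e : R →+* R'))) (Localization.AtPrime P') e H) key

/-- A localization of a Gorenstein ring is Gorenstein. -/
theorem isGorensteinRing_of_isLocalization {R : Type u} [CommRing R] (M : Submonoid R)
    (S : Type u) [CommRing S] [Algebra R S] [IsLocalization M S]
    [hR : LocCoh.IsGorensteinRing R] : LocCoh.IsGorensteinRing S := by
  haveI : IsNoetherianRing S := IsLocalization.isNoetherianRing M S inferInstance
  refine ⟨?_⟩
  intro P hP
  haveI : (P.comap (algebraMap R S)).IsPrime := Ideal.comap_isPrime _ _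
  haveI : IsLocalization.AtPrime (Localization.AtPrime P) (P.comap (algebraMap R S)) :=
    IsLocalization.isLocalization_isLocalization_atPrime_isLocalization M
      (Localization.AtPrime P) P
  have key := hR.isGorensteinLocalRing_localization (P.comap (algebraMap R S))
  exact gorenstein_of_ringEquiv (IsLocalization.algEquiv (P.comap (algebraMap R S)).primeCompl
    (Localization.AtPrime (P.comap (algebraMap R S))) (Localization.AtPrime P)).toRingEquiv key

/-- The local ring of a quotient `R/I` at a prime is the quotient of the local ring of `R`. -/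
theorem exists_ringEquiv_localization_quotient {R : Type u} [CommRing R] (I : Ideal R)
    (Pb : Ideal (R ⧸ I)) [Pb.IsPrime] :
    ∃ (_ : (Pb.comap (Ideal.Quotient.mk I)).IsPrime),
      Nonempty ((Localization.AtPrime (Pb.comap (Ideal.Quotient.mk I)) ⧸
        I.map (algebraMap R (Localization.AtPrime (Pb.comap (Ideal.Quotient.mk I))))) ≃+*
          Localization.AtPrime Pb) := by
  haveI hP : (Pb.comap (Ideal.Quotient.mk I)).IsPrime := Ideal.comap_isPrime _ _
  refine ⟨hP, ?_⟩
  set P := Pb.comap (Ideal.Quotient.mk I) with hPdef
  have hT : Submonoid.map (Ideal.Quotient.mk I) P.primeCompl = Pb.primeCompl := by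
    ext x
    constructor
    · rintro ⟨y, hy, rfl⟩
      exact hy
    · intro hx
      obtain ⟨y, rfl⟩ := Ideal.Quotient.mk_surjective x
      exact ⟨y, hx, rfl⟩
  haveI : IsLocalization (Submonoid.map (Ideal.Quotient.mk I) P.primeCompl)
      (Localization.AtPrime Pb) := by rw [hT]; infer_instance
  let ψ : Localization.AtPrime P →+* Localization.AtPrime Pb :=
    IsLocalization.map (Localization.AtPrime Pb) (Ideal.Quotient.mk I)
      (P.primeCompl.le_comap_map)
  have hψ : Function.Surjective ψ :=
    IsLocalization.map_surjective_of_surjective P.primeCompl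
      (Localization.AtPrime P) (Localization.AtPrime Pb) (g := Ideal.Quotient.mk I)
      Ideal.Quotient.mk_surjective
  have hker : RingHom.ker ψ = I.map (algebraMap R (Localization.AtPrime P)) := by
    have := IsLocalization.ker_map (M := P.primeCompl) (S := Localization.AtPrime P)
      (Localization.AtPrime Pb) (Ideal.Quotient.mk I)
      (T := Submonoid.map (Ideal.Quotient.mk I) P.primeCompl) rfl
    rw [Ideal.mk_ker] at this
    exact this
  exact ⟨(Ideal.quotEquivOfEq hker.symm).trans (RingHom.quotientKerEquivOfSurjective hψ)⟩

/-- The quotient of a Gorenstein ring by a nonzerodivisor is Gorenstein. -/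
theorem isGorensteinRing_quotient {R : Type u} [CommRing R] [hR : LocCoh.IsGorensteinRing R]
    (f : R) (hf : IsSMulRegular R f) : LocCoh.IsGorensteinRing (R ⧸ Ideal.span {f}) := by
  refine ⟨?_⟩
  intro Pb hPb
  obtain ⟨hP, ⟨e⟩⟩ := exists_ringEquiv_localization_quotient (Ideal.span {f}) Pb
  set P := Pb.comap (Ideal.Quotient.mk (Ideal.span {f})) with hPdef
  have key := hR.isGorensteinLocalRing_localization P
  have hfP : f ∈ P := by
    rw [hPdef, Ideal.mem_comap]
    have : Ideal.Quotient.mk (Ideal.span {f}) f = 0 :=
      Ideal.Quotient.eq_zero_iff_mem.2 (Ideal.subset_span rfl)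
    rw [this]; exact Pb.zero_mem
  have hfm : algebraMap R (Localization.AtPrime P) f ∈ maximalIdeal (Localization.AtPrime P) := by
    rw [← Localization.AtPrime.map_eq_maximalIdeal]
    exact Ideal.mem_map_of_mem _ hfP
  have hreg : IsSMulRegular (Localization.AtPrime P) (algebraMap R (Localization.AtPrime P) f) :=
    hf.of_flat
  have h1 := (rees (Localization.AtPrime P) _ hfm hreg).1 key
  have h2 : (Ideal.span {f}).map (algebraMap R (Localization.AtPrime P)) =
      Ideal.span {algebraMap R (Localization.AtPrime P) f} := by
    rw [Ideal.map_span, Set.image_singleton]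
  rw [← h2] at h1
  exact gorenstein_of_ringEquiv e h1

end Groth.Agent.Lib.Helper33.GorRing
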