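import Mathlib
import Groth.Agent.Lib.Helper33.GorRing
import Groth.Agent.S0345

/-!
# Descent of the Gorenstein property along flat local homomorphisms; Gorenstein local rings are
Gorenstein rings
-/

set_option autoImplicit false
universe u

namespace Groth.Agent.Lib.Helper33.GorDescent

open IsLocalRing
open Groth.Agent.Lib.Helper33.GorFlat

/-- If `A → B` is a flat local homomorphism of Noetherian local rings and `B` is Gorenstein, then
so is `A`. -/
theorem gorenstein_of_flat_local (A B : Type u) [CommRing A] [CommRing B] [IsLocalRing A]
    [IsLocalRing B] [IsNoetherianRing A] [IsNoetherianRing B] [Algebra A B]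
    [IsLocalHom (algebraMap A B)] [Module.Flat A B] (hB : LocCoh.IsGorensteinLocalRing B) :
    LocCoh.IsGorensteinLocalRing A := by
  have hle : (maximalIdeal A).map (algebraMap A B) ≤ maximalIdeal B :=
    IsLocalRing.map_maximalIdeal_le _
  haveI : IsLocalRing (B ⧸ (maximalIdeal A).map (algebraMap A B)) := isLocalRing_quot hle
  exact ((gorenstein_flat_local_iff A B (B ⧸ (maximalIdeal A).map (algebraMap A B))
    (Ideal.Quotient.mk _) Ideal.Quotient.mk_surjective Ideal.mk_ker).1 hB).1

/-- A Gorenstein local ring is a Gorenstein ring. -/
theorem isGorensteinRing_of_isGorensteinLocalRing (B : Type u) [CommRing B]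
    [hB : LocCoh.IsGorensteinLocalRing B] : LocCoh.IsGorensteinRing B :=
  ((Groth.Agent.S0345.result B).1 hB.exists_hasInjectiveDimensionLT).1

/-- Localization at a prime `q` of a flat `A`-algebra `T` lying over the maximal ideal of the local
ring `A`: if `T_q` is Gorenstein then `A` is. -/
theorem gorenstein_of_localization_flat (A T : Type u) [CommRing A] [CommRing T] [IsLocalRing A]
    [IsNoetherianRing A] [Algebra A T] [Module.Flat A T] (q : Ideal T) [q.IsPrime]
    (hq : q.comap (algebraMap A T) = maximalIdeal A)
    (C : Type u) [CommRing C] [Algebra T C] [IsLocalization.AtPrime C q] [Algebra A C]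
    [IsScalarTower A T C] (hC : LocCoh.IsGorensteinLocalRing C) :
    LocCoh.IsGorensteinLocalRing A := by
  haveI : IsLocalHom (algebraMap A C) := by
    constructor
    intro b hb
    rw [IsScalarTower.algebraMap_apply A T C] at hb
    have h1 : algebraMap A T b ∈ q.primeCompl :=
      (IsLocalization.AtPrime.isUnit_to_map_iff C q _).1 hb
    by_contra hnu
    have h2 : b ∈ maximalIdeal A := (mem_maximalIdeal b).2 hnu
    rw [← hq, Ideal.mem_comap] at h2
    exact h1 h2
  haveI : Module.Flat T C := IsLocalization.flat C q.primeCompl
  haveI : Module.Flat A C := Module.Flat.trans A T C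
  exact gorenstein_of_flat_local A C hC

end Groth.Agent.Lib.Helper33.GorDescent
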