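import Mathlib
import Groth.Agent.Lib.Helper33.GorDescent

/-!
# Gorenstein property for localizations of a flat algebra
-/

set_option autoImplicit false
universe u

namespace Groth.Agent.Lib.Helper33.GorLoc

open IsLocalRing
open Groth.Agent.Lib.Helper33.GorFlat

/-- Let `T` be a flat `C`-algebra, `q` a prime of `T` over the prime `p` of `C`, `A = C_p`,
`D = T_q`. Then `D` is Gorenstein iff `A` and `D/pD` are. -/
theorem gorenstein_localization_iff (C T A D : Type u) [CommRing C] [CommRing T] [CommRing A]
    [CommRing D] [Algebra C T] [Module.Flat C T] [Algebra C A] [Algebra T D] [Algebra C D]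
    [IsScalarTower C T D] [Algebra A D] [IsScalarTower C A D]
    (p : Ideal C) [p.IsPrime] (q : Ideal T) [q.IsPrime]
    [IsLocalization.AtPrime A p] [IsLocalization.AtPrime D q]
    (hpq : q.comap (algebraMap C T) = p) [IsNoetherianRing A] [IsNoetherianRing D] :
    haveI : IsLocalRing D := IsLocalization.AtPrime.isLocalRing D q
    LocCoh.IsGorensteinLocalRing D ↔
      (LocCoh.IsGorensteinLocalRing A ∧ LocCoh.IsGorensteinLocalRing
        (D ⧸ (p.map (algebraMap C T)).map (algebraMap T D))) := by
  haveI : IsLocalRing A := IsLocalization.AtPrime.isLocalRing A p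
  haveI : IsLocalRing D := IsLocalization.AtPrime.isLocalRing D q
  have hmA : maximalIdeal A = p.map (algebraMap C A) :=
    (IsLocalization.AtPrime.map_eq_maximalIdeal p A).symm
  have hmD : maximalIdeal D = q.map (algebraMap T D) :=
    (IsLocalization.AtPrime.map_eq_maximalIdeal q D).symm
  have hker : (maximalIdeal A).map (algebraMap A D) =
      (p.map (algebraMap C T)).map (algebraMap T D) := by
    rw [hmA, Ideal.map_map, Ideal.map_map, ← IsScalarTower.algebraMap_eq,
      ← IsScalarTower.algebraMap_eq]
  have hle : (maximalIdeal A).map (algebraMap A D) ≤ maximalIdeal D := by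
    rw [hker, hmD]
    apply Ideal.map_mono
    rw [Ideal.map_le_iff_le_comap, hpq]
  haveI : IsLocalHom (algebraMap A D) :=
    ((local_hom_TFAE (algebraMap A D)).out 0 2).2 hle
  haveI : Module.Flat T D := IsLocalization.flat D q.primeCompl
  haveI : Module.Flat C D := Module.Flat.trans C T D
  haveI : Module.Flat A D := (Module.flat_iff_of_isLocalization A p.primeCompl D).2 inferInstance
  haveI : IsLocalRing (D ⧸ (p.map (algebraMap C T)).map (algebraMap T D)) := by
    apply isLocalRing_quot
    rw [← hker]; exact hle
  exact gorenstein_flat_local_iff A D (D ⧸ (p.map (algebraMap C T)).map (algebraMap T D))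
    (Ideal.Quotient.mk _) Ideal.Quotient.mk_surjective (by rw [Ideal.mk_ker, hker])

end Groth.Agent.Lib.Helper33.GorLoc
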