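import Mathlib
import Groth.Agent.Lib.Helper33.GorLoc

/-!
# Gorenstein property and fibre rings `κ(p) ⊗ T`
-/

set_option autoImplicit false
universe u

namespace Groth.Agent.Lib.Helper33.GorFibreRing

open IsLocalRing TensorProduct
open Groth.Agent.Lib.Helper33.GorFlat Groth.Agent.Lib.Helper33.GorTransfer
  Groth.Agent.Lib.Helper33.GorLoc

/-- `T` a flat `C`-algebra, `p` a prime of `C`, `q'` a prime of the fibre ring `κ(p) ⊗ T` whose
local ring is Gorenstein, `r` the corresponding prime of `T`. Then `T_r` is Gorenstein iff `C_p`
is. -/
theorem gorenstein_localization_iff_of_fiber (C T : Type u) [CommRing C] [CommRing T]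
    [Algebra C T] [Module.Flat C T] (p : Ideal C) [p.IsPrime] (q' : Ideal (p.Fiber T))
    [q'.IsPrime] [IsNoetherianRing (Localization.AtPrime p)]
    [IsNoetherianRing (Localization.AtPrime (q'.comap Algebra.TensorProduct.includeRight))]
    (hfib : LocCoh.IsGorensteinLocalRing (Localization.AtPrime q')) :
    LocCoh.IsGorensteinLocalRing
        (Localization.AtPrime (q'.comap Algebra.TensorProduct.includeRight)) ↔
      LocCoh.IsGorensteinLocalRing (Localization.AtPrime p) := by
  have hpr : (q'.comap Algebra.TensorProduct.includeRight).comap (algebraMap C T) = p := by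
    have h1 : p = q'.comap (algebraMap C (p.Fiber T)) := Ideal.over_def q' p
    refine Eq.trans ?_ h1.symm
    ext c
    rw [Ideal.mem_comap, Ideal.mem_comap, Ideal.mem_comap]
    have h2 : (Algebra.TensorProduct.includeRight : T →ₐ[C] p.Fiber T) (algebraMap C T c) =
        algebraMap C (p.Fiber T) c := by
      show (1 : p.ResidueField) ⊗ₜ[C] (algebraMap C T c) = algebraMap C (p.Fiber T) c
      rw [Algebra.TensorProduct.algebraMap_apply, Algebra.algebraMap_eq_smul_one,
        Algebra.algebraMap_eq_smul_one (A := p.ResidueField), TensorProduct.smul_tmul]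
    rw [h2]
  letI : Algebra (Localization.AtPrime p)
      (Localization.AtPrime (q'.comap Algebra.TensorProduct.includeRight)) :=
    (Localization.localRingHom p (q'.comap Algebra.TensorProduct.includeRight) (algebraMap C T)
      hpr.symm).toAlgebra
  haveI : IsScalarTower C (Localization.AtPrime p)
      (Localization.AtPrime (q'.comap Algebra.TensorProduct.includeRight)) :=
    IsScalarTower.of_algebraMap_eq (fun c => by
      rw [IsScalarTower.algebraMap_apply C T
        (Localization.AtPrime (q'.comap Algebra.TensorProduct.includeRight))]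
      exact (Localization.localRingHom_to_map p _ (algebraMap C T) hpr.symm c).symm)
  have key := gorenstein_localization_iff C T (Localization.AtPrime p)
    (Localization.AtPrime (q'.comap Algebra.TensorProduct.includeRight)) p
    (q'.comap Algebra.TensorProduct.includeRight) hpr
  have hF := gorenstein_of_ringEquiv (Ideal.Fiber.algEquivAux₂ p q').toRingEquiv hfib
  rw [key]
  exact ⟨fun h => h.1, fun h => ⟨h, hF⟩⟩

/-- `T` a flat `C`-algebra, `q` a prime of `T` over `p`; if the fibre ring `κ(p) ⊗ T` is a
Gorenstein ring then `T_q` is Gorenstein iff `C_p` is. -/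
theorem gorenstein_localization_iff_of_gorenstein_fiber (C T : Type u) [CommRing C] [CommRing T]
    [Algebra C T] [Module.Flat C T] (q : Ideal T) [q.IsPrime]
    [IsNoetherianRing (Localization.AtPrime (q.comap (algebraMap C T)))]
    [IsNoetherianRing (Localization.AtPrime q)]
    [hfib : LocCoh.IsGorensteinRing ((q.comap (algebraMap C T)).Fiber T)] :
    LocCoh.IsGorensteinLocalRing (Localization.AtPrime q) ↔
      LocCoh.IsGorensteinLocalRing (Localization.AtPrime (q.comap (algebraMap C T))) := by
  set p : Ideal C := q.comap (algebraMap C T) with hp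
  let q'S : PrimeSpectrum (p.Fiber T) :=
    PrimeSpectrum.preimageEquivFiber C T ⟨p, inferInstance⟩ ⟨⟨q, inferInstance⟩, rfl⟩
  have h : q'S.asIdeal.comap (Algebra.TensorProduct.includeRight : T →ₐ[C] p.Fiber T) = q := by
    have := (PrimeSpectrum.preimageEquivFiber C T ⟨p, inferInstance⟩).left_inv
      ⟨⟨q, inferInstance⟩, rfl⟩
    exact congrArg (fun z => z.1.asIdeal) this
  have main : ∀ (r : Ideal T) [r.IsPrime],
      r = q'S.asIdeal.comap (Algebra.TensorProduct.includeRight : T →ₐ[C] p.Fiber T) →
      ∀ [IsNoetherianRing (Localization.AtPrime r)],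
      (LocCoh.IsGorensteinLocalRing (Localization.AtPrime r) ↔
        LocCoh.IsGorensteinLocalRing (Localization.AtPrime p)) := by
    intro r _ hr
    subst hr
    intro _
    exact gorenstein_localization_iff_of_fiber C T p q'S.asIdeal
      (hfib.isGorensteinLocalRing_localization q'S.asIdeal)
  exact main q h.symm

/-- Descent: `T` flat over `C`, `q` a prime of `T`: if `T_q` is Gorenstein, so is `C_p`. -/
theorem gorenstein_of_gorenstein_localization (C T : Type u) [CommRing C] [CommRing T]
    [Algebra C T] [Module.Flat C T] (q : Ideal T) [q.IsPrime]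
    [IsNoetherianRing (Localization.AtPrime (q.comap (algebraMap C T)))]
    (hq : LocCoh.IsGorensteinLocalRing (Localization.AtPrime q)) :
    LocCoh.IsGorensteinLocalRing (Localization.AtPrime (q.comap (algebraMap C T))) := by
  letI : Algebra (Localization.AtPrime (q.comap (algebraMap C T))) (Localization.AtPrime q) :=
    (Localization.localRingHom (q.comap (algebraMap C T)) q (algebraMap C T) rfl).toAlgebra
  haveI : IsScalarTower C (Localization.AtPrime (q.comap (algebraMap C T)))
      (Localization.AtPrime q) :=
    IsScalarTower.of_algebraMap_eq (fun c => by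
      rw [IsScalarTower.algebraMap_apply C T (Localization.AtPrime q)]
      exact (Localization.localRingHom_to_map _ _ (algebraMap C T) rfl c).symm)
  exact ((gorenstein_localization_iff C T (Localization.AtPrime (q.comap (algebraMap C T)))
    (Localization.AtPrime q) (q.comap (algebraMap C T)) q rfl).1 hq).1

end Groth.Agent.Lib.Helper33.GorFibreRing
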