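import Mathlib
import Groth.Agent.Lib.Helper33.GorRing

/-!
# Base change of Gorenstein algebras along finitely generated field extensions
-/

set_option autoImplicit false
universe u

namespace Groth.Agent.Lib.Helper33.GorField

open IsLocalRing TensorProduct Polynomial
open Groth.Agent.Lib.Helper33.GorFlat Groth.Agent.Lib.Helper33.GorTransfer
  Groth.Agent.Lib.Helper33.GorRing Groth.Agent.Lib.Helper33.GorPoly

/-- quotient of a Gorenstein ring by `span {f}` with `f` regular or zero. -/
theorem isGorensteinRing_quotient' {R : Type u} [CommRing R] [hR : LocCoh.IsGorensteinRing R]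
    (f : R) (hf : f = 0 ∨ IsSMulRegular R f) : LocCoh.IsGorensteinRing (R ⧸ Ideal.span {f}) := by
  rcases hf with rfl | hf
  · have h0 : Ideal.span {(0 : R)} = ⊥ := Ideal.span_singleton_zero
    exact isGorensteinRing_of_ringEquiv
      ((RingEquiv.quotientBot R).symm.trans (Ideal.quotEquivOfEq h0.symm))
  · exact isGorensteinRing_quotient f hf

/-- `F[X] ⊗_F R` is Gorenstein. -/
theorem isGorensteinRing_polynomial_tensor (F R : Type u) [Field F] [CommRing R] [Algebra F R]
    [hR : LocCoh.IsGorensteinRing R] : LocCoh.IsGorensteinRing (F[X] ⊗[F] R) := by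
  haveI := isGorensteinRing_polynomial R
  exact isGorensteinRing_of_ringEquiv
    ((polyEquivTensor F R).trans (Algebra.TensorProduct.comm F R F[X])).toRingEquiv

/-- `F[x] ⊗_F R` is Gorenstein for the subalgebra `F[x]` generated by one element. -/
theorem isGorensteinRing_adjoin_tensor (F K R : Type u) [Field F] [Field K] [Algebra F K] (x : K)
    [CommRing R] [Algebra F R] [hR : LocCoh.IsGorensteinRing R] :
    LocCoh.IsGorensteinRing ((Algebra.adjoin F {x} : Subalgebra F K) ⊗[F] R) := by
  set φ : F[X] →ₐ[F] K := Polynomial.aeval x with hφ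
  set I : Ideal F[X] := RingHom.ker φ with hI
  let e1 : (F[X] ⧸ I) ≃ₐ[F] φ.range := Ideal.quotientKerEquivRange φ
  let e2 : φ.range ≃ₐ[F] (Algebra.adjoin F {x} : Subalgebra F K) :=
    Subalgebra.equivOfEq _ _ (Algebra.adjoin_singleton_eq_range_aeval F x).symm
  let e3 : (F[X] ⧸ I) ⊗[F] R ≃ₐ[F] (Algebra.adjoin F {x} : Subalgebra F K) ⊗[F] R :=
    Algebra.TensorProduct.congr (e1.trans e2) AlgEquiv.refl
  let e4 := Algebra.TensorProduct.quotientTensorEquiv (R := F) F R F[X] I
  -- generator of `I`
  obtain ⟨g, hg⟩ : ∃ g : F[X], I = Ideal.span {g} :=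
    ⟨Submodule.IsPrincipal.generator I, (Ideal.span_singleton_generator I).symm⟩
  haveI := isGorensteinRing_polynomial_tensor F R
  have hmap : I.map (algebraMap F[X] (F[X] ⊗[F] R)) =
      Ideal.span {algebraMap F[X] (F[X] ⊗[F] R) g} := by
    rw [hg, Ideal.map_span, Set.image_singleton]
  have hreg : algebraMap F[X] (F[X] ⊗[F] R) g = 0 ∨
      IsSMulRegular (F[X] ⊗[F] R) (algebraMap F[X] (F[X] ⊗[F] R) g) := by
    by_cases hg0 : g = 0
    · left; rw [hg0, map_zero]
    · right
      have hinj : Function.Injective (LinearMap.mulLeft F g) := by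
        intro a b hab
        exact mul_left_cancel₀ hg0 hab
      have h2 := Module.Flat.rTensor_preserves_injective_linearMap (M := R)
        (LinearMap.mulLeft F g) hinj
      intro a b hab
      apply h2
      have key : ∀ t : F[X] ⊗[F] R, (LinearMap.rTensor R (LinearMap.mulLeft F g)) t =
          algebraMap F[X] (F[X] ⊗[F] R) g • t := by
        intro t
        induction t using TensorProduct.induction_on with
        | zero => simp
        | tmul p r =>
          rw [LinearMap.rTensor_tmul, LinearMap.mulLeft_apply, smul_eq_mul,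
            Algebra.TensorProduct.algebraMap_apply, Algebra.TensorProduct.tmul_mul_tmul, one_mul]
          rfl
        | add p q hp hq => rw [map_add, smul_add, hp, hq]
      rw [key, key]
      exact hab
  have h5 := isGorensteinRing_quotient' (R := F[X] ⊗[F] R) _ hreg
  rw [← hmap] at h5
  exact isGorensteinRing_of_ringEquiv (e4.symm.trans e3).toRingEquiv

/-- Base change of a localization: if `A ⊗_F R` is Gorenstein and `B` is a localization of `A`, then
`B ⊗_F R` is Gorenstein. -/
theorem isGorensteinRing_tensor_of_isLocalization (F A B R : Type u) [CommRing F] [CommRing A]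
    [Algebra F A] [CommRing B] [Algebra F B] [Algebra A B] [IsScalarTower F A B]
    (M : Submonoid A) [IsLocalization M B] [CommRing R] [Algebra F R]
    [hR : LocCoh.IsGorensteinRing (A ⊗[F] R)] : LocCoh.IsGorensteinRing (B ⊗[F] R) := by
  letI : Algebra (A ⊗[F] R) (B ⊗[F] R) :=
    (Algebra.TensorProduct.map (IsScalarTower.toAlgHom F A B) (AlgHom.id F R)).toRingHom.toAlgebra
  haveI : IsScalarTower A (A ⊗[F] R) (B ⊗[F] R) :=
    IsScalarTower.of_algebraMap_eq (fun a => rfl)
  haveI := IsLocalization.tensorProduct_tensorProduct F R M B (by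
    ext r
    show Algebra.TensorProduct.map (IsScalarTower.toAlgHom F A B) (AlgHom.id F R)
      ((1 : A) ⊗ₜ[F] r) = (1 : B) ⊗ₜ[F] r
    rw [Algebra.TensorProduct.map_tmul, map_one]
    rfl)
  exact isGorensteinRing_of_isLocalization
    (Algebra.algebraMapSubmonoid (A ⊗[F] R) M) (B ⊗[F] R)

open scoped IntermediateField.algebraAdjoinAdjoin in
open IntermediateField in
/-- `F(x) ⊗_F R` is Gorenstein for a simple field extension `F(x)`. -/
theorem isGorensteinRing_adjoin_simple_tensor (F K R : Type u) [Field F] [Field K] [Algebra F K]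
    (x : K) [CommRing R] [Algebra F R] [hR : LocCoh.IsGorensteinRing R] :
    LocCoh.IsGorensteinRing (F⟮x⟯ ⊗[F] R) := by
  haveI := isGorensteinRing_adjoin_tensor F K R x
  exact isGorensteinRing_tensor_of_isLocalization F (Algebra.adjoin F {x} : Subalgebra F K) F⟮x⟯ R
    (nonZeroDivisors (Algebra.adjoin F {x} : Subalgebra F K))

/-- Transitivity step (abstract fields). -/
theorem isGorensteinRing_tensor_trans (k L E R : Type u) [Field k] [Field L] [Field E]
    [Algebra k L] [Algebra L E] [Algebra k E] [IsScalarTower k L E] [CommRing R] [Algebra k R]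
    (hE : ∀ (R' : Type u) [CommRing R'] [Algebra L R'] [LocCoh.IsGorensteinRing R'],
      LocCoh.IsGorensteinRing (E ⊗[L] R'))
    [hR : LocCoh.IsGorensteinRing (L ⊗[k] R)] : LocCoh.IsGorensteinRing (E ⊗[k] R) := by
  haveI := hE (L ⊗[k] R)
  exact isGorensteinRing_of_ringEquiv
    (Algebra.TensorProduct.cancelBaseChange k L L E R).toRingEquiv

open IntermediateField in
/-- **Base change of Gorenstein algebras along finitely generated field extensions.** -/
theorem isGorensteinRing_tensor_of_fg (k K : Type u) [Field k] [Field K] [Algebra k K]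
    (hK : ∃ s : Finset K, IntermediateField.adjoin k (s : Set K) = ⊤) (R : Type u) [CommRing R]
    [Algebra k R] [hR : LocCoh.IsGorensteinRing R] : LocCoh.IsGorensteinRing (K ⊗[k] R) := by
  obtain ⟨s, hs⟩ := hK
  have key : ∀ (R : Type u) [CommRing R] [Algebra k R] [LocCoh.IsGorensteinRing R],
      LocCoh.IsGorensteinRing ((IntermediateField.adjoin k (s : Set K)) ⊗[k] R) := by
    refine IntermediateField.induction_on_adjoin_finset s
      (fun (L : IntermediateField k K) => ∀ (R : Type u) [CommRing R] [Algebra k R]
        [LocCoh.IsGorensteinRing R], LocCoh.IsGorensteinRing (L ⊗[k] R)) ?_ ?_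
    · intro R _ _ _
      exact isGorensteinRing_of_ringEquiv
        ((Algebra.TensorProduct.lid k R).symm.trans
          (Algebra.TensorProduct.congr (IntermediateField.botEquiv k K).symm
            AlgEquiv.refl)).toRingEquiv
    · intro L x _ ih R _ _ _
      haveI := ih R
      haveI := isGorensteinRing_tensor_trans k L L⟮x⟯ R
        (fun R' _ _ _ => isGorensteinRing_adjoin_simple_tensor L K R' x)
      let e2 : L⟮x⟯ ≃ₐ[k] (L⟮x⟯.restrictScalars k) :=
        { toFun := fun y => ⟨y.1, y.2⟩
          invFun := fun y => ⟨y.1, y.2⟩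
          left_inv := fun _ => rfl
          right_inv := fun _ => rfl
          map_mul' := fun _ _ => rfl
          map_add' := fun _ _ => rfl
          commutes' := fun _ => rfl }
      exact isGorensteinRing_of_ringEquiv
        (Algebra.TensorProduct.congr e2 AlgEquiv.refl).toRingEquiv
  have h1 := key R
  rw [hs] at h1
  exact isGorensteinRing_of_ringEquiv
    (Algebra.TensorProduct.congr (IntermediateField.topEquiv (F := k) (E := K))
      AlgEquiv.refl).toRingEquiv

end Groth.Agent.Lib.Helper33.GorField
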