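import Mathlib
import Groth.Agent.S0564
import Groth.Agent.Lib.Helper73.HeightGoingDown

/-!
# Regular rings: basic permanence (helper33)
-/

set_option autoImplicit false
universe u
open IsLocalRing

namespace Groth.Agent.Lib.Helper33

/-- A regular local ring is a regular ring. -/
theorem isRegularRing_of_isRegularLocalRing (R : Type u) [CommRing R] [IsRegularLocalRing R] :
    IsRegularRing R :=
  ⟨fun p _ => Groth.Agent.S0564.result R p⟩

/-- A Noetherian ring whose localizations at maximal ideals are regular is regular. -/
theorem isRegularRing_of_forall_isMaximal (R : Type u) [CommRing R] [IsNoetherianRing R]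
    (h : ∀ (m : Ideal R) [m.IsMaximal], IsRegularLocalRing (Localization.AtPrime m)) :
    IsRegularRing R := by
  rw [isRegularRing_iff]
  intro p hp
  obtain ⟨m, hm, hpm⟩ := Ideal.exists_le_maximal p hp.ne_top
  have := h m
  let Rm := Localization.AtPrime m
  let pS := p.map (algebraMap R Rm)
  have disj : Disjoint (m.primeCompl : Set R) (p : Set R) := by
    rw [Set.disjoint_left]
    intro x hx hxp
    exact hx (hpm hxp)
  have hpS : pS.IsPrime := IsLocalization.isPrime_of_isPrime_disjoint m.primeCompl _ _ hp disj
  have hloc : IsLocalization.AtPrime (Localization.AtPrime pS) p := by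
    convert IsLocalization.isLocalization_isLocalization_atPrime_isLocalization m.primeCompl
      (Localization.AtPrime pS) pS
    exact (IsLocalization.under_map_of_isPrime_disjoint m.primeCompl _ hp disj).symm
  have : IsRegularLocalRing (Localization.AtPrime pS) := Groth.Agent.S0564.result Rm pS
  exact IsRegularLocalRing.of_ringEquiv (IsLocalization.algEquiv p.primeCompl
    (Localization.AtPrime pS) (Localization.AtPrime p)).toRingEquiv

/-- Regular ascent: a flat local homomorphism `A → B` of Noetherian local rings with `A` regular
and `m_A B = m_B` has `B` regular. -/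
theorem isRegularLocalRing_of_flat_of_map_maximalIdeal (A B : Type*) [CommRing A] [CommRing B]
    [IsRegularLocalRing A] [IsLocalRing B] [IsNoetherianRing B] [Algebra A B] [Module.Flat A B]
    [IsLocalHom (algebraMap A B)]
    (h : (maximalIdeal A).map (algebraMap A B) = maximalIdeal B) : IsRegularLocalRing B := by
  apply IsRegularLocalRing.of_spanFinrank_maximalIdeal_le
  have h1 : (maximalIdeal B).spanFinrank ≤ (maximalIdeal A).spanFinrank := by
    rw [← h]
    exact Ideal.spanFinrank_map_le_of_fg _ (maximalIdeal A).fg_of_isNoetherianRing
  have hlo : (maximalIdeal B).LiesOver (maximalIdeal A) :=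
    ⟨(IsLocalRing.maximalIdeal_comap (algebraMap A B)).symm⟩
  have h2 : (maximalIdeal A).height ≤ (maximalIdeal B).height :=
    Groth.Agent.Lib.Helper73.height_le_height_of_hasGoingDown (maximalIdeal A) (maximalIdeal B)
  have h3 : ringKrullDim A ≤ ringKrullDim B := by
    rw [← IsLocalRing.maximalIdeal_height_eq_ringKrullDim,
      ← IsLocalRing.maximalIdeal_height_eq_ringKrullDim]
    exact_mod_cast h2
  have h4 : ((maximalIdeal A).spanFinrank : WithBot ℕ∞) = ringKrullDim A :=
    IsRegularLocalRing.spanFinrank_maximalIdeal
  calc ((maximalIdeal B).spanFinrank : WithBot ℕ∞)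
      ≤ ((maximalIdeal A).spanFinrank : WithBot ℕ∞) := by exact_mod_cast h1
    _ = ringKrullDim A := h4
    _ ≤ ringKrullDim B := h3

end Groth.Agent.Lib.Helper33
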