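import Mathlib

/-!
# A normality criterion via a prime element (helper33)

If `x` is a prime element of a domain `R`, `R_(x)` is integrally closed and `R_p` is integrally
closed for every prime `p ∌ x`, then `R` is integrally closed (`R = R_(x) ∩ R[1/x]`).
-/

set_option autoImplicit false
universe u
open scoped nonZeroDivisors

namespace Groth.Agent.Lib.Helper33

/-- Membership in the localization subalgebra of the fraction field. -/
theorem mem_localization_subalgebra_iff {R : Type*} [CommRing R] [IsDomain R] (S : Submonoid R)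
    (hS : S ≤ R⁰) (α : FractionRing R) :
    α ∈ Localization.subalgebra (FractionRing R) S hS ↔
      ∃ a s : R, s ∈ S ∧ α * algebraMap R (FractionRing R) s = algebraMap R (FractionRing R) a := by
  constructor
  · rintro ⟨a, s, hs, rfl⟩
    exact ⟨a, s, hs, IsLocalization.mk'_spec _ _ _⟩
  · rintro ⟨a, s, hs, h⟩
    exact ⟨a, s, hs, (IsLocalization.eq_mk'_iff_mul_eq (y := (⟨s, hS hs⟩ : R⁰))).mpr h⟩

theorem isIntegrallyClosed_of_prime (R : Type u) [CommRing R] [IsDomain R] (x : R) (hx : Prime x)
    [hxp : (Ideal.span {x}).IsPrime]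
    (h1 : IsIntegrallyClosed (Localization.AtPrime (Ideal.span {x})))
    (h2 : ∀ (p : Ideal R) [p.IsPrime], x ∉ p → IsIntegrallyClosed (Localization.AtPrime p)) :
    IsIntegrallyClosed R := by
  classical
  let ι := Option {p : PrimeSpectrum R // x ∉ p.asIdeal}
  let S : ι → Submonoid R := fun i =>
    match i with
    | none => (Ideal.span {x}).primeCompl
    | some p => p.1.asIdeal.primeCompl
  have hS : ∀ i, S i ≤ R⁰ := by
    intro i
    match i with
    | none => exact Ideal.primeCompl_le_nonZeroDivisors _
    | some p => exact Ideal.primeCompl_le_nonZeroDivisors _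
  refine IsIntegrallyClosed.of_localization_submonoid S hS ?_ ?_
  · intro i
    match i with
    | none => exact h1
    | some p => exact h2 p.1.asIdeal p.2
  · rw [eq_bot_iff]
    intro α hα
    rw [Algebra.mem_iInf] at hα
    -- step 1 : `α ∈ R_(x)`
    obtain ⟨b, s, hs, hbs⟩ := (mem_localization_subalgebra_iff _ (hS none) α).mp (hα none)
    have hs' : ¬ x ∣ s := by
      intro hdvd
      exact hs (Ideal.mem_span_singleton.mpr hdvd)
    -- step 2 : some power of `x` is a denominator
    let D : Ideal R := (LinearMap.range (Algebra.linearMap R (FractionRing R))).colon {α}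
    have hD : ∀ r : R, r ∈ D ↔ ∃ c : R, α * algebraMap R (FractionRing R) r =
        algebraMap R (FractionRing R) c := by
      intro r
      rw [Submodule.mem_colon_singleton, LinearMap.mem_range]
      constructor
      · rintro ⟨c, hc⟩
        refine ⟨c, ?_⟩
        rw [Algebra.linearMap_apply] at hc
        rw [hc, Algebra.smul_def, mul_comm]
      · rintro ⟨c, hc⟩
        refine ⟨c, ?_⟩
        rw [Algebra.linearMap_apply, ← hc, Algebra.smul_def, mul_comm]
    have hpow : ∃ n : ℕ, x ^ n ∈ D := by
      by_contra hcon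
      push Not at hcon
      have hdisj : Disjoint (D : Set R) (Submonoid.powers x) := by
        rw [Set.disjoint_left]
        rintro r hr ⟨n, rfl⟩
        exact hcon n hr
      obtain ⟨p, hp, hDp, hpdisj⟩ := Ideal.exists_le_prime_disjoint D (Submonoid.powers x) hdisj
      have hxp : x ∉ p := fun hxp =>
        Set.disjoint_left.mp hpdisj hxp (Submonoid.mem_powers x)
      obtain ⟨c, t, ht, hct⟩ := (mem_localization_subalgebra_iff _
        (hS (some ⟨⟨p, hp⟩, hxp⟩)) α).mp (hα (some ⟨⟨p, hp⟩, hxp⟩))
      exact ht (hDp ((hD t).mpr ⟨c, hct⟩))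
    obtain ⟨n, hn⟩ := hpow
    obtain ⟨a, ha⟩ := (hD _).mp hn
    -- step 3 : `x ^ n ∣ a`
    have hinj : Function.Injective (algebraMap R (FractionRing R)) :=
      IsFractionRing.injective R (FractionRing R)
    have h3 : a * s = b * x ^ n := by
      apply hinj
      rw [map_mul, map_mul, ← ha, ← hbs]
      ring
    have h4 : x ^ n ∣ a := hx.pow_dvd_of_dvd_mul_right n hs' (h3 ▸ Dvd.intro_left b rfl)
    obtain ⟨c, rfl⟩ := h4
    rw [Algebra.mem_bot]
    refine ⟨c, ?_⟩
    have hxn : algebraMap R (FractionRing R) (x ^ n) ≠ 0 := by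
      rw [Ne, map_eq_zero_iff _ hinj]
      exact pow_ne_zero n hx.ne_zero
    apply mul_right_cancel₀ hxn
    rw [ha, map_mul, mul_comm]

end Groth.Agent.Lib.Helper33
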