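import Mathlib
import Groth.Agent.Lib.Helper49.FibreSk
import Groth.Agent.Lib.Helper49.StalkLoc

/-!
# Cohen–Macaulay local rings along flat local homomorphisms (ring-level iff)
-/

set_option autoImplicit false
universe u

namespace Groth.Agent.Lib.Helper33.CMFlatLocal

open IsLocalRing Groth.Agent.Lib.Helper29 Groth.Agent.Lib.Helper49.FibreSk

theorem cm_iff_aux (R : Type u) [CommRing R] [IsLocalRing R] [IsNoetherianRing R] :
    LocCoh.IsCohenMacaulayLocalRing R ↔
      ringKrullDim R = ((LocCoh.depth R R : ℕ∞) : WithBot ℕ∞) := by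
  constructor
  · intro h
    rw [← Module.supportDim_self_eq_ringKrullDim]
    exact h.supportDim_eq_depth
  · intro h
    refine { supportDim_eq_depth := ?_ }
    rw [Module.supportDim_self_eq_ringKrullDim]
    exact h

/-- `A → B` flat local homomorphism of Noetherian local rings, `F` the closed fibre:
`B` is Cohen–Macaulay iff `A` and `F` are. -/
theorem cm_flat_local_iff (A B : Type u) [CommRing A] [CommRing B] [IsLocalRing A] [IsLocalRing B]
    [IsNoetherianRing A] [IsNoetherianRing B] [Algebra A B] [IsLocalHom (algebraMap A B)]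
    [Module.Flat A B] (I : Ideal B) (hI : I = (maximalIdeal A).map (algebraMap A B))
    [IsLocalRing (B ⧸ I)] :
    LocCoh.IsCohenMacaulayLocalRing B ↔
      (LocCoh.IsCohenMacaulayLocalRing A ∧ LocCoh.IsCohenMacaulayLocalRing (B ⧸ I)) := by
  rw [cm_iff_aux, cm_iff_aux, cm_iff_aux]
  have hd := depth_eq_add_depth_fibre A B I hI
  have hk := ringKrullDim_eq_add_fibre A B I hI
  have h1 := DepthLib.depth_le_supportDim A A
  have h2 := DepthLib.depth_le_supportDim (B ⧸ I) (B ⧸ I)
  rw [Module.supportDim_self_eq_ringKrullDim] at h1 h2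
  obtain ⟨a, ha⟩ := DimTheory.exists_nat_supportDim A A
  obtain ⟨b, hb⟩ := DimTheory.exists_nat_supportDim (B ⧸ I) (B ⧸ I)
  rw [Module.supportDim_self_eq_ringKrullDim] at ha hb
  obtain ⟨a', ha'⟩ := ENat.ne_top_iff_exists.1 (DepthLib.depth_ne_top A A)
  obtain ⟨b', hb'⟩ := ENat.ne_top_iff_exists.1 (DepthLib.depth_ne_top (B ⧸ I) (B ⧸ I))
  rw [ha, ← ha'] at h1
  rw [hb, ← hb'] at h2
  rw [hk, hd, ha, hb, ← ha', ← hb']
  have h1' : a' ≤ a := by exact_mod_cast h1
  have h2' : b' ≤ b := by exact_mod_cast h2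
  constructor
  · intro h
    have h' : a + b = a' + b' := by exact_mod_cast h
    have e1 : a = a' := by omega
    have e2 : b = b' := by omega
    subst e1 e2
    exact ⟨rfl, rfl⟩
  · rintro ⟨e1, e2⟩
    have e1' : a = a' := by exact_mod_cast e1
    have e2' : b = b' := by exact_mod_cast e2
    subst e1' e2'
    push_cast
    rfl

end Groth.Agent.Lib.Helper33.CMFlatLocal
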