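import Mathlib
import Groth.Agent.Lib.Helper33.CMFlatLocal
import Groth.Agent.Lib.Helper33.GorFlat

/-!
# Cohen–Macaulay fibres of a composition (ring level)
-/

set_option autoImplicit false
universe u

namespace Groth.Agent.Lib.Helper33.CMComp

open IsLocalRing Groth.Agent.Lib.Helper33.CMFlatLocal Groth.Agent.Lib.Helper49.StalkLoc
  Groth.Agent.Lib.Helper33.GorFlat

theorem cm_ringEquiv_iff {R R' : Type u} [CommRing R] [CommRing R'] (e : R ≃+* R') :
    LocCoh.IsCohenMacaulayLocalRing R ↔ LocCoh.IsCohenMacaulayLocalRing R' :=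
  ⟨isCohenMacaulayLocalRing_of_ringEquiv e, isCohenMacaulayLocalRing_of_ringEquiv e.symm⟩

/-- Abstract-fibre version of the flat local CM criterion. -/
theorem cm_flat_local_iff' (A B F : Type u) [CommRing A] [CommRing B] [CommRing F]
    [IsLocalRing A] [IsLocalRing B] [IsLocalRing F] [IsNoetherianRing A] [IsNoetherianRing B]
    [Algebra A B] [IsLocalHom (algebraMap A B)] [Module.Flat A B]
    (π : B →+* F) (hπ : Function.Surjective π)
    (hker : RingHom.ker π = (maximalIdeal A).map (algebraMap A B)) :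
    LocCoh.IsCohenMacaulayLocalRing B ↔
      (LocCoh.IsCohenMacaulayLocalRing A ∧ LocCoh.IsCohenMacaulayLocalRing F) := by
  let e : F ≃+* (B ⧸ (maximalIdeal A).map (algebraMap A B)) :=
    (RingHom.quotientKerEquivOfSurjective hπ).symm.trans (Ideal.quotEquivOfEq hker)
  haveI : IsLocalRing (B ⧸ (maximalIdeal A).map (algebraMap A B)) := e.isLocalRing
  rw [cm_flat_local_iff A B _ rfl, cm_ringEquiv_iff e]

/-- Base change of a flat local homomorphism `A → B` (with fibre `F`) to `A/I → B/IB`. Only the
quotients are assumed Noetherian. -/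
theorem cm_quotient_iff (A B F : Type u) [CommRing A] [CommRing B] [CommRing F]
    [IsLocalRing A] [IsLocalRing B] [IsLocalRing F] [Algebra A B]
    [IsLocalHom (algebraMap A B)] [Module.Flat A B] (I : Ideal A) (hIle : I ≤ maximalIdeal A)
    [IsNoetherianRing (A ⧸ I)] [IsNoetherianRing (B ⧸ I.map (algebraMap A B))]
    (π : B →+* F) (hπ : Function.Surjective π)
    (hker : RingHom.ker π = (maximalIdeal A).map (algebraMap A B)) :
    LocCoh.IsCohenMacaulayLocalRing (B ⧸ I.map (algebraMap A B)) ↔
      (LocCoh.IsCohenMacaulayLocalRing (A ⧸ I) ∧ LocCoh.IsCohenMacaulayLocalRing F) := by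
  have hJle : I.map (algebraMap A B) ≤ maximalIdeal B :=
    (Ideal.map_mono hIle).trans (IsLocalRing.map_maximalIdeal_le (algebraMap A B))
  haveI : IsLocalRing (A ⧸ I) := isLocalRing_quot hIle
  haveI : IsLocalRing (B ⧸ I.map (algebraMap A B)) := isLocalRing_quot hJle
  haveI : IsLocalHom (algebraMap (A ⧸ I) (B ⧸ I.map (algebraMap A B))) := by
    constructor
    intro a' ha'
    obtain ⟨a, rfl⟩ := Ideal.Quotient.mk_surjective a'
    have h1 : IsUnit (Ideal.Quotient.mk (I.map (algebraMap A B)) (algebraMap A B a)) := ha'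
    haveI := IsLocalHom.of_surjective
      (Ideal.Quotient.mk (I.map (algebraMap A B))) Ideal.Quotient.mk_surjective
    have h2 : IsUnit a := isUnit_of_map_unit (algebraMap A B) a (isUnit_of_map_unit _ _ h1)
    exact h2.map _
  haveI : Module.Flat (A ⧸ I) (B ⧸ I.map (algebraMap A B)) :=
    Module.Flat.of_linearEquiv
      (Algebra.TensorProduct.quotIdealMapEquivQuotTensor B I).toLinearEquiv
  have hJker : ∀ b ∈ I.map (algebraMap A B), π b = 0 := by
    intro b hb
    have : b ∈ (maximalIdeal A).map (algebraMap A B) := Ideal.map_mono hIle hb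
    rw [← hker] at this; exact this
  let π' : B ⧸ I.map (algebraMap A B) →+* F := Ideal.Quotient.lift _ π hJker
  have hπ' : Function.Surjective π' := Ideal.Quotient.lift_surjective_of_surjective _ _ hπ
  have hker' : RingHom.ker π' = (maximalIdeal (A ⧸ I)).map
      (algebraMap (A ⧸ I) (B ⧸ I.map (algebraMap A B))) := by
    have h1 : RingHom.ker π' = (RingHom.ker π).map
        (Ideal.Quotient.mk (I.map (algebraMap A B))) :=
      Ideal.ker_quotient_lift π _
    rw [h1, hker, Ideal.map_map,
      ← map_maximalIdeal_of_surjective (Ideal.Quotient.mk I)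
        Ideal.Quotient.mk_surjective, Ideal.map_map]
    congr 1
  exact cm_flat_local_iff' (A ⧸ I) (B ⧸ I.map (algebraMap A B)) F π' hπ' hker'

/-- Local rings `A → B → C` with `B → C` flat local; `G = B/𝔪_A B`, `H = C/𝔪_A C`,
`F = C/𝔪_B C` (given by surjections), `G`, `H` Noetherian. Then `H` is CM iff `G` and `F` are. -/
theorem cm_fibres_comp {A B C G H F : Type u} [CommRing A] [CommRing B] [CommRing C]
    [CommRing G] [CommRing H] [CommRing F] [IsLocalRing A] [IsLocalRing B] [IsLocalRing C]
    [IsLocalRing G] [IsLocalRing H] [IsLocalRing F]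
    [IsNoetherianRing G] [IsNoetherianRing H]
    (φ : A →+* B) (ψ : B →+* C) [IsLocalHom φ] [IsLocalHom ψ] (hψ : ψ.Flat)
    (πg : B →+* G) (hπg : Function.Surjective πg)
    (hkerg : RingHom.ker πg = (maximalIdeal A).map φ)
    (πh : C →+* H) (hπh : Function.Surjective πh)
    (hkerh : RingHom.ker πh = (maximalIdeal A).map (ψ.comp φ))
    (πf : C →+* F) (hπf : Function.Surjective πf)
    (hkerf : RingHom.ker πf = (maximalIdeal B).map ψ) :
    LocCoh.IsCohenMacaulayLocalRing H ↔
      (LocCoh.IsCohenMacaulayLocalRing G ∧ LocCoh.IsCohenMacaulayLocalRing F) := by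
  letI : Algebra B C := ψ.toAlgebra
  haveI : IsLocalHom (algebraMap B C) := ‹IsLocalHom ψ›
  haveI : Module.Flat B C := hψ
  set I : Ideal B := (maximalIdeal A).map φ with hI
  have hIle : I ≤ maximalIdeal B := IsLocalRing.map_maximalIdeal_le φ
  let eG : (B ⧸ I) ≃+* G :=
    (Ideal.quotEquivOfEq hkerg.symm).trans (RingHom.quotientKerEquivOfSurjective hπg)
  have hIC : I.map (algebraMap B C) = RingHom.ker πh := by
    rw [hkerh, hI, Ideal.map_map]; rfl
  let eH : (C ⧸ I.map (algebraMap B C)) ≃+* H :=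
    (Ideal.quotEquivOfEq hIC).trans (RingHom.quotientKerEquivOfSurjective hπh)
  haveI : IsNoetherianRing (B ⧸ I) := isNoetherianRing_of_ringEquiv G eG.symm
  haveI : IsNoetherianRing (C ⧸ I.map (algebraMap B C)) :=
    isNoetherianRing_of_ringEquiv H eH.symm
  have key := cm_quotient_iff B C F I hIle πf hπf hkerf
  rw [← cm_ringEquiv_iff eG, ← cm_ringEquiv_iff eH]
  exact key

end Groth.Agent.Lib.Helper33.CMComp
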