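import Mathlib
import Groth.Agent.Lib.Helper29.DepthExt
import Groth.Agent.Lib.Helper29.DepthZero
import Groth.Agent.Lib.Helper33.DepthZeroFree

/-!
# The Auslander–Buchsbaum formula (helper33)

`R` Noetherian local, `M` a nonzero finite module of finite projective dimension `e`:
`depth R = e + depth M` (for the prelude's `LocCoh.depth`).
The proof follows Matsumura 19.1, through the `Ext^i(k, -)` characterisation of depth (helper29's
`DepthExt.idealDepth_eq_iff_ext`) and a minimal presentation.
-/

set_option autoImplicit false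
universe u
open CategoryTheory Abelian IsLocalRing

namespace Groth.Agent.Lib.Helper33.AB

variable {R : Type u} [CommRing R]

section free

variable (X : ModuleCat.{u} R) (j : ℕ) (K : Type u) [AddCommGroup K] [Module R K]
  [Module.Free R K] [Module.Finite R K]

/-- `Ext^j(X, K) = 0` for `K` finite free as soon as `Ext^j(X, R) = 0`. -/
theorem ext_free_subsingleton (h : Subsingleton (Ext X (ModuleCat.of R R) j)) :
    Subsingleton (Ext X (ModuleCat.of R K) j) := by
  let b := Module.Free.chooseBasis R K
  have hid : 𝟙 (ModuleCat.of R K) = ∑ l, ModuleCat.ofHom (b.coord l) ≫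
      ModuleCat.ofHom (LinearMap.toSpanSingleton R K (b l)) := by
    ext x
    simp only [ModuleCat.hom_id, LinearMap.id_coe, id_eq, ModuleCat.hom_sum, ModuleCat.hom_comp,
      ModuleCat.hom_ofHom, LinearMap.coe_sum, Finset.sum_apply, LinearMap.coe_comp,
      Function.comp_apply, Module.Basis.coord_apply, LinearMap.toSpanSingleton_apply]
    exact (b.sum_repr x).symm
  refine ⟨fun ξ η => ?_⟩
  have key : ∀ ξ : Ext X (ModuleCat.of R K) j, ξ = 0 := by
    intro ξ
    rw [← Ext.comp_mk₀_id ξ, hid, Ext.mk₀_sum, Ext.comp_sum]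
    refine Finset.sum_eq_zero fun l _ => ?_
    rw [← Ext.mk₀_comp_mk₀, ← Ext.comp_assoc_of_third_deg_zero,
      Subsingleton.elim (ξ.comp (Ext.mk₀ (ModuleCat.ofHom (b.coord l))) (add_zero j)) 0,
      Ext.zero_comp]
  rw [key ξ, key η]

/-- `Ext^j(X, K) ≠ 0` for `K` nonzero finite free as soon as `Ext^j(X, R) ≠ 0`. -/
theorem ext_free_nontrivial [Nontrivial K] (h : Nontrivial (Ext X (ModuleCat.of R R) j)) :
    Nontrivial (Ext X (ModuleCat.of R K) j) := by
  let b := Module.Free.chooseBasis R K
  obtain ⟨l₀⟩ : Nonempty (Module.Free.ChooseBasisIndex R K) := b.index_nonempty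
  have hcomp : ModuleCat.ofHom (LinearMap.toSpanSingleton R K (b l₀)) ≫
      ModuleCat.ofHom (b.coord l₀) = 𝟙 (ModuleCat.of R R) := by
    ext
    simp
  let Φ : Ext X (ModuleCat.of R R) j → Ext X (ModuleCat.of R K) j := fun ξ =>
    ξ.comp (Ext.mk₀ (ModuleCat.ofHom (LinearMap.toSpanSingleton R K (b l₀)))) (add_zero j)
  have hΦ : Function.Injective Φ := by
    intro ξ η hξη
    have := congrArg (fun ζ : Ext X (ModuleCat.of R K) j =>
      ζ.comp (Ext.mk₀ (ModuleCat.ofHom (b.coord l₀))) (add_zero j)) hξη
    simp only [Φ] at this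
    rwa [Ext.comp_assoc_of_third_deg_zero, Ext.comp_assoc_of_third_deg_zero, Ext.mk₀_comp_mk₀,
      hcomp, Ext.comp_mk₀_id, Ext.comp_mk₀_id] at this
  exact hΦ.nontrivial

end free

section local_

variable [IsLocalRing R]

/-- Elements of the maximal ideal kill `Ext^j(k, -)`. -/
theorem smul_ext_eq_zero {a : R} (ha : a ∈ maximalIdeal R) (Y : ModuleCat.{u} R) (j : ℕ)
    (ξ : Ext (ModuleCat.of R (R ⧸ maximalIdeal R)) Y j) : a • ξ = 0 := by
  have h0 : a • 𝟙 (ModuleCat.of R (R ⧸ maximalIdeal R)) = 0 := by
    ext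
    simp only [ModuleCat.hom_smul, ModuleCat.hom_id, LinearMap.coe_comp, Function.comp_apply,
      Submodule.mkQ_apply, LinearMap.smul_apply, LinearMap.id_coe, id_eq, ModuleCat.hom_zero,
      LinearMap.zero_comp, LinearMap.zero_apply]
    rw [← Submodule.Quotient.mk_smul, Submodule.Quotient.mk_eq_zero]
    simpa using ha
  rw [← Ext.mk₀_id_comp ξ, ← Ext.smul_comp, ← Ext.mk₀_smul, h0, Ext.mk₀_zero, Ext.zero_comp]

/-- A map from a finite free module into `R^r` with all coordinates in the maximal ideal induces
zero on `Ext^j(k, -)`. -/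
theorem comp_mk₀_eq_zero_of_mem_maximalIdeal (K : Type u) [AddCommGroup K] [Module R K]
    [Module.Free R K] [Module.Finite R K] (r : ℕ) (ι : K →ₗ[R] (Fin r → R))
    (h : ∀ c i, ι c i ∈ maximalIdeal R) (j : ℕ)
    (ξ : Ext (ModuleCat.of R (R ⧸ maximalIdeal R)) (ModuleCat.of R K) j) :
    ξ.comp (Ext.mk₀ (ModuleCat.ofHom ι)) (add_zero j) = 0 := by
  let b := Module.Free.chooseBasis R K
  have hι : ModuleCat.ofHom ι = ∑ l, ∑ i, (ι (b l) i) •
      (ModuleCat.ofHom (b.coord l) ≫ ModuleCat.ofHom (LinearMap.single R (fun _ : Fin r => R) i)) := by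
    ext x : 2
    simp only [ModuleCat.hom_ofHom, ModuleCat.hom_sum, ModuleCat.hom_smul, ModuleCat.hom_comp,
      LinearMap.coe_sum, Finset.sum_apply, LinearMap.smul_apply, LinearMap.coe_comp,
      Function.comp_apply, Module.Basis.coord_apply]
    conv_lhs => rw [← b.sum_repr x, map_sum]
    refine Finset.sum_congr rfl fun l _ => ?_
    rw [map_smul]
    ext i'
    simp only [Pi.smul_apply, smul_eq_mul, Finset.sum_apply, LinearMap.single_apply]
    rw [Finset.sum_eq_single i']
    · simp [mul_comm]
    · intro i _ hi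
      simp [Pi.single_eq_of_ne hi.symm]
    · intro hi
      exact absurd (Finset.mem_univ i') hi
  rw [hι, Ext.mk₀_sum, Ext.comp_sum]
  refine Finset.sum_eq_zero fun l _ => ?_
  rw [Ext.mk₀_sum, Ext.comp_sum]
  refine Finset.sum_eq_zero fun i _ => ?_
  rw [Ext.mk₀_smul, Ext.comp_smul, ← Ext.smul_comp, smul_ext_eq_zero (h (b l) i), Ext.zero_comp]

/-- Finite projective modules over a local ring are free. -/
theorem free_of_hasProjectiveDimensionLT_one (M : Type u) [AddCommGroup M] [Module R M]
    [Module.Finite R M] (h : HasProjectiveDimensionLT (ModuleCat.of R M) 1) : Module.Free R M := by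
  have h1 : Projective (ModuleCat.of R M) := projective_iff_hasProjectiveDimensionLT_one.mpr h
  rw [← IsProjective.iff_projective] at h1
  exact Module.free_of_flat_of_isLocalRing

variable [IsNoetherianRing R]

/-- The key induction for Auslander–Buchsbaum, in terms of `Ext^i(k, -)`. -/
theorem ext_residue_of_projectiveDimension (t : ℕ)
    (ht1 : ∀ i < t, Subsingleton (Ext (ModuleCat.of R (R ⧸ maximalIdeal R)) (ModuleCat.of R R) i))
    (ht2 : Nontrivial (Ext (ModuleCat.of R (R ⧸ maximalIdeal R)) (ModuleCat.of R R) t)) (e : ℕ) :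
    ∀ (M : Type u) [AddCommGroup M] [Module R M] [Module.Finite R M] [Nontrivial M],
      HasProjectiveDimensionLT (ModuleCat.of R M) (e + 1) →
      ¬ HasProjectiveDimensionLT (ModuleCat.of R M) e →
      e ≤ t ∧
      (∀ i, i + e < t →
        Subsingleton (Ext (ModuleCat.of R (R ⧸ maximalIdeal R)) (ModuleCat.of R M) i)) ∧
      Nontrivial (Ext (ModuleCat.of R (R ⧸ maximalIdeal R)) (ModuleCat.of R M) (t - e)) := by
  induction e with
  | zero =>
    intro M _ _ _ _ h1 _
    have : Module.Free R M := free_of_hasProjectiveDimensionLT_one M h1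
    refine ⟨Nat.zero_le _, fun i hi => ?_, ?_⟩
    · exact ext_free_subsingleton _ i M (ht1 i (by omega))
    · exact ext_free_nontrivial _ (t - 0) M (by simpa using ht2)
  | succ e ih =>
    intro M _ _ _ _ h1 h2
    obtain ⟨r, π, hπ, hker⟩ := exists_minimal_presentation R M
    have hS := LinearMap.shortExact_shortComplexKer hπ
    have hFproj : Projective (ModuleCat.of R (Fin r → R)) := by
      rw [← IsProjective.iff_projective]; infer_instance
    -- projective dimension of the kernel
    have hK1 : HasProjectiveDimensionLT (ModuleCat.of R (LinearMap.ker π)) (e + 1) :=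
      (hS.hasProjectiveDimensionLT_X₃_iff e hFproj).mp h1
    have hK2 : ¬ HasProjectiveDimensionLT (ModuleCat.of R (LinearMap.ker π)) e := by
      intro hlt
      apply h2
      obtain _ | e' := e
      · -- kernel is zero, so `M` is projective
        have hz : Limits.IsZero (ModuleCat.of R (LinearMap.ker π)) :=
          (hasProjectiveDimensionLT_zero_iff_isZero _).mp hlt
        have hsub : Subsingleton (LinearMap.ker π) := ModuleCat.subsingleton_of_isZero hz
        have hinj : Function.Injective π := by
          rw [← LinearMap.ker_eq_bot]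
          exact Submodule.eq_bot_of_subsingleton
        have e' : (Fin r → R) ≃ₗ[R] M := LinearEquiv.ofBijective π ⟨hinj, hπ⟩
        have : Module.Projective R M := Module.Projective.of_equiv e'
        have hP : Projective (ModuleCat.of R M) := by
          rw [← IsProjective.iff_projective]; infer_instance
        exact projective_iff_hasProjectiveDimensionLT_one.mp hP
      · exact (hS.hasProjectiveDimensionLT_X₃_iff e' hFproj).mpr hlt
    have hKnt : Nontrivial (LinearMap.ker π) := by
      by_contra hnt
      rw [not_nontrivial_iff_subsingleton] at hnt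
      apply hK2
      have hz : Limits.IsZero (ModuleCat.of R (LinearMap.ker π)) :=
        ModuleCat.isZero_of_subsingleton _
      have h0 : HasProjectiveDimensionLT (ModuleCat.of R (LinearMap.ker π)) 0 :=
        (hasProjectiveDimensionLT_zero_iff_isZero _).mpr hz
      exact hasProjectiveDimensionLT_of_ge _ 0 e (Nat.zero_le _)
    obtain ⟨het, hKvan, hKnon⟩ := ih (LinearMap.ker π) hK1 hK2
    -- the map `Ext^j(k, K) → Ext^j(k, F)` vanishes for `j = t - e`
    have hzero : ∀ ξ : Ext (ModuleCat.of R (R ⧸ maximalIdeal R))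
        (ModuleCat.of R (LinearMap.ker π)) (t - e),
        ξ.comp (Ext.mk₀ (ModuleCat.ofHom (LinearMap.ker π).subtype)) (add_zero (t - e)) = 0 := by
      intro ξ
      obtain _ | e' := e
      · have : Module.Free R (LinearMap.ker π) := free_of_hasProjectiveDimensionLT_one _ hK1
        exact comp_mk₀_eq_zero_of_mem_maximalIdeal (LinearMap.ker π) r (LinearMap.ker π).subtype
          (fun c i => hker c.1 c.2 i) _ ξ
      · have : Subsingleton (Ext (ModuleCat.of R (R ⧸ maximalIdeal R))
            (ModuleCat.of R (Fin r → R)) (t - (e' + 1))) :=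
          ext_free_subsingleton _ _ _ (ht1 _ (by omega))
        exact Subsingleton.elim _ _
    -- `e + 1 ≤ t`
    have het' : e + 1 ≤ t := by
      by_contra hlt
      have hte : t - e = 0 := by omega
      rw [hte] at hKnon hzero
      have hmono : Mono (ModuleCat.ofHom (LinearMap.ker π).subtype) := hS.mono_f
      have hinj := Ext.postcomp_mk₀_injective_of_mono (ModuleCat.of R (R ⧸ maximalIdeal R))
        (ModuleCat.ofHom (LinearMap.ker π).subtype)
      obtain ⟨x, y, hxy⟩ := hKnon
      apply hxy
      apply hinj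
      show x.comp _ (add_zero 0) = y.comp _ (add_zero 0)
      rw [hzero x, hzero y]
    refine ⟨het', fun i hi => ?_, ?_⟩
    · -- vanishing
      have hF : Subsingleton (Ext (ModuleCat.of R (R ⧸ maximalIdeal R))
          (ModuleCat.of R (Fin r → R)) i) := ext_free_subsingleton _ _ _ (ht1 _ (by omega))
      have hK : Subsingleton (Ext (ModuleCat.of R (R ⧸ maximalIdeal R))
          (ModuleCat.of R (LinearMap.ker π)) (i + 1)) := hKvan (i + 1) (by omega)
      refine ⟨fun x y => ?_⟩
      have key : ∀ x : Ext (ModuleCat.of R (R ⧸ maximalIdeal R)) (ModuleCat.of R M) i, x = 0 := by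
        intro x
        obtain ⟨x₂, rfl⟩ := Ext.covariant_sequence_exact₃ _ hS x (n₁ := i + 1) rfl
          (Subsingleton.elim _ _)
        rw [Subsingleton.elim x₂ 0, Ext.zero_comp]
      rw [key x, key y]
    · -- non-vanishing
      have hidx : t - (e + 1) + 1 = t - e := by omega
      obtain ⟨x, y, hxy⟩ := hKnon
      have hsurj : ∀ z : Ext (ModuleCat.of R (R ⧸ maximalIdeal R))
          (ModuleCat.of R (LinearMap.ker π)) (t - e),
          ∃ w : Ext (ModuleCat.of R (R ⧸ maximalIdeal R)) (ModuleCat.of R M) (t - (e + 1)),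
            w.comp hS.extClass hidx = z := fun z =>
        Ext.covariant_sequence_exact₁ _ hS z (hzero z) hidx
      obtain ⟨wx, hwx⟩ := hsurj x
      obtain ⟨wy, hwy⟩ := hsurj y
      exact ⟨⟨wx, wy, fun h => hxy (by rw [← hwx, ← hwy, h])⟩⟩

open Groth.Agent.Lib.Helper29 in
/-- **Auslander–Buchsbaum formula**, `HasProjectiveDimensionLT` form. -/
theorem depth_eq_add_of_hasProjectiveDimensionLT (M : Type u) [AddCommGroup M] [Module R M]
    [Module.Finite R M] [Nontrivial M] (e : ℕ)
    (h1 : HasProjectiveDimensionLT (ModuleCat.of R M) (e + 1))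
    (h2 : ¬ HasProjectiveDimensionLT (ModuleCat.of R M) e) :
    LocCoh.depth R R = e + LocCoh.depth R M := by
  have hIR : maximalIdeal R • (⊤ : Submodule R R) ≠ ⊤ := maximalIdeal_smul_top_ne_top R R
  have hIM : maximalIdeal R • (⊤ : Submodule R M) ≠ ⊤ := maximalIdeal_smul_top_ne_top R M
  obtain ⟨t, ht⟩ := ENat.ne_top_iff_exists.1 (DepthLib.depth_ne_top (A := R) (M := R))
  have ht' : LocCoh.idealDepth (maximalIdeal R) R = t := ht.symm
  obtain ⟨ht1, ht2⟩ := (DepthExt.idealDepth_eq_iff_ext (maximalIdeal R) R hIR t).mp ht'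
  obtain ⟨het, hvan, hnon⟩ := ext_residue_of_projectiveDimension t ht1 ht2 e M h1 h2
  have hM : LocCoh.idealDepth (maximalIdeal R) M = ((t - e : ℕ) : ℕ∞) :=
    (DepthExt.idealDepth_eq_iff_ext (maximalIdeal R) M hIM (t - e)).mpr
      ⟨fun i hi => hvan i (by omega), hnon⟩
  show LocCoh.idealDepth (maximalIdeal R) R = e + LocCoh.idealDepth (maximalIdeal R) M
  rw [ht', hM, ← Nat.cast_add]
  congr 1
  omega

/-- **Auslander–Buchsbaum formula**. -/
theorem auslander_buchsbaum (M : Type u) [AddCommGroup M] [Module R M]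
    [Module.Finite R M] [Nontrivial M] (e : ℕ)
    (he : projectiveDimension (ModuleCat.of R M) = e) :
    LocCoh.depth R R = e + LocCoh.depth R M := by
  refine depth_eq_add_of_hasProjectiveDimensionLT M e ?_ ?_
  · exact (projectiveDimension_le_iff _ e).mp he.le
  · exact (projectiveDimension_ge_iff _ e).mp he.ge

end local_

end Groth.Agent.Lib.Helper33.AB
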