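import Mathlib

/-!
# Projective dimension of localizations via syzygies (helper33)

For a finite module `M` over a Noetherian ring `A` and `n : ℕ` there is a finite module `K`
(an `n`-th syzygy) such that for every submonoid `S`:
`pd_{S⁻¹A} (S⁻¹M) ≤ n ↔ S⁻¹K` is projective.
Consequences: the locus `pd M_p ≤ n` is open.
-/

set_option autoImplicit false
universe u
open CategoryTheory

namespace Groth.Agent.Lib.Helper33.PdLocus

/-- One step: localization of a short exact sequence `0 → K → P → M → 0` with `P` projective:
`pd (S⁻¹M) < n + 2 ↔ pd (S⁻¹K) < n + 1`. -/
theorem hasProjectiveDimensionLT_localized_step (A : Type u) [CommRing A] (S : Submonoid A)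
    {K P M : Type u} [AddCommGroup K] [Module A K]
    [AddCommGroup P] [Module A P] [AddCommGroup M] [Module A M] [Module.Projective A P]
    (ι : K →ₗ[A] P) (π : P →ₗ[A] M) (hι : Function.Injective ι) (hex : Function.Exact ι π)
    (hπ : Function.Surjective π) (n : ℕ) :
    HasProjectiveDimensionLT (ModuleCat.of (Localization S) (LocalizedModule S M)) (n + 2) ↔
      HasProjectiveDimensionLT (ModuleCat.of (Localization S) (LocalizedModule S K)) (n + 1) := by
  have hexS : Function.Exact (LocalizedModule.map S ι) (LocalizedModule.map S π) :=
    LocalizedModule.map_exact S ι π hex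
  let T := ModuleCat.shortComplexOfCompEqZero (LocalizedModule.map S ι) (LocalizedModule.map S π)
    (LinearMap.ext fun y => hexS.apply_apply_eq_zero y)
  have T_exact : T.ShortExact := ModuleCat.shortComplex_shortExact T hexS
    (LocalizedModule.map_injective S ι hι) (LocalizedModule.map_surjective S π hπ)
  have projT : Projective T.X₂ :=
    (IsProjective.iff_projective (R := Localization S) (P := LocalizedModule S P)).mp inferInstance
  exact T_exact.hasProjectiveDimensionLT_X₃_iff n projT

/-- Existence of a syzygy module detecting `pd ≤ n` after any localization. -/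
theorem exists_syzygy (A : Type u) [CommRing A] [IsNoetherianRing A] (n : ℕ) :
    ∀ (M : Type u) [AddCommGroup M] [Module A M] [Module.Finite A M],
      ∃ (K : Type u) (_ : AddCommGroup K) (_ : Module A K) (_ : Module.Finite A K),
        ∀ S : Submonoid A,
          (HasProjectiveDimensionLT (ModuleCat.of (Localization S) (LocalizedModule S M)) (n + 1) ↔
            Module.Projective (Localization S) (LocalizedModule S K)) := by
  induction n with
  | zero =>
    intro M _ _ _
    refine ⟨M, inferInstance, inferInstance, inferInstance, fun S => ?_⟩
    rw [zero_add, ← projective_iff_hasProjectiveDimensionLT_one, ← IsProjective.iff_projective]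
  | succ n ih =>
    intro M _ _ _
    rcases Module.exists_finite_presentation A M with ⟨P, _, _, _, _, f, surjf⟩
    obtain ⟨K, i1, i2, i3, hK⟩ := ih (LinearMap.ker f)
    refine ⟨K, i1, i2, i3, fun S => ?_⟩
    rw [← hK S]
    exact hasProjectiveDimensionLT_localized_step A S (LinearMap.ker f).subtype f
      (Submodule.injective_subtype _) (LinearMap.exact_subtype_ker_map f) surjf n

end Groth.Agent.Lib.Helper33.PdLocus
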