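import Mathlib
import Groth.Agent.Lib.Helper33.CMComp
import Groth.Agent.S9152
import Groth.Agent.Lib.Helper29.Depth

/-!
# The Cohen–Macaulay locus of a scheme locally of finite type over a field
-/

set_option autoImplicit false
set_option maxHeartbeats 800000
universe u
open CategoryTheory CategoryTheory.Limits AlgebraicGeometry TopologicalSpace

namespace Groth.Agent.Lib.Helper33.CMLocusFT

open IsLocalRing

/-- A Noetherian local ring of dimension zero is Cohen–Macaulay. -/
theorem cm_of_ringKrullDim_eq_zero (R : Type u) [CommRing R] [IsLocalRing R] [IsNoetherianRing R]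
    (h : ringKrullDim R = 0) : LocCoh.IsCohenMacaulayLocalRing R := by
  refine { supportDim_eq_depth := ?_ }
  have h1 := Groth.Agent.Lib.Helper29.DepthLib.depth_le_supportDim (A := R) R
  rw [Module.supportDim_self_eq_ringKrullDim, h] at h1 ⊢
  refine le_antisymm ?_ h1
  exact_mod_cast (zero_le : (0 : ℕ∞) ≤ LocCoh.depth R R)

/-- The local ring at a point of an affine open as the localization of its ring of sections. -/
theorem nonempty_stalk_equiv {X : Scheme.{u}} {U : X.Opens} (hU : IsAffineOpen U)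
    (q : PrimeSpectrum Γ(X, U)) :
    Nonempty (X.presheaf.stalk (hU.fromSpec.base q) ≃+* Localization.AtPrime q.asIdeal) := by
  have hy : hU.fromSpec.base q ∈ U := by
    have : hU.fromSpec.base q ∈ Set.range hU.fromSpec.base := Set.mem_range_self q
    rw [hU.range_fromSpec] at this
    exact this
  have hloc := hU.isLocalization_stalk' q hy
  let _ := TopCat.Presheaf.algebra_section_stalk X.presheaf ⟨hU.fromSpec.base q, hy⟩
  have : IsLocalization q.asIdeal.primeCompl (X.presheaf.stalk (hU.fromSpec.base q)) := hloc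
  exact ⟨(IsLocalization.algEquiv q.asIdeal.primeCompl (X.presheaf.stalk (hU.fromSpec.base q))
    (Localization.AtPrime q.asIdeal)).toRingEquiv⟩

theorem finiteType_chart {X : Scheme.{u}} {K : Type u} [Field K]
    (p : X ⟶ Spec (CommRingCat.of K)) [LocallyOfFiniteType p] {U : X.Opens} (hU : IsAffineOpen U) :
    letI := ((Scheme.ΓSpecIso (CommRingCat.of K)).inv ≫ p.appLE ⊤ U le_top).hom.toAlgebra
    Algebra.FiniteType K Γ(X, U) := by
  have h1 : RingHom.FiniteType (p.appLE ⊤ U le_top).hom :=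
    HasRingHomProperty.appLE (P := @LocallyOfFiniteType) p inferInstance
      ⟨⊤, isAffineOpen_top _⟩ ⟨U, hU⟩ le_top
  have h2 : RingHom.FiniteType
      ((Scheme.ΓSpecIso (CommRingCat.of K)).inv ≫ p.appLE ⊤ U le_top).hom := by
    rw [CommRingCat.hom_comp]
    exact h1.comp (RingHom.FiniteType.of_surjective _
      (ConcreteCategory.bijective_of_isIso (Scheme.ΓSpecIso (CommRingCat.of K)).inv).surjective)
  exact h2

/-- The Cohen–Macaulay locus of a scheme locally of finite type over a field is open. -/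
theorem isOpen_cmLocus {X : Scheme.{u}} {K : Type u} [Field K]
    (p : X ⟶ Spec (CommRingCat.of K)) [LocallyOfFiniteType p] :
    IsOpen {x : X | LocCoh.IsCohenMacaulayLocalRing (X.presheaf.stalk x)} := by
  rw [isOpen_iff_forall_mem_open]
  intro x hx
  obtain ⟨U, hU, hxU⟩ : ∃ U : X.Opens, IsAffineOpen U ∧ x ∈ U := by
    obtain ⟨U, hU, hxU, -⟩ := Opens.isBasis_iff_nbhd.mp X.isBasis_affineOpens
      (Opens.mem_top x)
    exact ⟨U, hU, hxU⟩
  letI : Algebra K Γ(X, U) :=
    ((Scheme.ΓSpecIso (CommRingCat.of K)).inv ≫ p.appLE ⊤ U le_top).hom.toAlgebra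
  haveI : Algebra.FiniteType K Γ(X, U) := finiteType_chart p hU
  have hT := Groth.Agent.S9152.result K Γ(X, U)
  refine ⟨hU.fromSpec.base '' {q : PrimeSpectrum Γ(X, U) |
    LocCoh.IsCohenMacaulayLocalRing (Localization.AtPrime q.asIdeal)}, ?_, ?_, ?_⟩
  · rintro _ ⟨q, hq, rfl⟩
    obtain ⟨e⟩ := nonempty_stalk_equiv hU q
    exact (Groth.Agent.Lib.Helper33.CMComp.cm_ringEquiv_iff e).2 hq
  · exact hU.fromSpec.isOpenEmbedding.isOpenMap _ hT
  · have : x ∈ Set.range hU.fromSpec.base := by rw [hU.range_fromSpec]; exact hxU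
    obtain ⟨q, rfl⟩ := this
    refine ⟨q, ?_, rfl⟩
    obtain ⟨e⟩ := nonempty_stalk_equiv hU q
    exact (Groth.Agent.Lib.Helper33.CMComp.cm_ringEquiv_iff e).1 hx

/-- A nonempty locally Noetherian scheme has a point with Cohen–Macaulay local ring. -/
theorem exists_cm_stalk {X : Scheme.{u}} [IsLocallyNoetherian X] [Nonempty X] :
    ∃ x : X, LocCoh.IsCohenMacaulayLocalRing (X.presheaf.stalk x) := by
  obtain ⟨x⟩ := ‹Nonempty X›
  obtain ⟨U, hU, hxU⟩ : ∃ U : X.Opens, IsAffineOpen U ∧ x ∈ U := by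
    obtain ⟨U, hU, hxU, -⟩ := Opens.isBasis_iff_nbhd.mp X.isBasis_affineOpens
      (Opens.mem_top x)
    exact ⟨U, hU, hxU⟩
  haveI : IsNoetherianRing Γ(X, U) := IsLocallyNoetherian.component_noetherian ⟨U, hU⟩
  have : x ∈ Set.range hU.fromSpec.base := by rw [hU.range_fromSpec]; exact hxU
  obtain ⟨q0, rfl⟩ := this
  haveI := q0.isPrime
  obtain ⟨P, hP, -⟩ := Ideal.exists_minimalPrimes_le (bot_le : (⊥ : Ideal Γ(X, U)) ≤ q0.asIdeal)
  haveI : P.IsPrime := hP.1.1
  let q : PrimeSpectrum Γ(X, U) := ⟨P, inferInstance⟩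
  refine ⟨hU.fromSpec.base q, ?_⟩
  obtain ⟨e⟩ := nonempty_stalk_equiv hU q
  refine (Groth.Agent.Lib.Helper33.CMComp.cm_ringEquiv_iff e).2 ?_
  haveI : IsNoetherianRing (Localization.AtPrime P) :=
    IsLocalization.isNoetherianRing P.primeCompl _ inferInstance
  apply cm_of_ringKrullDim_eq_zero
  rw [IsLocalization.AtPrime.ringKrullDim_eq_height P]
  have : P.height = 0 := Ideal.height_eq_zero_iff.2 hP
  rw [this]; rfl

end Groth.Agent.Lib.Helper33.CMLocusFT
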