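import Mathlib
import Groth.Agent.Lib.Helper33.GorFlat
import Groth.Agent.Lib.Helper35.FiberStalk

/-!
# Gorenstein local rings of schemes along flat morphisms
-/

set_option autoImplicit false
universe u

namespace Groth.Agent.Lib.Helper33.GorFibre

open CategoryTheory AlgebraicGeometry IsLocalRing
open Groth.Agent.Lib.Helper35.FiberStalk

/-- For a morphism `f : X ⟶ S` flat at the point `ι x'` (`x'` a point of the fibre over `s`), the
local ring of `X` is Gorenstein iff the local ring of `S` and the local ring of the fibre are. -/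
theorem gorenstein_stalk_iff {X S : Scheme.{u}} (f : X ⟶ S) (s : S) (x' : f.fiber s)
    [IsNoetherianRing (X.presheaf.stalk ((f.fiberι s).base x'))]
    [IsNoetherianRing (S.presheaf.stalk (f.base ((f.fiberι s).base x')))]
    (hflat : (f.stalkMap ((f.fiberι s).base x')).hom.Flat) :
    LocCoh.IsGorensteinLocalRing (X.presheaf.stalk ((f.fiberι s).base x')) ↔
      (LocCoh.IsGorensteinLocalRing (S.presheaf.stalk (f.base ((f.fiberι s).base x'))) ∧
        LocCoh.IsGorensteinLocalRing ((f.fiber s).presheaf.stalk x')) := by
  letI : Algebra (S.presheaf.stalk (f.base ((f.fiberι s).base x')))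
      (X.presheaf.stalk ((f.fiberι s).base x')) :=
    (f.stalkMap ((f.fiberι s).base x')).hom.toAlgebra
  haveI : Module.Flat (S.presheaf.stalk (f.base ((f.fiberι s).base x')))
      (X.presheaf.stalk ((f.fiberι s).base x')) := hflat
  haveI : IsLocalHom (algebraMap (S.presheaf.stalk (f.base ((f.fiberι s).base x')))
      (X.presheaf.stalk ((f.fiberι s).base x'))) :=
    inferInstanceAs (IsLocalHom (f.stalkMap ((f.fiberι s).base x')).hom)
  have hsurj := stalkMap_fiberι_surjective f s x'
  haveI : IsNoetherianRing ((f.fiber s).presheaf.stalk x') :=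
    isNoetherianRing_of_surjective _ _ _ hsurj
  exact Groth.Agent.Lib.Helper33.GorFlat.gorenstein_flat_local_iff _ _ _
    ((f.fiberι s).stalkMap x').hom hsurj (ker_stalkMap_fiberι f s x')

/-- The same at a point `x` of `X`, with the fibre through `x`. -/
theorem gorenstein_stalk_iff' {X S : Scheme.{u}} (f : X ⟶ S) (x : X)
    [IsNoetherianRing (X.presheaf.stalk x)] [IsNoetherianRing (S.presheaf.stalk (f.base x))]
    (hflat : (f.stalkMap x).hom.Flat) :
    LocCoh.IsGorensteinLocalRing (X.presheaf.stalk x) ↔
      (LocCoh.IsGorensteinLocalRing (S.presheaf.stalk (f.base x)) ∧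
        LocCoh.IsGorensteinLocalRing ((f.fiber (f.base x)).presheaf.stalk (f.asFiber x))) := by
  have e : (f.fiberι (f.base x)).base (f.asFiber x) = x := f.fiberι_asFiber x
  have h : ∀ (y : X), y = x → ∀ [IsNoetherianRing (X.presheaf.stalk y)]
      [IsNoetherianRing (S.presheaf.stalk (f.base y))], (f.stalkMap y).hom.Flat →
      (LocCoh.IsGorensteinLocalRing (X.presheaf.stalk y) ↔
        (LocCoh.IsGorensteinLocalRing (S.presheaf.stalk (f.base y)) ∧
          LocCoh.IsGorensteinLocalRing
            ((f.fiber (f.base x)).presheaf.stalk (f.asFiber x)))) → 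
      (LocCoh.IsGorensteinLocalRing (X.presheaf.stalk x) ↔
      (LocCoh.IsGorensteinLocalRing (S.presheaf.stalk (f.base x)) ∧
        LocCoh.IsGorensteinLocalRing ((f.fiber (f.base x)).presheaf.stalk (f.asFiber x)))) := by
    intro y hy
    subst hy
    intro _ _ _ h
    exact h
  have hN1 : IsNoetherianRing
      (X.presheaf.stalk ((f.fiberι (f.base x)).base (f.asFiber x))) := by
    rw [e]; infer_instance
  have hN2 : IsNoetherianRing
      (S.presheaf.stalk (f.base ((f.fiberι (f.base x)).base (f.asFiber x)))) := by
    rw [e]; infer_instance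
  have hfl : (f.stalkMap ((f.fiberι (f.base x)).base (f.asFiber x))).hom.Flat := by
    rw [e]; exact hflat
  exact h _ e hfl (gorenstein_stalk_iff f (f.base x) (f.asFiber x) hfl)

end Groth.Agent.Lib.Helper33.GorFibre
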