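import Mathlib
import Groth.Agent.Lib.Helper33.GorTransfer
import Groth.Agent.Lib.Helper33.GorFibre
import Groth.Agent.Lib.Helper40.FlatDescentSrc

/-!
# Gorenstein fibres of a composition
-/

set_option autoImplicit false
universe u

namespace Groth.Agent.Lib.Helper33.GorComp

open IsLocalRing CategoryTheory AlgebraicGeometry
open Groth.Agent.Lib.Helper33.GorTransfer Groth.Agent.Lib.Helper35.FiberStalk

/-- Local rings `A → B → C` with `B → C` flat local; `G = B/𝔪_A B`, `H = C/𝔪_A C`,
`F = C/𝔪_B C` (given by surjections), all three Noetherian. Then `H` is Gorenstein iff `G` and `F`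
are. -/
theorem gorenstein_fibres_comp {A B C G H F : Type u} [CommRing A] [CommRing B] [CommRing C]
    [CommRing G] [CommRing H] [CommRing F] [IsLocalRing A] [IsLocalRing B] [IsLocalRing C]
    [IsLocalRing G] [IsLocalRing H] [IsLocalRing F]
    [IsNoetherianRing G] [IsNoetherianRing H] [IsNoetherianRing F]
    (φ : A →+* B) (ψ : B →+* C) [IsLocalHom φ] [IsLocalHom ψ] (hψ : ψ.Flat)
    (πg : B →+* G) (hπg : Function.Surjective πg)
    (hkerg : RingHom.ker πg = (maximalIdeal A).map φ)
    (πh : C →+* H) (hπh : Function.Surjective πh)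
    (hkerh : RingHom.ker πh = (maximalIdeal A).map (ψ.comp φ))
    (πf : C →+* F) (hπf : Function.Surjective πf)
    (hkerf : RingHom.ker πf = (maximalIdeal B).map ψ) :
    LocCoh.IsGorensteinLocalRing H ↔
      (LocCoh.IsGorensteinLocalRing G ∧ LocCoh.IsGorensteinLocalRing F) := by
  letI : Algebra B C := ψ.toAlgebra
  haveI : IsLocalHom (algebraMap B C) := ‹IsLocalHom ψ›
  haveI : Module.Flat B C := hψ
  set I : Ideal B := (maximalIdeal A).map φ with hI
  have hIle : I ≤ maximalIdeal B := IsLocalRing.map_maximalIdeal_le φ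
  let eG : (B ⧸ I) ≃+* G :=
    (Ideal.quotEquivOfEq hkerg.symm).trans (RingHom.quotientKerEquivOfSurjective hπg)
  have hIC : I.map (algebraMap B C) = RingHom.ker πh := by
    rw [hkerh, hI, Ideal.map_map]; rfl
  let eH : (C ⧸ I.map (algebraMap B C)) ≃+* H :=
    (Ideal.quotEquivOfEq hIC).trans (RingHom.quotientKerEquivOfSurjective hπh)
  haveI : IsNoetherianRing (B ⧸ I) := isNoetherianRing_of_ringEquiv G eG.symm
  haveI : IsNoetherianRing (C ⧸ I.map (algebraMap B C)) :=
    isNoetherianRing_of_ringEquiv H eH.symm
  have key := gorenstein_quotient_iff B C F I hIle πf hπf hkerf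
  rw [← gorenstein_ringEquiv_iff eG, ← gorenstein_ringEquiv_iff eH]
  exact key

/-- The local ring of the fibre through `x` as a quotient of the local ring of `X` at `x`. -/
theorem exists_fibre_proj {X S : Scheme.{u}} (h : X ⟶ S) (x : X) :
    ∃ π : X.presheaf.stalk x →+* (h.fiber (h.base x)).presheaf.stalk (h.asFiber x),
      Function.Surjective π ∧
        RingHom.ker π = (maximalIdeal (S.presheaf.stalk (h.base x))).map (h.stalkMap x).hom := by
  have e : (h.fiberι (h.base x)).base (h.asFiber x) = x := h.fiberι_asFiber x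
  have key : ∀ y : X, y = x →
      (∃ π : X.presheaf.stalk y →+* (h.fiber (h.base x)).presheaf.stalk (h.asFiber x),
        Function.Surjective π ∧
          RingHom.ker π = (maximalIdeal (S.presheaf.stalk (h.base y))).map (h.stalkMap y).hom) →
      (∃ π : X.presheaf.stalk x →+* (h.fiber (h.base x)).presheaf.stalk (h.asFiber x),
        Function.Surjective π ∧
          RingHom.ker π =
            (maximalIdeal (S.presheaf.stalk (h.base x))).map (h.stalkMap x).hom) := by
    intro y hy
    subst hy
    exact id
  exact key _ e ⟨((h.fiberι _).stalkMap _).hom, stalkMap_fiberι_surjective h _ _,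
    ker_stalkMap_fiberι h _ _⟩

end Groth.Agent.Lib.Helper33.GorComp
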