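import Mathlib
import Groth.Agent.Lib.Helper33.CMFlatLocal
import Groth.Agent.Lib.Helper33.GorComp

/-!
# Cohen–Macaulay stalks along a morphism flat at a point
-/

set_option autoImplicit false
universe u
open CategoryTheory CategoryTheory.Limits AlgebraicGeometry TopologicalSpace

namespace Groth.Agent.Lib.Helper33.CMFibre

open IsLocalRing Groth.Agent.Lib.Helper33.CMFlatLocal Groth.Agent.Lib.Helper49.StalkLoc

/-- If `f` is flat at `x`, then `O_{X,x}` is Cohen–Macaulay iff `O_{S,f x}` and the local ring of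
the fibre at `x` are. -/
theorem cm_stalk_iff' {X S : Scheme.{u}} (f : X ⟶ S) (x : X)
    [IsNoetherianRing (X.presheaf.stalk x)] [IsNoetherianRing (S.presheaf.stalk (f.base x))]
    (hflat : (f.stalkMap x).hom.Flat) :
    LocCoh.IsCohenMacaulayLocalRing (X.presheaf.stalk x) ↔
      (LocCoh.IsCohenMacaulayLocalRing (S.presheaf.stalk (f.base x)) ∧
        LocCoh.IsCohenMacaulayLocalRing ((f.fiber (f.base x)).presheaf.stalk (f.asFiber x))) := by
  letI : Algebra (S.presheaf.stalk (f.base x)) (X.presheaf.stalk x) := (f.stalkMap x).hom.toAlgebra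
  haveI : IsLocalHom (algebraMap (S.presheaf.stalk (f.base x)) (X.presheaf.stalk x)) :=
    inferInstanceAs (IsLocalHom (f.stalkMap x).hom)
  haveI : Module.Flat (S.presheaf.stalk (f.base x)) (X.presheaf.stalk x) := hflat
  obtain ⟨π, hπ, hker⟩ := Groth.Agent.Lib.Helper33.GorComp.exists_fibre_proj f x
  set I : Ideal (X.presheaf.stalk x) := (maximalIdeal (S.presheaf.stalk (f.base x))).map
    (algebraMap (S.presheaf.stalk (f.base x)) (X.presheaf.stalk x)) with hI
  let e : (f.fiber (f.base x)).presheaf.stalk (f.asFiber x) ≃+* (X.presheaf.stalk x ⧸ I) :=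
    (RingHom.quotientKerEquivOfSurjective hπ).symm.trans (Ideal.quotEquivOfEq hker)
  haveI : IsLocalRing (X.presheaf.stalk x ⧸ I) := e.isLocalRing
  rw [cm_flat_local_iff (S.presheaf.stalk (f.base x)) (X.presheaf.stalk x) I rfl]
  constructor
  · rintro ⟨h1, h2⟩
    exact ⟨h1, isCohenMacaulayLocalRing_of_ringEquiv e.symm h2⟩
  · rintro ⟨h1, h2⟩
    exact ⟨h1, isCohenMacaulayLocalRing_of_ringEquiv e h2⟩

end Groth.Agent.Lib.Helper33.CMFibre
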