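import Mathlib
import Groth.Agent.Lib.Helper35.FiberStalk

/-!
# Stalks of a pullback along a closed immersion `Spec A' → Spec A` of affine bases
-/

set_option autoImplicit false
set_option maxHeartbeats 400000
set_option backward.isDefEq.respectTransparency.types false
universe u
open CategoryTheory CategoryTheory.Limits AlgebraicGeometry TopologicalSpace

namespace Groth.Agent.Lib.Helper33.PullbackStalk

open IsLocalRing Groth.Agent.Lib.Helper35.FiberStalk

/-- The canonical map from `A` to the stalk of a scheme over `Spec A`. -/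
noncomputable def gl {A : CommRingCat.{u}} {P : Scheme.{u}} (f : P ⟶ Spec A) (x : P) :
    A ⟶ P.presheaf.stalk x :=
  (Scheme.ΓSpecIso A).inv ≫ (Spec A).presheaf.germ ⊤ (f.base x) trivial ≫ f.stalkMap x

theorem fromSpecStalk_comp {A : CommRingCat.{u}} {P : Scheme.{u}} (f : P ⟶ Spec A) (x : P) :
    P.fromSpecStalk x ≫ f = Spec.map (gl f x) := by
  rw [← Scheme.SpecMap_stalkMap_fromSpecStalk, Spec.fromSpecStalk_eq, ← Spec.map_comp]
  rfl

theorem gl_comp {A : CommRingCat.{u}} {P X : Scheme.{u}} (f : P ⟶ Spec A) (i : X ⟶ P) (x' : X) :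
    gl f (i.base x') ≫ i.stalkMap x' = gl (i ≫ f) x' := by
  unfold gl
  rw [Scheme.Hom.stalkMap_comp]
  simp only [Category.assoc]
  rfl

theorem gl_comp_specMap {A A' : CommRingCat.{u}} {X : Scheme.{u}} (q : X ⟶ Spec A') (φ : A ⟶ A')
    (x' : X) : gl (q ≫ Spec.map φ) x' = φ ≫ gl q x' := by
  unfold gl
  rw [Scheme.Hom.stalkMap_comp, Scheme.ΓSpecIso_inv_naturality_assoc]
  have h := Scheme.Hom.germ_stalkMap_assoc (Spec.map φ) ⊤ (q.base x') trivial (q.stalkMap x')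
  refine congrArg (fun z => (Scheme.ΓSpecIso A).inv ≫ z) ?_
  exact h

theorem isClosedImmersion_of_isPullback {A A' : CommRingCat.{u}} {P X : Scheme.{u}}
    (f : P ⟶ Spec A) (q : X ⟶ Spec A') (i : X ⟶ P) (φ : A ⟶ A')
    (hφ : Function.Surjective φ.hom) (hsq : IsPullback i q f (Spec.map φ)) :
    IsClosedImmersion i :=
  MorphismProperty.of_isPullback hsq.flip (IsClosedImmersion.spec_of_surjective φ hφ)

theorem map_ker_le_ker_stalkMap {A A' : CommRingCat.{u}} {P X : Scheme.{u}}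
    (f : P ⟶ Spec A) (q : X ⟶ Spec A') (i : X ⟶ P) (φ : A ⟶ A')
    (hsq : IsPullback i q f (Spec.map φ)) (x' : X) :
    (RingHom.ker φ.hom).map (gl f (i.base x')).hom ≤ RingHom.ker (i.stalkMap x').hom := by
  rw [Ideal.map_le_iff_le_comap]
  intro a ha
  rw [Ideal.mem_comap, RingHom.mem_ker]
  have h1 : (i.stalkMap x').hom ((gl f (i.base x')).hom a) = (gl (i ≫ f) x').hom a := by
    rw [← gl_comp]; rfl
  rw [h1, hsq.w, gl_comp_specMap]
  show (gl q x').hom (φ.hom a) = 0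
  rw [RingHom.mem_ker] at ha
  rw [ha, map_zero]

theorem ker_stalkMap_le {A A' : CommRingCat.{u}} {P X : Scheme.{u}}
    (f : P ⟶ Spec A) (q : X ⟶ Spec A') (i : X ⟶ P) (φ : A ⟶ A')
    (hφ : Function.Surjective φ.hom) (hsq : IsPullback i q f (Spec.map φ)) (x' : X) :
    RingHom.ker (i.stalkMap x').hom ≤ (RingHom.ker φ.hom).map (gl f (i.base x')).hom := by
  haveI : IsClosedImmersion i := isClosedImmersion_of_isPullback f q i φ hφ hsq
  obtain ⟨x, hx⟩ : ∃ x : P, x = i.base x' := ⟨_, rfl⟩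
  obtain ⟨𝔞, h𝔞def⟩ : ∃ 𝔞 : Ideal (P.presheaf.stalk x), 𝔞 =
      (RingHom.ker φ.hom).map (gl f x).hom := ⟨_, rfl⟩
  have h𝔞top : 𝔞 ≠ ⊤ := by
    subst hx
    intro h0
    have h1 := map_ker_le_ker_stalkMap f q i φ hsq x'
    rw [← h𝔞def, h0, top_le_iff] at h1
    exact RingHom.ker_ne_top _ h1
  haveI : Nontrivial (P.presheaf.stalk x ⧸ 𝔞) := Ideal.Quotient.nontrivial_iff.mpr h𝔞top
  haveI : IsLocalRing (P.presheaf.stalk x ⧸ 𝔞) :=
    IsLocalRing.of_surjective' (Ideal.Quotient.mk 𝔞) Ideal.Quotient.mk_surjective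
  let qm : P.presheaf.stalk x ⟶ CommRingCat.of (P.presheaf.stalk x ⧸ 𝔞) :=
    CommRingCat.ofHom (Ideal.Quotient.mk 𝔞)
  haveI : IsLocalHom qm.hom := IsLocalHom.of_surjective _ Ideal.Quotient.mk_surjective
  let α : Spec (CommRingCat.of (P.presheaf.stalk x ⧸ 𝔞)) ⟶ P := Spec.map qm ≫ P.fromSpecStalk x
  have hkill : ∀ a ∈ RingHom.ker φ.hom, ((Ideal.Quotient.mk 𝔞).comp (gl f x).hom) a = 0 :=
    fun a ha => Ideal.Quotient.eq_zero_iff_mem.mpr (h𝔞def ▸ Ideal.mem_map_of_mem _ ha)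
  let e := RingHom.quotientKerEquivOfSurjective hφ
  let ρ : A' ⟶ CommRingCat.of (P.presheaf.stalk x ⧸ 𝔞) :=
    CommRingCat.ofHom ((Ideal.Quotient.lift (RingHom.ker φ.hom)
      ((Ideal.Quotient.mk 𝔞).comp (gl f x).hom) hkill).comp e.symm.toRingHom)
  have hρ : φ ≫ ρ = gl f x ≫ qm := by
    ext a
    show (Ideal.Quotient.lift (RingHom.ker φ.hom) ((Ideal.Quotient.mk 𝔞).comp (gl f x).hom) hkill)
      (e.symm (φ.hom a)) = (Ideal.Quotient.mk 𝔞) ((gl f x).hom a)
    have : e.symm (φ.hom a) = Ideal.Quotient.mk _ a := by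
      rw [RingEquiv.symm_apply_eq]
      exact (RingHom.quotientKerEquivOfSurjective_apply_mk hφ a).symm
    rw [this, Ideal.Quotient.lift_mk]
    rfl
  let β : Spec (CommRingCat.of (P.presheaf.stalk x ⧸ 𝔞)) ⟶ Spec A' := Spec.map ρ
  have hαβ : α ≫ f = β ≫ Spec.map φ := by
    show (Spec.map qm ≫ P.fromSpecStalk x) ≫ f = Spec.map ρ ≫ Spec.map φ
    rw [Category.assoc, fromSpecStalk_comp, ← Spec.map_comp, ← Spec.map_comp, hρ]
  let γ : Spec (CommRingCat.of (P.presheaf.stalk x ⧸ 𝔞)) ⟶ X := hsq.lift α β hαβ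
  have hγ : γ ≫ i = Spec.map qm ≫ P.fromSpecStalk x := hsq.lift_fst _ _ _
  have hz : γ.base (closedPoint (P.presheaf.stalk x ⧸ 𝔞)) = x' := by
    apply i.isEmbedding.injective
    rw [← Scheme.Hom.comp_apply, hγ, Scheme.Hom.comp_apply]
    have h1 : (Spec.map qm).base (closedPoint (P.presheaf.stalk x ⧸ 𝔞)) =
        closedPoint (P.presheaf.stalk x) := Spec_closedPoint (f := qm)
    rw [h1, Scheme.fromSpecStalk_closedPoint, hx]
  intro t ht
  rw [RingHom.mem_ker] at ht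
  subst hx
  obtain ⟨U, hxU, σ, rfl⟩ := P.presheaf.exists_germ_eq t
  rw [Scheme.Hom.germ_stalkMap_apply] at ht
  have h1 : ∀ (y : X) (hy : y = x') (hyU : y ∈ i ⁻¹ᵁ U),
      X.presheaf.germ (i ⁻¹ᵁ U) y hyU (i.app U σ) = 0 := by
    rintro y rfl hyU
    exact ht
  have hzU : γ.base (closedPoint (P.presheaf.stalk (i.base x') ⧸ 𝔞)) ∈ i ⁻¹ᵁ U := by
    rw [hz]
    exact hxU
  have h2 := h1 _ hz hzU
  have h3 := sCPT_germ qm (γ ≫ i) hγ U hzU hxU σ
  rw [Scheme.stalkClosedPointTo_comp] at h3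
  have h4 : (i.stalkMap _ ≫ Scheme.stalkClosedPointTo γ).hom
      (P.presheaf.germ U _ hzU σ) = 0 := by
    show (Scheme.stalkClosedPointTo γ).hom (i.stalkMap _ (P.presheaf.germ U _ hzU σ)) = 0
    rw [Scheme.Hom.germ_stalkMap_apply, h2, map_zero]
  have h5 : (Ideal.Quotient.mk 𝔞) (P.presheaf.germ U _ hxU σ) = 0 := h3.symm.trans h4
  rw [← h𝔞def]
  exact Ideal.Quotient.eq_zero_iff_mem.mp h5

/-- **Stalks of a pullback along a closed immersion of affine bases**: the stalk map is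
surjective with kernel generated by `ker φ`. -/
theorem ker_stalkMap {A A' : CommRingCat.{u}} {P X : Scheme.{u}}
    (f : P ⟶ Spec A) (q : X ⟶ Spec A') (i : X ⟶ P) (φ : A ⟶ A')
    (hφ : Function.Surjective φ.hom) (hsq : IsPullback i q f (Spec.map φ)) (x' : X) :
    RingHom.ker (i.stalkMap x').hom = (RingHom.ker φ.hom).map (gl f (i.base x')).hom :=
  le_antisymm (ker_stalkMap_le f q i φ hφ hsq x') (map_ker_le_ker_stalkMap f q i φ hsq x')

theorem stalkMap_surjective {A A' : CommRingCat.{u}} {P X : Scheme.{u}}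
    (f : P ⟶ Spec A) (q : X ⟶ Spec A') (i : X ⟶ P) (φ : A ⟶ A')
    (hφ : Function.Surjective φ.hom) (hsq : IsPullback i q f (Spec.map φ)) (x' : X) :
    Function.Surjective (i.stalkMap x').hom := by
  haveI : IsClosedImmersion i := isClosedImmersion_of_isPullback f q i φ hφ hsq
  exact i.stalkMap_surjective x'

end Groth.Agent.Lib.Helper33.PullbackStalk
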