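import Mathlib
import Groth.Agent.Lib.Helper35.FiberStalk
import Groth.Agent.Lib.Helper33.PullbackStalk

/-!
# Stalks of fibres: independence of the base point, and fibres of a base change of fields
-/

set_option autoImplicit false
set_option maxHeartbeats 400000
set_option backward.isDefEq.respectTransparency.types false
universe u
open CategoryTheory CategoryTheory.Limits AlgebraicGeometry TopologicalSpace

namespace Groth.Agent.Lib.Helper33.FibreBC

open IsLocalRing Groth.Agent.Lib.Helper35.FiberStalk Groth.Agent.Lib.Helper33.PullbackStalk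

/-- The stalk of a fibre at a point `w` is `O_{X,x} / 𝔪 O_{X,x}` for `x` the image of `w`. -/
theorem exists_proj_of_fiber_point {X S : Scheme.{u}} (f : X ⟶ S) (s : S) (w : f.fiber s)
    (x : X) (hx : (f.fiberι s).base w = x) :
    ∃ π : X.presheaf.stalk x →+* (f.fiber s).presheaf.stalk w,
      Function.Surjective π ∧
        RingHom.ker π = (maximalIdeal (S.presheaf.stalk (f.base x))).map (f.stalkMap x).hom := by
  subst hx
  exact ⟨((f.fiberι s).stalkMap w).hom, stalkMap_fiberι_surjective f s w,
    ker_stalkMap_fiberι f s w⟩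

/-- The stalk of a fibre at a point only depends on the image point in `X`. -/
theorem nonempty_stalk_fiber_equiv {X S : Scheme.{u}} (f : X ⟶ S) (s : S) (w : f.fiber s)
    (x : X) (hx : (f.fiberι s).base w = x) :
    Nonempty ((f.fiber s).presheaf.stalk w ≃+*
      (f.fiber (f.base x)).presheaf.stalk (f.asFiber x)) := by
  obtain ⟨π₁, h₁, k₁⟩ := exists_proj_of_fiber_point f s w x hx
  obtain ⟨π₂, h₂, k₂⟩ := exists_proj_of_fiber_point f (f.base x) (f.asFiber x) x
    (f.fiberι_asFiber x)
  exact ⟨(RingHom.quotientKerEquivOfSurjective h₁).symm.trans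
    ((Ideal.quotEquivOfEq (k₁.trans k₂.symm)).trans (RingHom.quotientKerEquivOfSurjective h₂))⟩

/-- For a pullback `W = Z ×_k K`, the fibre of `W → Z` over `z` is the spectrum of
`K ⊗_k κ(z)`. -/
theorem nonempty_fiber_iso_spec {Z W : Scheme.{u}} {k K : Type u} [CommRing k] [CommRing K]
    (p : Z ⟶ Spec (CommRingCat.of k))
    (q : W ⟶ Spec (CommRingCat.of K)) (H : W ⟶ Z) (β : CommRingCat.of k ⟶ CommRingCat.of K)
    (hsq : IsPullback H q p (Spec.map β)) (z : Z)
    [Algebra k K] [Algebra k (Z.residueField z)]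
    (hβ : β = CommRingCat.ofHom (algebraMap k K))
    (hα : gl p z ≫ Z.residue z = CommRingCat.ofHom (algebraMap k (Z.residueField z))) :
    Nonempty (H.fiber z ≅ Spec (CommRingCat.of (TensorProduct k K (Z.residueField z)))) := by
  have h1 : IsPullback (H.fiberι z) (H.fiberToSpecResidueField z) H (Z.fromSpecResidueField z) :=
    IsPullback.of_hasPullback H (Z.fromSpecResidueField z)
  have h2 := h1.paste_horiz hsq.flip
  have h3 : Z.fromSpecResidueField z ≫ p =
      Spec.map (CommRingCat.ofHom (algebraMap k (Z.residueField z))) := by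
    rw [← hα, Spec.map_comp, ← fromSpecStalk_comp]
    rfl
  rw [h3, hβ] at h2
  have h4 := isPullback_SpecMap_of_isPushout _ _ _ _
    (CommRingCat.isPushout_tensorProduct k K (Z.residueField z))
  exact ⟨h2.isoIsPullback _ _ h4⟩

/-- Stalks of a scheme isomorphic to `Spec R` are localizations of `R` at primes. -/
theorem nonempty_stalk_equiv_of_iso_spec {F : Scheme.{u}} {R : CommRingCat.{u}} (e : F ≅ Spec R)
    (t : F) : ∃ (P : Ideal R) (_ : P.IsPrime),
      Nonempty (F.presheaf.stalk t ≃+* Localization.AtPrime P) := by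
  refine ⟨(e.hom.base t).asIdeal, (e.hom.base t).isPrime, ⟨?_⟩⟩
  exact ((asIso (e.hom.stalkMap t)).symm ≪≫ Spec.stalkIso R (e.hom.base t)).commRingCatIsoToRingEquiv

end Groth.Agent.Lib.Helper33.FibreBC
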