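import Mathlib
import Groth.Agent.Lib.Helper33.FibreBC
import Groth.Agent.Lib.Helper33.GorField
import Groth.Agent.Lib.Helper33.GorDescent
import Groth.Agent.Lib.Helper33.GorFibre
import Groth.Agent.Lib.Helper33.CMFibre
import Groth.Agent.S18865

/-!
# Gorenstein / Cohen–Macaulay stalks under base change of the ground field
-/

set_option autoImplicit false
set_option maxHeartbeats 400000
set_option backward.isDefEq.respectTransparency.types false
universe u
open CategoryTheory CategoryTheory.Limits AlgebraicGeometry TopologicalSpace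

namespace Groth.Agent.Lib.Helper33.FibreBC

open IsLocalRing Groth.Agent.Lib.Helper33.PullbackStalk Groth.Agent.Lib.Helper33.GorTransfer
  Groth.Agent.Lib.Helper33.GorField Groth.Agent.Lib.Helper33.GorRing
  Groth.Agent.Lib.Helper49.StalkLoc

/-- The fibres of `W = Z ×_k K → Z` have Gorenstein (hence Cohen–Macaulay) local rings as soon as
one of the field extensions `K/k`, `κ(z)/k` is finitely generated. -/
theorem fiber_stalk_gor_cm {Z W : Scheme.{u}} {k K : Type u} [Field k] [Field K]
    (p : Z ⟶ Spec (CommRingCat.of k)) (q : W ⟶ Spec (CommRingCat.of K)) (H : W ⟶ Z)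
    (β : CommRingCat.of k ⟶ CommRingCat.of K)
    (hsq : IsPullback H q p (Spec.map β)) (z : Z) (t : H.fiber z)
    [Algebra k K] [Algebra k (Z.residueField z)]
    (hβ : β = CommRingCat.ofHom (algebraMap k K))
    (hα : gl p z ≫ Z.residue z = CommRingCat.ofHom (algebraMap k (Z.residueField z)))
    (hfg : (∃ s : Finset K, IntermediateField.adjoin k (s : Set K) = ⊤) ∨
      (∃ s : Finset (Z.residueField z),
        IntermediateField.adjoin k (s : Set (Z.residueField z)) = ⊤)) :
    LocCoh.IsGorensteinLocalRing ((H.fiber z).presheaf.stalk t) ∧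
      LocCoh.IsCohenMacaulayLocalRing ((H.fiber z).presheaf.stalk t) := by
  haveI hκ : LocCoh.IsGorensteinRing (Z.residueField z) := by
    haveI := gorenstein_of_field (Z.residueField z)
    exact Groth.Agent.Lib.Helper33.GorDescent.isGorensteinRing_of_isGorensteinLocalRing _
  haveI hK : LocCoh.IsGorensteinRing K := by
    haveI := gorenstein_of_field K
    exact Groth.Agent.Lib.Helper33.GorDescent.isGorensteinRing_of_isGorensteinLocalRing _
  have hR : LocCoh.IsGorensteinRing (TensorProduct k K (Z.residueField z)) := by
    rcases hfg with h | h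
    · exact isGorensteinRing_tensor_of_fg k K h (Z.residueField z)
    · haveI := isGorensteinRing_tensor_of_fg k (Z.residueField z) h K
      exact isGorensteinRing_of_ringEquiv
        (Algebra.TensorProduct.comm k (Z.residueField z) K).toRingEquiv
  obtain ⟨e⟩ := nonempty_fiber_iso_spec p q H β hsq z hβ hα
  obtain ⟨P, hP, ⟨e'⟩⟩ := nonempty_stalk_equiv_of_iso_spec e t
  haveI := hR
  haveI := Groth.Agent.S18865.isCohenMacaulayRing_of_isGorensteinRing
    (TensorProduct k K (Z.residueField z))
  exact ⟨gorenstein_of_ringEquiv e'.symm (hR.isGorensteinLocalRing_localization P),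
    isCohenMacaulayLocalRing_of_ringEquiv e'.symm
      (LocCoh.IsCohenMacaulayRing.isCohenMacaulayLocalRing_localization P)⟩

end Groth.Agent.Lib.Helper33.FibreBC
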