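import Mathlib
import Groth.Agent.Lib.Helper33.FibreBC2

/-!
# Gorenstein / Cohen–Macaulay stalks under base change of the ground field: the iff
-/

set_option autoImplicit false
set_option maxHeartbeats 400000
set_option backward.isDefEq.respectTransparency.types false
universe u
open CategoryTheory CategoryTheory.Limits AlgebraicGeometry TopologicalSpace

namespace Groth.Agent.Lib.Helper33.FibreBC

open IsLocalRing Groth.Agent.Lib.Helper33.PullbackStalk

theorem flat_of_field_baseChange {Z W : Scheme.{u}} {k K : Type u} [Field k] [Field K]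
    (p : Z ⟶ Spec (CommRingCat.of k)) (q : W ⟶ Spec (CommRingCat.of K)) (H : W ⟶ Z)
    (β : CommRingCat.of k ⟶ CommRingCat.of K)
    (hsq : IsPullback H q p (Spec.map β)) : Flat H := by
  have h1 : Flat (Spec.map β) := by
    rw [Flat.SpecMap_iff]
    letI : Algebra k K := β.hom.toAlgebra
    show Module.Flat k K
    infer_instance
  exact MorphismProperty.of_isPullback hsq.flip h1

/-- `W = Z ×_k K`, `w ∈ W` over `z ∈ Z`, one of `K/k`, `κ(z)/k` finitely generated: `O_{W,w}` is
Gorenstein (resp. CM) iff `O_{Z,z}` is. -/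
theorem gor_cm_stalk_iff {Z W : Scheme.{u}} {k K : Type u} [Field k] [Field K]
    (p : Z ⟶ Spec (CommRingCat.of k)) (q : W ⟶ Spec (CommRingCat.of K)) (H : W ⟶ Z)
    (β : CommRingCat.of k ⟶ CommRingCat.of K)
    (hsq : IsPullback H q p (Spec.map β)) (w : W)
    [IsNoetherianRing (W.presheaf.stalk w)] [IsNoetherianRing (Z.presheaf.stalk (H.base w))]
    [Algebra k K] [Algebra k (Z.residueField (H.base w))]
    (hβ : β = CommRingCat.ofHom (algebraMap k K))
    (hα : gl p (H.base w) ≫ Z.residue (H.base w) =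
      CommRingCat.ofHom (algebraMap k (Z.residueField (H.base w))))
    (hfg : (∃ s : Finset K, IntermediateField.adjoin k (s : Set K) = ⊤) ∨
      (∃ s : Finset (Z.residueField (H.base w)),
        IntermediateField.adjoin k (s : Set (Z.residueField (H.base w))) = ⊤)) :
    (LocCoh.IsGorensteinLocalRing (W.presheaf.stalk w) ↔
        LocCoh.IsGorensteinLocalRing (Z.presheaf.stalk (H.base w))) ∧
      (LocCoh.IsCohenMacaulayLocalRing (W.presheaf.stalk w) ↔
        LocCoh.IsCohenMacaulayLocalRing (Z.presheaf.stalk (H.base w))) := by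
  haveI := flat_of_field_baseChange p q H β hsq
  have hfl := AlgebraicGeometry.Flat.stalkMap H w
  obtain ⟨hG, hC⟩ := fiber_stalk_gor_cm p q H β hsq (H.base w) (H.asFiber w) hβ hα hfg
  refine ⟨?_, ?_⟩
  · rw [Groth.Agent.Lib.Helper33.GorFibre.gorenstein_stalk_iff' H w hfl]
    exact ⟨fun h => h.1, fun h => ⟨h, hG⟩⟩
  · rw [Groth.Agent.Lib.Helper33.CMFibre.cm_stalk_iff' H w hfl]
    exact ⟨fun h => h.1, fun h => ⟨h, hC⟩⟩

end Groth.Agent.Lib.Helper33.FibreBC
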