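import Mathlib
import Groth.Agent.Lib.Helper33.FibreBC3

/-!
# Finite generation of residue field extensions for morphisms locally of finite type
-/

set_option autoImplicit false
set_option maxHeartbeats 400000
set_option backward.isDefEq.respectTransparency.types false
universe u
open CategoryTheory CategoryTheory.Limits AlgebraicGeometry TopologicalSpace

namespace Groth.Agent.Lib.Helper33.FibreBC

open IsLocalRing Groth.Agent.Lib.Helper33.PullbackStalk

theorem fg_of_essFiniteType {k K : Type u} [Field k] [Field K] [Algebra k K]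
    (h : Algebra.EssFiniteType k K) :
    ∃ s : Finset K, IntermediateField.adjoin k (s : Set K) = ⊤ :=
  IntermediateField.fg_top_iff.2 h

theorem essFiniteType_residueFieldMap {Y' Y : Scheme.{u}} (g : Y' ⟶ Y) [LocallyOfFiniteType g]
    (y' : Y') : (g.residueFieldMap y').hom.EssFiniteType :=
  RingHom.EssFiniteType.residueFieldMap (LocallyOfFiniteType.stalkMap (f := g) y')

theorem essFiniteType_germ {A : CommRingCat.{u}} (y : Spec A) :
    ((Scheme.ΓSpecIso A).inv ≫ (Spec A).presheaf.germ ⊤ y trivial).hom.EssFiniteType := by
  rw [← Spec.algebraMap_stalkIso_inv]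
  have h1 : (CommRingCat.ofHom (algebraMap A (Localization.AtPrime y.asIdeal)) ≫
      (Spec.stalkIso A y).inv).hom =
      ((Spec.stalkIso A y).symm.commRingCatIsoToRingEquiv : _ →+* _).comp
        (algebraMap A (Localization.AtPrime y.asIdeal)) := rfl
  rw [h1]
  refine RingHom.EssFiniteType.comp ?_
    (RingHom.FiniteType.of_surjective _ (RingEquiv.surjective _)).essFiniteType
  rw [RingHom.essFiniteType_algebraMap]
  exact Algebra.EssFiniteType.of_isLocalization _ y.asIdeal.primeCompl

theorem essFiniteType_gl_residue {A : CommRingCat.{u}} {Z : Scheme.{u}} (p : Z ⟶ Spec A)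
    [LocallyOfFiniteType p] (z : Z) : (gl p z ≫ Z.residue z).hom.EssFiniteType := by
  have : (gl p z ≫ Z.residue z).hom = (Z.residue z).hom.comp ((p.stalkMap z).hom.comp
      ((Scheme.ΓSpecIso A).inv ≫ (Spec A).presheaf.germ ⊤ (p.base z) trivial).hom) := rfl
  rw [this]
  refine RingHom.EssFiniteType.comp (RingHom.EssFiniteType.comp (essFiniteType_germ _)
    (LocallyOfFiniteType.stalkMap (f := p) z))
    (RingHom.FiniteType.of_surjective _ (Z.residue_surjective z)).essFiniteType

end Groth.Agent.Lib.Helper33.FibreBC
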