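import Mathlib
import Groth.Agent.Lib.Helper33.FibreBC4

/-!
# Gorenstein / Cohen–Macaulay local rings of fibres under base change
-/

set_option autoImplicit false
set_option maxHeartbeats 800000
set_option backward.isDefEq.respectTransparency.types false
universe u
open CategoryTheory CategoryTheory.Limits AlgebraicGeometry TopologicalSpace

namespace Groth.Agent.Lib.Helper33.FibreBC

open IsLocalRing Groth.Agent.Lib.Helper33.PullbackStalk Groth.Agent.Lib.Helper33.GorTransfer
  Groth.Agent.Lib.Helper49.StalkLoc

/-- The map on fibres induced by a cartesian square. -/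
noncomputable def fibreMap {X Y X' Y' : Scheme.{u}} (f : X ⟶ Y) (g : Y' ⟶ Y)
    (f' : X' ⟶ Y') (g' : X' ⟶ X) (hsq : IsPullback g' f' f g) (y' : Y') :
    f'.fiber y' ⟶ f.fiber (g.base y') :=
  pullback.map f' (Y'.fromSpecResidueField y') f (Y.fromSpecResidueField (g.base y')) g'
    (Spec.map (g.residueFieldMap y')) g hsq.w.symm (by simp)

theorem fibreMap_fiberι {X Y X' Y' : Scheme.{u}} (f : X ⟶ Y) (g : Y' ⟶ Y)
    (f' : X' ⟶ Y') (g' : X' ⟶ X) (hsq : IsPullback g' f' f g) (y' : Y') :
    fibreMap f g f' g' hsq y' ≫ f.fiberι (g.base y') = f'.fiberι y' ≫ g' :=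
  pullback.lift_fst _ _ _

theorem isPullback_fibreMap {X Y X' Y' : Scheme.{u}} (f : X ⟶ Y) (g : Y' ⟶ Y)
    (f' : X' ⟶ Y') (g' : X' ⟶ X) (hsq : IsPullback g' f' f g) (y' : Y') :
    IsPullback (fibreMap f g f' g' hsq y') (f'.fiberToSpecResidueField y')
      (f.fiberToSpecResidueField (g.base y')) (Spec.map (g.residueFieldMap y')) :=
  isPullback_fiberToSpecResidueField_of_isPullback hsq y'

theorem fibreMap_asFiber {X Y X' Y' : Scheme.{u}} (f : X ⟶ Y) (g : Y' ⟶ Y)
    (f' : X' ⟶ Y') (g' : X' ⟶ X) (hsq : IsPullback g' f' f g) (x' : X') :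
    (f.fiberι (g.base (f'.base x'))).base
      ((fibreMap f g f' g' hsq (f'.base x')).base (f'.asFiber x')) = g'.base x' := by
  have h1 := fibreMap_fiberι f g f' g' hsq (f'.base x')
  have h2 : (fibreMap f g f' g' hsq (f'.base x') ≫ f.fiberι (g.base (f'.base x'))).base
      (f'.asFiber x') = (f'.fiberι (f'.base x') ≫ g').base (f'.asFiber x') := by rw [h1]
  rw [Scheme.Hom.comp_apply, Scheme.Hom.comp_apply, f'.fiberι_asFiber] at h2
  exact h2

/-- In a cartesian square with `g` or `f` locally of finite type, the local ring of the fibre of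
`f'` at `x'` is Gorenstein (resp. CM) iff the local ring of the fibre of `f` at `g' x'` is. -/
theorem fibre_stalk_baseChange_iff {X Y X' Y' : Scheme.{u}} (f : X ⟶ Y) (g : Y' ⟶ Y)
    (f' : X' ⟶ Y') (g' : X' ⟶ X) (hsq : IsPullback g' f' f g) (x' : X')
    [IsNoetherianRing ((f'.fiber (f'.base x')).presheaf.stalk (f'.asFiber x'))]
    [IsNoetherianRing ((f.fiber (f.base (g'.base x'))).presheaf.stalk (f.asFiber (g'.base x')))]
    (hft : LocallyOfFiniteType g ∨ LocallyOfFiniteType f) :
    (LocCoh.IsGorensteinLocalRing ((f'.fiber (f'.base x')).presheaf.stalk (f'.asFiber x')) ↔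
      LocCoh.IsGorensteinLocalRing
        ((f.fiber (f.base (g'.base x'))).presheaf.stalk (f.asFiber (g'.base x')))) ∧
    (LocCoh.IsCohenMacaulayLocalRing ((f'.fiber (f'.base x')).presheaf.stalk (f'.asFiber x')) ↔
      LocCoh.IsCohenMacaulayLocalRing
        ((f.fiber (f.base (g'.base x'))).presheaf.stalk (f.asFiber (g'.base x')))) := by
  have hpb := isPullback_fibreMap f g f' g' hsq (f'.base x')
  have hz := fibreMap_asFiber f g f' g' hsq x'
  obtain ⟨e⟩ := nonempty_stalk_fiber_equiv f (g.base (f'.base x'))
    ((fibreMap f g f' g' hsq (f'.base x')).base (f'.asFiber x')) (g'.base x') hz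
  haveI : IsNoetherianRing ((f.fiber (g.base (f'.base x'))).presheaf.stalk
      ((fibreMap f g f' g' hsq (f'.base x')).base (f'.asFiber x'))) :=
    isNoetherianRing_of_ringEquiv _ e.symm
  letI : Algebra (ResidueField (Y.presheaf.stalk (g.base (f'.base x'))))
      (ResidueField (Y'.presheaf.stalk (f'.base x'))) :=
    (g.residueFieldMap (f'.base x')).hom.toAlgebra
  letI : Algebra (ResidueField (Y.presheaf.stalk (g.base (f'.base x'))))
      ((f.fiber (g.base (f'.base x'))).residueField
        ((fibreMap f g f' g' hsq (f'.base x')).base (f'.asFiber x'))) :=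
    (gl (f.fiberToSpecResidueField (g.base (f'.base x')))
      ((fibreMap f g f' g' hsq (f'.base x')).base (f'.asFiber x')) ≫
      (f.fiber (g.base (f'.base x'))).residue
        ((fibreMap f g f' g' hsq (f'.base x')).base (f'.asFiber x'))).hom.toAlgebra
  have hfg : (∃ s : Finset (ResidueField (Y'.presheaf.stalk (f'.base x'))),
      IntermediateField.adjoin (ResidueField (Y.presheaf.stalk (g.base (f'.base x'))))
        (s : Set (ResidueField (Y'.presheaf.stalk (f'.base x')))) = ⊤) ∨
      (∃ s : Finset ((f.fiber (g.base (f'.base x'))).residueField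
          ((fibreMap f g f' g' hsq (f'.base x')).base (f'.asFiber x'))),
        IntermediateField.adjoin (ResidueField (Y.presheaf.stalk (g.base (f'.base x'))))
          (s : Set ((f.fiber (g.base (f'.base x'))).residueField
            ((fibreMap f g f' g' hsq (f'.base x')).base (f'.asFiber x')))) = ⊤) := by
    rcases hft with h | h
    · left
      exact fg_of_essFiniteType (essFiniteType_residueFieldMap g (f'.base x'))
    · right
      haveI : LocallyOfFiniteType (f.fiberToSpecResidueField (g.base (f'.base x'))) :=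
        MorphismProperty.pullback_snd _ _ h
      exact fg_of_essFiniteType
        (essFiniteType_gl_residue (f.fiberToSpecResidueField (g.base (f'.base x')))
          ((fibreMap f g f' g' hsq (f'.base x')).base (f'.asFiber x')))
  have key := gor_cm_stalk_iff (k := ResidueField (Y.presheaf.stalk (g.base (f'.base x'))))
    (K := ResidueField (Y'.presheaf.stalk (f'.base x')))
    (f.fiberToSpecResidueField (g.base (f'.base x'))) (f'.fiberToSpecResidueField (f'.base x'))
    (fibreMap f g f' g' hsq (f'.base x'))
    (g.residueFieldMap (f'.base x')) hpb (f'.asFiber x') rfl rfl hfg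
  refine ⟨key.1.trans ?_, key.2.trans ?_⟩
  · exact gorenstein_ringEquiv_iff e
  · exact ⟨isCohenMacaulayLocalRing_of_ringEquiv e, isCohenMacaulayLocalRing_of_ringEquiv e.symm⟩

end Groth.Agent.Lib.Helper33.FibreBC
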