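import Mathlib
import Groth.Agent.Lib.Helper33.FibreBC5

/-!
# Fibres of morphisms locally of finite type are locally Noetherian
-/

set_option autoImplicit false
set_option backward.isDefEq.respectTransparency.types false
universe u
open CategoryTheory CategoryTheory.Limits AlgebraicGeometry TopologicalSpace

namespace Groth.Agent.Lib.Helper33.FibreBC

theorem isLocallyNoetherian_fiber {X Y : Scheme.{u}} (f : X ⟶ Y) [LocallyOfFiniteType f] (y : Y) :
    IsLocallyNoetherian (f.fiber y) := by
  haveI : LocallyOfFiniteType (f.fiberToSpecResidueField y) :=
    MorphismProperty.pullback_snd _ _ inferInstance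
  haveI : IsNoetherianRing (Y.residueField y) :=
    inferInstanceAs (IsNoetherianRing (IsLocalRing.ResidueField (Y.presheaf.stalk y)))
  exact LocallyOfFiniteType.isLocallyNoetherian (f.fiberToSpecResidueField y)

end Groth.Agent.Lib.Helper33.FibreBC
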