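import Mathlib
import Groth.Agent.Lib.Helper87.KzBridge
import Groth.Agent.Lib.Helper87.KzTop

/-!
# Flat base change for Koszul-regularity (mapping-cone model)
-/

set_option autoImplicit false
universe u
open CategoryTheory CategoryTheory.Limits CochainComplex HomologicalComplex MonoidalCategory

namespace Groth.Agent.Lib.Helper33.KoszulBC

open Groth.Agent.Lib.Helper94.KoszulReg Groth.Agent.Lib.Helper87.KzLES
  Groth.Agent.Lib.Helper87.KzMod Groth.Agent.Lib.Helper87.KzBridge

section general

theorem exactAt_map {C D : Type*} [Category C] [Category D] [Abelian C] [Abelian D] (F : C ⥤ D)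
    [F.Additive] [F.PreservesHomology] {ι : Type*} (c : ComplexShape ι)
    (K : HomologicalComplex C c) (i : ι) (h : K.ExactAt i) :
    ((F.mapHomologicalComplex c).obj K).ExactAt i := by
  rw [HomologicalComplex.exactAt_iff] at h ⊢
  exact h.map F

theorem exactAt_of_map {C D : Type*} [Category C] [Category D] [Abelian C] [Abelian D] (F : C ⥤ D)
    [F.Additive] [F.PreservesHomology] [F.Faithful] {ι : Type*} (c : ComplexShape ι)
    (K : HomologicalComplex C c) (i : ι)
    (h : ((F.mapHomologicalComplex c).obj K).ExactAt i) : K.ExactAt i := by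
  rw [HomologicalComplex.exactAt_iff] at h ⊢
  exact (ShortComplex.exact_map_iff_of_faithful _ F).1 h

end general

variable {A : Type u} [CommRing A]

/-- `kz` of isomorphic complexes -/
noncomputable def kzIso {X X' : CochainComplex (ModuleCat.{u} A) ℤ} (e : X ≅ X') (l : List A) :
    kz X l ≅ kz X' l where
  hom := kmap e.hom l
  inv := kmap e.inv l
  hom_inv_id := by rw [← kmap_comp, e.hom_inv_id, kmap_id]
  inv_hom_id := by rw [← kmap_comp, e.inv_hom_id, kmap_id]

theorem koszul_eq : ∀ l : List A, Koszul.koszul A l = kz (sg A (ModuleCat.of A A)) l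
  | [] => rfl
  | f :: l => by
      change CochainComplex.mappingCone (f • 𝟙 (Koszul.koszul A l)) =
        CochainComplex.mappingCone (f • 𝟙 (kz (sg A (ModuleCat.of A A)) l))
      rw [koszul_eq l]

/-- Flat modules: Koszul-regularity passes to module coefficients. -/
theorem exactAt_kz_of_flat (M : Type u) [AddCommGroup M] [Module A M] [Module.Flat A M]
    (l : List A) (i : ℤ) (h : (Koszul.koszul A l).ExactAt i) :
    (kz (sg A (ModuleCat.of A M)) l).ExactAt i := by
  haveI : Module.Flat A (ModuleCat.of A M) := ‹_›
  have h1 : (DRing.tensorCx (Koszul.koszul A l) (ModuleCat.of A M)).ExactAt i :=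
    exactAt_map (tensorRight (ModuleCat.of A M)) _ _ i h
  exact h1.of_iso (bridge M l)

section restrict

variable {B : Type u} [CommRing B] (f : A →+* B)

/-- restriction of scalars on complexes -/
noncomputable abbrev Ψ : CochainComplex (ModuleCat.{u} B) ℤ ⥤ CochainComplex (ModuleCat.{u} A) ℤ :=
  (ModuleCat.restrictScalars.{u} f).mapHomologicalComplex (ComplexShape.up ℤ)

theorem Ψ_map_smul (a : A) (Y : CochainComplex (ModuleCat.{u} B) ℤ) :
    (Ψ f).map (f a • 𝟙 Y) = a • 𝟙 ((Ψ f).obj Y) := by
  ext n x
  rfl

/-- restriction of scalars commutes with iterated cones -/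
noncomputable def restrictKz (X : CochainComplex (ModuleCat.{u} B) ℤ) :
    ∀ l : List A, (Ψ f).obj (kz X (l.map f)) ≅ kz ((Ψ f).obj X) l
  | [] => Iso.refl _
  | a :: l =>
    mappingCone.mapHomologicalComplexIso (f a • 𝟙 (kz X (l.map f)))
      (ModuleCat.restrictScalars.{u} f) ≪≫
    coneMapIso _ (a • 𝟙 (kz ((Ψ f).obj X) l)) (restrictKz X l) (restrictKz X l) (by
      rw [Ψ_map_smul, Linear.smul_comp, Linear.comp_smul, Category.id_comp, Category.comp_id])

end restrict

section main

variable (B : Type u) [CommRing B] [Algebra A B]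

/-- `B` as an `A`-module: restriction of scalars agrees with the algebra module structure. -/
noncomputable def restrictSelfIso :
    (ModuleCat.restrictScalars.{u} (algebraMap A B)).obj (ModuleCat.of B B) ≅ ModuleCat.of A B :=
  LinearEquiv.toModuleIso
    ({ toFun := fun b => b
       invFun := fun b => b
       map_add' := fun _ _ => rfl
       map_smul' := fun a b => by
         show algebraMap A B a * (id b : B) = a • (id b : B)
         exact (Algebra.smul_def a (id b : B)).symm
       left_inv := fun _ => rfl
       right_inv := fun _ => rfl } :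
      ((ModuleCat.restrictScalars.{u} (algebraMap A B)).obj (ModuleCat.of B B)) ≃ₗ[A] B)

/-- **Flat base change of Koszul-regularity.** -/
theorem subsingleton_KH_of_flat [Module.Flat A B] (l : List A) (i : ℤ)
    (h : IsZero ((Koszul.koszul A l).homology i)) :
    Subsingleton (KH (l.map (algebraMap A B)) B i) := by
  have h1 : (Koszul.koszul A l).ExactAt i := (exactAt_iff_isZero_homology _ _).2 h
  have h2 := exactAt_kz_of_flat B l i h1
  let e0 : (Ψ (algebraMap A B)).obj (sg B (ModuleCat.of B B)) ≅ sg A (ModuleCat.of A B) :=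
    (HomologicalComplex.singleMapHomologicalComplex (ModuleCat.restrictScalars.{u} (algebraMap A B))
      (ComplexShape.up ℤ) 0).app (ModuleCat.of B B) ≪≫
      (HomologicalComplex.single (ModuleCat.{u} A) (ComplexShape.up ℤ) 0).mapIso
        (restrictSelfIso B)
  have h3 : (kz ((Ψ (algebraMap A B)).obj (sg B (ModuleCat.of B B))) l).ExactAt i :=
    h2.of_iso (kzIso e0.symm l)
  have h4 : ((Ψ (algebraMap A B)).obj (kz (sg B (ModuleCat.of B B))
      (l.map (algebraMap A B)))).ExactAt i :=
    h3.of_iso (restrictKz (algebraMap A B) _ l).symm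
  have h5 : (kz (sg B (ModuleCat.of B B)) (l.map (algebraMap A B))).ExactAt i :=
    exactAt_of_map (ModuleCat.restrictScalars.{u} (algebraMap A B)) _ _ i h4
  exact ModuleCat.subsingleton_of_isZero ((exactAt_iff_isZero_homology _ _).1 h5)

end main

end Groth.Agent.Lib.Helper33.KoszulBC
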