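import Mathlib
import Groth.Agent.Lib.Helper87.KzTop
import Groth.Agent.Lib.Helper87.KzBasic
import Groth.Agent.Lib.Helper33.GorFlat
import Groth.Agent.Lib.Helper33.GorTransfer

/-!
# Koszul-regular sequences in a Gorenstein local ring: the quotient is Gorenstein
-/

set_option autoImplicit false
universe u
open CategoryTheory CategoryTheory.Limits

namespace Groth.Agent.Lib.Helper33.KoszulGor

open IsLocalRing Groth.Agent.Lib.Helper87.KzMod Groth.Agent.Lib.Helper87.KzBasic
  Groth.Agent.Lib.Helper87.KzTop Groth.Agent.Lib.Helper33.GorFlat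
  Groth.Agent.Lib.Helper33.GorTransfer

variable {R : Type u} [CommRing R] [IsLocalRing R] [IsNoetherianRing R]

/-- Nakayama step: if the Koszul cohomology of `a :: l` vanishes off degree `0`, so does that of
`l`, and `a` is regular on `H^0(l)`. -/
theorem step (a : R) (ha : a ∈ maximalIdeal R) (l : List R)
    (h : ∀ i : ℤ, i ≠ 0 → Subsingleton (KH (a :: l) R i)) :
    (∀ i : ℤ, i ≠ 0 → Subsingleton (KH l R i)) ∧ IsSMulRegular (KH l R 0) a := by
  constructor
  · intro i hi
    rcases lt_or_gt_of_ne hi with hneg | hpos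
    · obtain ⟨α, β, h1, -, -⟩ := KH_cone a l R i (i + 1) rfl
      haveI := h i hi
      haveI : IsNoetherian R (KH l R i) := KH_isNoetherian R l i
      have hsurj : ∀ z : KH l R i, ∃ y : KH l R i, a • y = z := by
        intro z
        have hz : α z = 0 := Subsingleton.elim _ _
        obtain ⟨y, hy⟩ := (h1 z).1 hz
        exact ⟨y, hy⟩
      have htop : (⊤ : Submodule R (KH l R i)) ≤ maximalIdeal R • ⊤ := by
        intro z _
        obtain ⟨y, rfl⟩ := hsurj z
        exact Submodule.smul_mem_smul ha Submodule.mem_top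
      have hbot : (⊤ : Submodule R (KH l R i)) = ⊥ :=
        Submodule.eq_bot_of_le_smul_of_le_jacobson_bot (maximalIdeal R) ⊤
          (IsNoetherian.noetherian _) htop (IsLocalRing.maximalIdeal_le_jacobson _)
      exact (Submodule.subsingleton_iff R).mp (subsingleton_of_top_le_bot hbot.le) |> fun h => h
    · exact KH_subsingleton R l i (Or.inl hpos)
  · obtain ⟨α, β, -, -, h3⟩ := KH_cone a l R (-1) 0 (by norm_num)
    haveI := h (-1) (by norm_num)
    intro x y hxy
    have hxy' : a • (x - y) = 0 := by rw [smul_sub]; exact sub_eq_zero.mpr hxy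
    obtain ⟨w, hw⟩ := (h3 (x - y)).1 hxy'
    have : w = 0 := Subsingleton.elim _ _
    rw [this, map_zero] at hw
    exact sub_eq_zero.mp hw.symm

/-- In a Gorenstein local ring, the quotient by a Koszul-regular sequence contained in the
maximal ideal is Gorenstein. -/
theorem gorenstein_quotient_of_koszul (hR : LocCoh.IsGorensteinLocalRing R) :
    ∀ (l : List R), (∀ a ∈ l, a ∈ maximalIdeal R) →
      (∀ i : ℤ, i ≠ 0 → Subsingleton (KH l R i)) →
      LocCoh.IsGorensteinLocalRing (R ⧸ Ideal.ofList l)
  | [], _, _ => by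
    have h0 : Ideal.ofList ([] : List R) = ⊥ := Ideal.ofList_nil
    exact gorenstein_of_ringEquiv
      ((RingEquiv.quotientBot R).symm.trans (Ideal.quotEquivOfEq h0.symm)) hR
  | a :: l, hl, h => by
    obtain ⟨h1, h2⟩ := step a (hl a List.mem_cons_self) l h
    have IH := gorenstein_quotient_of_koszul hR l
      (fun b hb => hl b (List.mem_cons_of_mem _ hb)) h1
    obtain ⟨e⟩ := nonempty_top l R
    have h3 : IsSMulRegular (R ⧸ (Ideal.ofList l • ⊤ : Submodule R R)) a :=
      (e.isSMulRegular_congr a).1 h2
    have h0 : (Ideal.ofList l • ⊤ : Submodule R R) = Ideal.ofList l := by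
      rw [smul_eq_mul, Ideal.mul_top]
    have h4 : IsSMulRegular (R ⧸ Ideal.ofList l) a :=
      ((Submodule.quotEquivOfEq _ _ h0).isSMulRegular_congr a).1 h3
    set I := Ideal.ofList l with hI
    haveI : IsLocalRing (R ⧸ I) := IH.toIsLocalRing
    haveI : IsNoetherianRing (R ⧸ I) := inferInstance
    have h5 : IsSMulRegular (R ⧸ I) (Ideal.Quotient.mk I a) := by
      intro x y hxy
      apply h4
      show a • x = a • y
      rw [Algebra.smul_def, Algebra.smul_def]
      exact hxy
    have hmem : Ideal.Quotient.mk I a ∈ maximalIdeal (R ⧸ I) := by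
      haveI : IsLocalHom (Ideal.Quotient.mk I) :=
        IsLocalHom.of_surjective _ Ideal.Quotient.mk_surjective
      exact _root_.map_nonunit (Ideal.Quotient.mk I) a (hl a List.mem_cons_self)
    have hQ := (rees (R ⧸ I) (Ideal.Quotient.mk I a) hmem h5).1 IH
    have e1 : Ideal.span {Ideal.Quotient.mk I a} = (Ideal.span {a}).map (Ideal.Quotient.mk I) := by
      rw [Ideal.map_span, Set.image_singleton]
    have e2 : I ⊔ Ideal.span {a} = Ideal.ofList (a :: l) := by
      rw [Ideal.ofList_cons, sup_comm]
    exact gorenstein_of_ringEquiv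
      ((Ideal.quotEquivOfEq e1).trans ((DoubleQuot.quotQuotEquivQuotSup I (Ideal.span {a})).trans
        (Ideal.quotEquivOfEq e2))) hQ

end Groth.Agent.Lib.Helper33.KoszulGor
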