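import Mathlib
import Groth.Prelude.Def_LCI2
import Groth.Agent.Lib.Helper33.KoszulBC
import Groth.Agent.Lib.Helper33.KoszulGor
import Groth.Agent.Lib.Helper33.GorRing
import Groth.Agent.Lib.Helper33.GorPoly

/-!
# Quotients of Gorenstein rings by Koszul-regular ideals are Gorenstein; lci over Gorenstein
-/

set_option autoImplicit false
universe u
open CategoryTheory CategoryTheory.Limits

namespace Groth.Agent.Lib.Helper33.GorLCI

open IsLocalRing Groth.Agent.Lib.Helper87.KzMod Groth.Agent.Lib.Helper33.KoszulBC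
  Groth.Agent.Lib.Helper33.KoszulGor Groth.Agent.Lib.Helper33.GorRing
  Groth.Agent.Lib.Helper33.GorTransfer Groth.Agent.Lib.Helper33.GorPoly

theorem isGorensteinRing_mvPolynomial (A : Type u) [CommRing A] [hA : LocCoh.IsGorensteinRing A] :
    ∀ n : ℕ, LocCoh.IsGorensteinRing (MvPolynomial (Fin n) A)
  | 0 => isGorensteinRing_of_ringEquiv (MvPolynomial.isEmptyAlgEquiv A (Fin 0)).symm.toRingEquiv
  | n + 1 => by
    haveI := isGorensteinRing_mvPolynomial A n
    haveI := isGorensteinRing_polynomial (MvPolynomial (Fin n) A)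
    exact isGorensteinRing_of_ringEquiv (MvPolynomial.finSuccEquiv A n).symm.toRingEquiv

/-- The quotient of a Gorenstein ring by a Koszul-regular ideal is Gorenstein. -/
theorem isGorensteinRing_quotient_of_koszulRegular (P : Type u) [CommRing P]
    [hP : LocCoh.IsGorensteinRing P] (I : Ideal P) (hI : LCI.IsKoszulRegularIdeal I) :
    LocCoh.IsGorensteinRing (P ⧸ I) := by
  haveI : IsNoetherianRing P := hP.1
  refine ⟨?_⟩
  intro Pb hPb
  obtain ⟨hp, ⟨e⟩⟩ := exists_ringEquiv_localization_quotient I Pb
  set 𝔭 := Pb.comap (Ideal.Quotient.mk I) with h𝔭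
  have hI𝔭 : I ≤ 𝔭 := fun x hx => by
    rw [h𝔭, Ideal.mem_comap, Ideal.Quotient.eq_zero_iff_mem.2 hx]; exact zero_mem _
  obtain ⟨g, hg, l, hl, hIl⟩ := hI ⟨𝔭, hp⟩ hI𝔭
  have hu : IsUnit (algebraMap P (Localization.AtPrime 𝔭) g) :=
    IsLocalization.map_units (Localization.AtPrime 𝔭) (⟨g, hg⟩ : 𝔭.primeCompl)
  letI : Algebra (Localization.Away g) (Localization.AtPrime 𝔭) :=
    (IsLocalization.Away.lift g hu).toAlgebra
  haveI : IsScalarTower P (Localization.Away g) (Localization.AtPrime 𝔭) :=
    IsScalarTower.of_algebraMap_eq (fun x => (IsLocalization.Away.lift_eq g hu x).symm)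
  haveI : Module.Flat P (Localization.AtPrime 𝔭) := IsLocalization.flat _ 𝔭.primeCompl
  haveI : Module.Flat (Localization.Away g) (Localization.AtPrime 𝔭) :=
    (Module.flat_iff_of_isLocalization (Localization.Away g) (Submonoid.powers g) _).2 inferInstance
  have hKH : ∀ i : ℤ, i ≠ 0 → Subsingleton
      (KH (l.map (algebraMap (Localization.Away g) (Localization.AtPrime 𝔭)))
        (Localization.AtPrime 𝔭) i) :=
    fun i hi => subsingleton_KH_of_flat (Localization.AtPrime 𝔭) l i (hl i hi)
  have hid : Ideal.ofList (l.map (algebraMap (Localization.Away g) (Localization.AtPrime 𝔭))) =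
      I.map (algebraMap P (Localization.AtPrime 𝔭)) := by
    rw [← Ideal.map_ofList, IsScalarTower.algebraMap_eq P (Localization.Away g)
      (Localization.AtPrime 𝔭), ← Ideal.map_map, hIl]
  have hmem : ∀ a ∈ l.map (algebraMap (Localization.Away g) (Localization.AtPrime 𝔭)),
      a ∈ maximalIdeal (Localization.AtPrime 𝔭) := by
    intro a ha
    have h1 : a ∈ Ideal.ofList (l.map (algebraMap (Localization.Away g)
        (Localization.AtPrime 𝔭))) := Ideal.subset_span ha
    rw [hid] at h1
    have h2 : I.map (algebraMap P (Localization.AtPrime 𝔭)) ≤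
        maximalIdeal (Localization.AtPrime 𝔭) := by
      rw [← Localization.AtPrime.map_eq_maximalIdeal]
      exact Ideal.map_mono hI𝔭
    exact h2 h1
  have hGorR := hP.isGorensteinLocalRing_localization 𝔭
  have hQ := gorenstein_quotient_of_koszul hGorR _ hmem hKH
  exact gorenstein_of_ringEquiv ((Ideal.quotEquivOfEq hid).trans e) hQ

/-- A local complete intersection algebra over a Gorenstein ring is Gorenstein. -/
theorem isGorensteinRing_of_isLCI (A B : Type u) [CommRing A] [CommRing B] [Algebra A B]
    (hA : LocCoh.IsGorensteinRing A) (h : LCI.IsLCI A B) : LocCoh.IsGorensteinRing B := by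
  obtain ⟨-, n, f, hf, hI⟩ := h
  haveI := isGorensteinRing_mvPolynomial A n
  haveI := isGorensteinRing_quotient_of_koszulRegular _ _ hI
  exact isGorensteinRing_of_ringEquiv (RingHom.quotientKerEquivOfSurjective (f := f.toRingHom) hf)

end Groth.Agent.Lib.Helper33.GorLCI
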