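import Mathlib
import Groth.Agent.Lib.Helper87.KzTop

/-!
# The natural projection `M → H^0(l; M)` of Koszul cohomology
-/

set_option autoImplicit false
universe u
open CategoryTheory CategoryTheory.Limits CochainComplex HomologicalComplex
open scoped Pointwise

namespace Groth.Agent.Lib.Helper33.KoszulPi

open Groth.Agent.Lib.Helper87.KzMod Groth.Agent.Lib.Helper87.KzBasic
  Groth.Agent.Lib.Helper87.KzLES Groth.Agent.Lib.Helper94.KoszulReg

variable {A : Type u} [CommRing A]
variable {M N : Type u} [AddCommGroup M] [Module A M] [AddCommGroup N] [Module A N]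

/-- the map `H^i(l; M) → H^i(a :: l; M)` induced by the inclusion into the cone -/
noncomputable def KHinr (a : A) (l : List A) (M : Type u) [AddCommGroup M] [Module A M] (i : ℤ) :
    KH l M i →ₗ[A] KH (a :: l) M i :=
  (homologyMap (mappingCone.inr (a • 𝟙 (kz (sg A (ModuleCat.of A M)) l))) i).hom

theorem KHinr_natural (a : A) (l : List A) (f : M →ₗ[A] N) (i : ℤ) :
    KHmap (a :: l) f i ∘ₗ KHinr a l M i = KHinr a l N i ∘ₗ KHmap l f i := by
  apply LinearMap.ext
  intro z
  have key : homologyMap (mappingCone.inr (a • 𝟙 (kz (sg A (ModuleCat.of A M)) l))) i ≫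
      homologyMap (mappingCone.map (a • 𝟙 (kz (sg A (ModuleCat.of A M)) l))
        (a • 𝟙 (kz (sg A (ModuleCat.of A N)) l)) (kmap (sgMap f) l) (kmap (sgMap f) l)
        (by simp [Linear.smul_comp, Linear.comp_smul])) i =
      homologyMap (kmap (sgMap f) l) i ≫
        homologyMap (mappingCone.inr (a • 𝟙 (kz (sg A (ModuleCat.of A N)) l))) i := by
    rw [← homologyMap_comp, ← homologyMap_comp]
    congr 1
    simp [mappingCone.map]
  exact congrArg (fun k => k.hom z) key

theorem KHinr_exact (a : A) (l : List A) (M : Type u) [AddCommGroup M] [Module A M] (i : ℤ) :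
    Function.Exact (LinearMap.lsmul A (KH l M i) a) (KHinr a l M i) := by
  have e : (homologyMap (a • 𝟙 (kz (sg A (ModuleCat.of A M)) l)) i).hom =
      LinearMap.lsmul A (KH l M i) a := by
    apply LinearMap.ext
    intro z
    exact homologyMap_smul_id_apply a i z
  have := cone_exact₂ (a • 𝟙 (kz (sg A (ModuleCat.of A M)) l)) i
  rwa [e] at this

theorem KHinr_surjective (a : A) (l : List A) (M : Type u) [AddCommGroup M] [Module A M] :
    Function.Surjective (KHinr a l M 0) := by
  intro z
  have hs : Subsingleton (KH l M 1) := KH_subsingleton M l 1 (Or.inl one_pos)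
  have h2 := cone_exact₃ (a • 𝟙 (kz (sg A (ModuleCat.of A M)) l)) 0 1 rfl
  exact (h2 z).mp (Subsingleton.elim _ _)

/-- the natural projection `M → H^0(l; M)` -/
noncomputable def piK : ∀ (l : List A) (M : Type u) [AddCommGroup M] [Module A M],
    M →ₗ[A] KH l M 0
  | [], M, _, _ => (KHnil M).symm.toLinearMap
  | a :: l, M, _, _ => KHinr a l M 0 ∘ₗ piK l M

theorem piK_natural (f : M →ₗ[A] N) : ∀ l : List A,
    KHmap l f 0 ∘ₗ piK l M = piK l N ∘ₗ f
  | [] => by
    apply LinearMap.ext
    intro m
    have h := congrArg (fun k => k.hom m)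
      (HomologicalComplex.singleObjHomologySelfIso_inv_naturality (ComplexShape.up ℤ) 0
        (ModuleCat.ofHom f))
    exact h
  | a :: l => by
    change KHmap (a :: l) f 0 ∘ₗ (KHinr a l M 0 ∘ₗ piK l M) = (KHinr a l N 0 ∘ₗ piK l N) ∘ₗ f
    rw [← LinearMap.comp_assoc, KHinr_natural, LinearMap.comp_assoc, piK_natural f l,
      LinearMap.comp_assoc]

theorem piK_surjective : ∀ (l : List A) (M : Type u) [AddCommGroup M] [Module A M],
    Function.Surjective (piK l M)
  | [], M, _, _ => (KHnil M).symm.surjective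
  | a :: l, M, _, _ => (KHinr_surjective a l M).comp (piK_surjective l M)

theorem piK_ker : ∀ (l : List A) (M : Type u) [AddCommGroup M] [Module A M],
    LinearMap.ker (piK l M) = Ideal.ofList l • (⊤ : Submodule A M)
  | [], M, _, _ => by
    rw [Ideal.ofList_nil, Submodule.bot_smul]
    exact LinearMap.ker_eq_bot.2 (KHnil M).symm.injective
  | a :: l, M, _, _ => by
    have ih := piK_ker l M
    ext m
    rw [Ideal.ofList_cons, Submodule.sup_smul, Submodule.ideal_span_singleton_smul,
      Submodule.mem_sup]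
    change KHinr a l M 0 (piK l M m) = 0 ↔ _
    rw [(KHinr_exact a l M 0 (piK l M m))]
    constructor
    · rintro ⟨z, hz⟩
      obtain ⟨m', rfl⟩ := piK_surjective l M z
      refine ⟨a • m', Submodule.smul_mem_pointwise_smul _ _ _ Submodule.mem_top, m - a • m', ?_,
        by abel⟩
      rw [← ih, LinearMap.mem_ker, map_sub, map_smul]
      rw [LinearMap.lsmul_apply] at hz
      rw [hz, sub_self]
    · rintro ⟨y, hy, z, hz, rfl⟩
      rw [Submodule.mem_smul_pointwise_iff_exists] at hy
      obtain ⟨m', -, rfl⟩ := hy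
      rw [← ih, LinearMap.mem_ker] at hz
      refine ⟨piK l M m', ?_⟩
      rw [LinearMap.lsmul_apply, map_add, hz, add_zero, map_smul]

/-- If `f⁻¹((l)N) ⊆ (l)M` then `H^0(l; M) → H^0(l; N)` is injective. -/
theorem KHmap_zero_injective (l : List A) (f : M →ₗ[A] N)
    (h : ∀ m : M, f m ∈ Ideal.ofList l • (⊤ : Submodule A N) →
      m ∈ Ideal.ofList l • (⊤ : Submodule A M)) :
    Function.Injective (KHmap l f 0) := by
  rw [injective_iff_map_eq_zero]
  intro z hz
  obtain ⟨m, rfl⟩ := piK_surjective l M z
  have h1 : piK l N (f m) = 0 := by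
    have := LinearMap.congr_fun (piK_natural f l) m
    simp only [LinearMap.comp_apply] at this
    rw [← this, hz]
  have h2 : f m ∈ Ideal.ofList l • (⊤ : Submodule A N) := by
    rw [← piK_ker]; exact h1
  have h3 := h m h2
  rw [← piK_ker] at h3
  exact h3

end Groth.Agent.Lib.Helper33.KoszulPi
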