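import Mathlib
import Groth.Agent.Lib.Helper33.KoszulPi
import Groth.Agent.Lib.Helper33.KoszulBC

/-!
# Universal Koszul-regularity: Koszul-regular with flat quotient stays Koszul-exact after
tensoring with an arbitrary module of the base.
-/

set_option autoImplicit false
universe u
open CategoryTheory CategoryTheory.Limits CochainComplex HomologicalComplex TensorProduct
open scoped Pointwise

namespace Groth.Agent.Lib.Helper33.KoszulUniv

open Groth.Agent.Lib.Helper87.KzMod Groth.Agent.Lib.Helper87.KzBasic
  Groth.Agent.Lib.Helper87.KzLES Groth.Agent.Lib.Helper94.KoszulReg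
  Groth.Agent.Lib.Helper33.KoszulPi Groth.Agent.Lib.Helper33.KoszulBC

variable {A S : Type u} [CommRing A] [CommRing S] [Algebra A S]

section quot

variable (I : Ideal S) (N : Type u) [AddCommGroup N] [Module A N]

/-- the quotient map `S ⊗ N → (S/I) ⊗ N` -/
noncomputable def qN : S ⊗[A] N →ₗ[A] (S ⧸ I) ⊗[A] N :=
  LinearMap.rTensor N ((Ideal.Quotient.mkₐ A I).toLinearMap)

theorem qN_eq_zero_iff (m : S ⊗[A] N) :
    qN I N m = 0 ↔ m ∈ (I • (⊤ : Submodule S (S ⊗[A] N))) := by
  constructor
  · intro hm
    have hex : Function.Exact ((I.restrictScalars A).subtype)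
        ((Ideal.Quotient.mkₐ A I).toLinearMap) := by
      intro x
      simp only [AlgHom.toLinearMap_apply, Ideal.Quotient.mkₐ_eq_mk, Set.mem_range,
        Submodule.subtype_apply, Subtype.exists, Submodule.restrictScalars_mem, exists_prop,
        exists_eq_right]
      exact Ideal.Quotient.eq_zero_iff_mem
    have hsurj : Function.Surjective ((Ideal.Quotient.mkₐ A I).toLinearMap) :=
      Ideal.Quotient.mk_surjective
    have h := rTensor_exact N hex hsurj
    obtain ⟨w, rfl⟩ := (h m).mp hm
    clear hm
    induction w using TensorProduct.induction_on with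
    | zero => simp
    | tmul x n =>
      have : (LinearMap.rTensor N (I.restrictScalars A).subtype) (x ⊗ₜ[A] n) =
          (x : S) • ((1 : S) ⊗ₜ[A] n) := by
        simp [TensorProduct.smul_tmul']
      rw [this]
      exact Submodule.smul_mem_smul x.2 Submodule.mem_top
    | add x y hx hy =>
      rw [map_add]
      exact Submodule.add_mem _ hx hy
  · intro hm
    have key : ∀ (x : S), x ∈ I → ∀ t : S ⊗[A] N, qN I N (x • t) = 0 := by
      intro x hx t
      induction t using TensorProduct.induction_on with
      | zero => simp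
      | tmul s n =>
        have h1 : x • (s ⊗ₜ[A] n) = (x * s) ⊗ₜ[A] n := by
          simp [TensorProduct.smul_tmul']
        rw [h1]
        simp only [qN, LinearMap.rTensor_tmul, AlgHom.toLinearMap_apply,
          Ideal.Quotient.mkₐ_eq_mk]
        rw [Ideal.Quotient.eq_zero_iff_mem.2 (I.mul_mem_right s hx), TensorProduct.zero_tmul]
      | add t₁ t₂ h₁ h₂ =>
        rw [smul_add, map_add, h₁, h₂, add_zero]
    refine Submodule.smul_induction_on hm ?_ ?_
    · intro x hx t _
      exact key x hx t
    · intro x y hx hy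
      rw [map_add, hx, hy, add_zero]

end quot

/-- injectivity modulo `I` of the base change of an injective map, for flat `S/I` -/
theorem mem_smul_of_baseChange_mem (I : Ideal S) [Module.Flat A (S ⧸ I)]
    {N' N : Type u} [AddCommGroup N'] [Module A N'] [AddCommGroup N] [Module A N]
    (ι : N' →ₗ[A] N) (hι : Function.Injective ι) (m : S ⊗[A] N')
    (hm : LinearMap.baseChange S ι m ∈ (I • (⊤ : Submodule S (S ⊗[A] N)))) :
    m ∈ (I • (⊤ : Submodule S (S ⊗[A] N'))) := by
  have hcomm : ∀ m : S ⊗[A] N', qN I N (LinearMap.baseChange S ι m) =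
      LinearMap.lTensor (S ⧸ I) ι (qN I N' m) := by
    intro m
    induction m using TensorProduct.induction_on with
    | zero => simp
    | tmul s n => simp [qN]
    | add x y hx hy => simp only [map_add, hx, hy]
  rw [← qN_eq_zero_iff] at hm ⊢
  rw [hcomm] at hm
  exact (Module.Flat.lTensor_preserves_injective_linearMap ι hι)
    (by rw [hm, map_zero])

variable [Module.Flat A S]

theorem les_step (l : List S) (hK : ∀ i : ℤ, i ≠ 0 → (Koszul.koszul S l).ExactAt i)
    {N F : Type u} [AddCommGroup N] [Module A N] [AddCommGroup F] [Module A F] [Module.Flat A F]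
    (π : F →ₗ[A] N) (hπ : Function.Surjective π) (n m : ℤ) (hnm : n + 1 = m) (hn : n ≠ 0) :
    ∃ δ : KH l (S ⊗[A] N) n →ₗ[S] KH l (S ⊗[A] (LinearMap.ker π)) m,
        Function.Injective δ ∧
          Function.Exact δ (KHmap l (LinearMap.baseChange S (LinearMap.ker π).subtype) m) := by
  have hι : Function.Injective (LinearMap.ker π).subtype := Submodule.subtype_injective _
  have hex : Function.Exact (LinearMap.ker π).subtype π := LinearMap.exact_subtype_ker_map _
  have h1 : Function.Injective (LinearMap.baseChange S (LinearMap.ker π).subtype) :=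
    Module.Flat.lTensor_preserves_injective_linearMap _ hι
  have h2 : Function.Exact (LinearMap.baseChange S (LinearMap.ker π).subtype)
      (LinearMap.baseChange S π) := by
    have h2' := lTensor_exact S hex hπ
    exact h2'
  have h3 : Function.Surjective (LinearMap.baseChange S π) := by
    have h3' := LinearMap.lTensor_surjective S hπ
    exact h3'
  obtain ⟨δ, -, e2, e3⟩ := KH_les _ _ h1 h2 h3 l n m hnm
  have hF : Subsingleton (KH l (S ⊗[A] F) n) :=
    ModuleCat.subsingleton_of_isZero ((exactAt_iff_isZero_homology _ _).1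
      (exactAt_kz_of_flat (S ⊗[A] F) l n (hK n hn)))
  refine ⟨δ, ?_, e3⟩
  rw [injective_iff_map_eq_zero]
  intro z hz
  obtain ⟨w, rfl⟩ := (e2 z).mp hz
  rw [Subsingleton.elim w 0, map_zero]

/-- **Universal Koszul exactness.** -/
theorem subsingleton_KH_tensor (l : List S)
    (hK : ∀ i : ℤ, i ≠ 0 → (Koszul.koszul S l).ExactAt i)
    [Module.Flat A (S ⧸ Ideal.ofList l)] :
    ∀ (k : ℕ) (N : Type u) [AddCommGroup N] [Module A N],
      Subsingleton (KH l (S ⊗[A] N) (-(k : ℤ) - 1)) := by
  intro k
  induction k with
  | zero =>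
    intro N _ _
    obtain ⟨δ, hδ, hex⟩ := les_step l hK (Finsupp.linearCombination A (id : N → N))
      (Finsupp.linearCombination_id_surjective A N) (-((0 : ℕ) : ℤ) - 1) 0 (by norm_num)
      (by norm_num)
    have hinj : Function.Injective (KHmap l (LinearMap.baseChange S
        (LinearMap.ker (Finsupp.linearCombination A (id : N → N))).subtype) 0) :=
      KHmap_zero_injective l _ (fun m hm => mem_smul_of_baseChange_mem (Ideal.ofList l) _
        (Submodule.subtype_injective _) m hm)
    refine subsingleton_of_forall_eq 0 (fun z => hδ ?_)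
    rw [map_zero]
    apply hinj
    rw [map_zero]
    exact (hex (δ z)).mpr ⟨z, rfl⟩
  | succ k ih =>
    intro N _ _
    obtain ⟨δ, hδ, -⟩ := les_step l hK (Finsupp.linearCombination A (id : N → N))
      (Finsupp.linearCombination_id_surjective A N) (-((k + 1 : ℕ) : ℤ) - 1) (-(k : ℤ) - 1)
      (by push_cast; ring) (by push_cast; omega)
    haveI := ih (LinearMap.ker (Finsupp.linearCombination A (id : N → N)))
    exact subsingleton_of_forall_eq 0 (fun z => hδ (Subsingleton.elim _ _))

theorem subsingleton_KH_tensor' (l : List S)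
    (hK : ∀ i : ℤ, i ≠ 0 → (Koszul.koszul S l).ExactAt i)
    [Module.Flat A (S ⧸ Ideal.ofList l)] (N : Type u) [AddCommGroup N] [Module A N]
    (i : ℤ) (hi : i ≠ 0) : Subsingleton (KH l (S ⊗[A] N) i) := by
  rcases lt_or_gt_of_ne hi with h | h
  · obtain ⟨k, hk⟩ : ∃ k : ℕ, i = -(k : ℤ) - 1 := ⟨(-i - 1).toNat, by omega⟩
    rw [hk]
    exact subsingleton_KH_tensor l hK k N
  · exact KH_subsingleton _ l i (Or.inl h)

end Groth.Agent.Lib.Helper33.KoszulUniv
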