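import Mathlib
import Groth.Agent.Lib.Helper33.KoszulUniv
import Groth.Agent.Lib.Helper33.GorLCI
import Groth.Agent.Lib.Helper33.GorDescent

/-!
# Fibres of flat local complete intersection maps are Gorenstein
-/

set_option autoImplicit false
set_option maxHeartbeats 800000
universe u
open CategoryTheory CategoryTheory.Limits CochainComplex HomologicalComplex TensorProduct
open scoped Pointwise

namespace Groth.Agent.Lib.Helper33.GorFibreLCI

open Groth.Agent.Lib.Helper87.KzMod Groth.Agent.Lib.Helper87.KzBasic
  Groth.Agent.Lib.Helper87.KzLES Groth.Agent.Lib.Helper94.KoszulReg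
  Groth.Agent.Lib.Helper33.KoszulPi Groth.Agent.Lib.Helper33.KoszulBC
  Groth.Agent.Lib.Helper33.KoszulUniv Groth.Agent.Lib.Helper33.GorLCI
  Groth.Agent.Lib.Helper33.GorRing

/-- Koszul exactness with coefficients in an algebra `T` (as a module over `S`) gives Koszul
exactness of the image sequence in `T`. -/
theorem isZero_koszul_of_subsingleton_KH {S T : Type u} [CommRing S] [CommRing T] [Algebra S T]
    (l : List S) (i : ℤ) (h : Subsingleton (KH l T i)) :
    IsZero ((Koszul.koszul T (l.map (algebraMap S T))).homology i) := by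
  have h2 : (kz (sg S (ModuleCat.of S T)) l).ExactAt i :=
    (exactAt_iff_isZero_homology _ _).2 (ModuleCat.isZero_of_subsingleton _)
  let e0 : (Ψ (algebraMap S T)).obj (sg T (ModuleCat.of T T)) ≅ sg S (ModuleCat.of S T) :=
    (HomologicalComplex.singleMapHomologicalComplex (ModuleCat.restrictScalars.{u} (algebraMap S T))
      (ComplexShape.up ℤ) 0).app (ModuleCat.of T T) ≪≫
      (HomologicalComplex.single (ModuleCat.{u} S) (ComplexShape.up ℤ) 0).mapIso
        (restrictSelfIso T)
  have h3 : (kz ((Ψ (algebraMap S T)).obj (sg T (ModuleCat.of T T))) l).ExactAt i :=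
    h2.of_iso (kzIso e0.symm l)
  have h4 : ((Ψ (algebraMap S T)).obj (kz (sg T (ModuleCat.of T T))
      (l.map (algebraMap S T)))).ExactAt i :=
    h3.of_iso (restrictKz (algebraMap S T) _ l).symm
  have h5 : (kz (sg T (ModuleCat.of T T)) (l.map (algebraMap S T))).ExactAt i :=
    exactAt_of_map (ModuleCat.restrictScalars.{u} (algebraMap S T)) _ _ i h4
  rw [koszul_eq]
  exact (exactAt_iff_isZero_homology _ _).1 h5

/-- A Koszul-regular ideal of a flat algebra with flat quotient stays Koszul-regular after an
arbitrary base change. -/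
theorem isKoszulRegularIdeal_baseChange {A P : Type u} [CommRing A] [CommRing P] [Algebra A P]
    [Module.Flat A P] (κ : Type u) [CommRing κ] [Algebra A κ] (I : Ideal P)
    (hI : LCI.IsKoszulRegularIdeal I) [Module.Flat A (P ⧸ I)] :
    LCI.IsKoszulRegularIdeal
      (I.map (Algebra.TensorProduct.includeRight (R := A) (A := κ) (B := P))) := by
  intro 𝔮 h𝔮
  have hI𝔮 : I ≤ 𝔮.asIdeal.comap
      (Algebra.TensorProduct.includeRight (R := A) (A := κ) (B := P)) :=
    Ideal.map_le_iff_le_comap.1 h𝔮
  obtain ⟨g, hg, l, hl, hIl⟩ := hI ⟨𝔮.asIdeal.comap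
      (Algebra.TensorProduct.includeRight (R := A) (A := κ) (B := P)), inferInstance⟩ hI𝔮
  refine ⟨(1 : κ) ⊗ₜ[A] g, hg, ?_⟩
  -- notation
  let e : κ ⊗[A] Localization.Away g ≃ₐ[κ] Localization.Away ((1 : κ) ⊗ₜ[A] g) :=
    IsLocalization.Away.tensorProductEquivTMulRight A κ g (Localization.Away g)
  let θ : Localization.Away g ⊗[A] κ ≃ₐ[A] Localization.Away ((1 : κ) ⊗ₜ[A] g) :=
    (Algebra.TensorProduct.comm A (Localization.Away g) κ).trans (e.restrictScalars A)
  let ψ : Localization.Away g →+* Localization.Away ((1 : κ) ⊗ₜ[A] g) :=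
    (θ : Localization.Away g ⊗[A] κ →+* Localization.Away ((1 : κ) ⊗ₜ[A] g)).comp
      (Algebra.TensorProduct.includeLeft (R := A) (S := A) (A := Localization.Away g)
        (B := κ)).toRingHom
  have hψ : ∀ s : Localization.Away g, ψ s = θ (s ⊗ₜ[A] (1 : κ)) := fun s => rfl
  have hψ' : ∀ s : Localization.Away g, ψ s = e ((1 : κ) ⊗ₜ[A] s) := fun s => rfl
  letI : Algebra (Localization.Away g) (Localization.Away ((1 : κ) ⊗ₜ[A] g)) := ψ.toAlgebra
  have halg : algebraMap (Localization.Away g) (Localization.Away ((1 : κ) ⊗ₜ[A] g)) = ψ := rfl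
  -- the S-linear identification
  let θl : (Localization.Away g ⊗[A] κ) ≃ₗ[Localization.Away g]
      Localization.Away ((1 : κ) ⊗ₜ[A] g) :=
    { θ.toLinearEquiv with
      map_smul' := fun s t => by
        change θ (s • t) = ψ s * θ t
        rw [hψ, ← map_mul]
        congr 1
        induction t using TensorProduct.induction_on with
        | zero => simp
        | tmul a b => simp [TensorProduct.smul_tmul', Algebra.TensorProduct.tmul_mul_tmul]
        | add x y hx hy => rw [smul_add, mul_add, hx, hy] }
  refine ⟨l.map (algebraMap (Localization.Away g) (Localization.Away ((1 : κ) ⊗ₜ[A] g))), ?_, ?_⟩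
  · -- Koszul regularity
    intro i hi
    have hK : ∀ j : ℤ, j ≠ 0 → (Koszul.koszul (Localization.Away g) l).ExactAt j :=
      fun j hj => (exactAt_iff_isZero_homology _ _).2 (hl j hj)
    haveI : Module.Flat P (Localization.Away g) := IsLocalization.flat _ (Submonoid.powers g)
    haveI : Module.Flat A (Localization.Away g) := Module.Flat.trans A P (Localization.Away g)
    haveI : Module.Flat A (Localization.Away g ⧸ Ideal.ofList l) := by
      have h0 : Ideal.ofList l = I.map (algebraMap P (Localization.Away g)) := hIl.symm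
      rw [h0]
      haveI : Module.Flat (P ⧸ I)
          (Localization.Away g ⧸ I.map (algebraMap P (Localization.Away g))) :=
        Module.Flat.of_linearEquiv
          (Algebra.TensorProduct.quotIdealMapEquivQuotTensor (Localization.Away g) I).toLinearEquiv
      haveI : IsScalarTower A (P ⧸ I)
          (Localization.Away g ⧸ I.map (algebraMap P (Localization.Away g))) :=
        IsScalarTower.of_algebraMap_eq (fun a => by
          rw [IsScalarTower.algebraMap_apply A (Localization.Away g)
            (Localization.Away g ⧸ I.map (algebraMap P (Localization.Away g))),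
            IsScalarTower.algebraMap_apply A P (Localization.Away g),
            IsScalarTower.algebraMap_apply A P (P ⧸ I)]
          rfl)
      exact Module.Flat.trans A (P ⧸ I) _
    haveI := subsingleton_KH_tensor' (A := A) l hK κ i hi
    have h1 : Subsingleton (KH l (Localization.Away ((1 : κ) ⊗ₜ[A] g)) i) :=
      (KHcongr l θl i).symm.subsingleton
    exact isZero_koszul_of_subsingleton_KH l i h1
  · -- generation
    have hcomp : (algebraMap (κ ⊗[A] P) (Localization.Away ((1 : κ) ⊗ₜ[A] g))).comp
        (Algebra.TensorProduct.includeRight (R := A) (A := κ) (B := P)).toRingHom =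
        ψ.comp (algebraMap P (Localization.Away g)) := by
      ext a
      simp only [RingHom.comp_apply, hψ']
      exact (IsLocalization.Away.tensorProductEquivTMulRight_tmul (R := A) (S := κ) P g
        (Localization.Away g) 1 a).symm
    have h1 : Ideal.map (algebraMap (κ ⊗[A] P) (Localization.Away ((1 : κ) ⊗ₜ[A] g)))
        (I.map (Algebra.TensorProduct.includeRight (R := A) (A := κ) (B := P))) =
        Ideal.map (algebraMap (κ ⊗[A] P) (Localization.Away ((1 : κ) ⊗ₜ[A] g)))
          (I.map (Algebra.TensorProduct.includeRight (R := A) (A := κ) (B := P)).toRingHom) := rfl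
    rw [h1, Ideal.map_map, hcomp, ← Ideal.map_map, hIl]
    exact Ideal.map_ofList ψ l

/-- The fibres of a flat local complete intersection ring map over fields are Gorenstein. -/
theorem isGorensteinRing_fibre_of_flat_isLCI (A B : Type u) [CommRing A] [CommRing B]
    [Algebra A B] [Module.Flat A B] (hl : LCI.IsLCI A B) (κ : Type u) [Field κ] [Algebra A κ] :
    LocCoh.IsGorensteinRing (B ⊗[A] κ) := by
  obtain ⟨-, n, f, hf, hI⟩ := hl
  haveI : Module.Flat A (MvPolynomial (Fin n) A ⧸ RingHom.ker f.toRingHom) :=
    Module.Flat.of_linearEquiv (Ideal.quotientKerAlgEquivOfSurjective hf).toLinearEquiv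
  have hI' := isKoszulRegularIdeal_baseChange (A := A) κ (RingHom.ker f.toRingHom) hI
  haveI : LocCoh.IsGorensteinLocalRing κ :=
    Groth.Agent.Lib.Helper33.GorTransfer.gorenstein_of_field κ
  haveI : LocCoh.IsGorensteinRing κ :=
    Groth.Agent.Lib.Helper33.GorDescent.isGorensteinRing_of_isGorensteinLocalRing κ
  haveI := isGorensteinRing_mvPolynomial κ n
  haveI : LocCoh.IsGorensteinRing (κ ⊗[A] MvPolynomial (Fin n) A) :=
    isGorensteinRing_of_ringEquiv (MvPolynomial.algebraTensorAlgEquiv A κ).symm.toRingEquiv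
  haveI := isGorensteinRing_quotient_of_koszulRegular _ _ hI'
  let e1 : κ ⊗[A] (MvPolynomial (Fin n) A ⧸ RingHom.ker f.toRingHom) ≃ₐ[A] _ :=
    Algebra.TensorProduct.tensorQuotientEquiv (R := A) A (MvPolynomial (Fin n) A) κ
      (RingHom.ker f.toRingHom)
  let e2 : κ ⊗[A] (MvPolynomial (Fin n) A ⧸ RingHom.ker f.toRingHom) ≃ₐ[A] κ ⊗[A] B :=
    Algebra.TensorProduct.congr AlgEquiv.refl (Ideal.quotientKerAlgEquivOfSurjective hf)
  let e3 : κ ⊗[A] B ≃ₐ[A] B ⊗[A] κ := Algebra.TensorProduct.comm A κ B
  exact isGorensteinRing_of_ringEquiv ((e1.symm.trans e2).trans e3).toRingEquiv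

end Groth.Agent.Lib.Helper33.GorFibreLCI
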