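import Mathlib
import Groth.Agent.S0345

/-!
# Injective dimension of a Gorenstein ring of finite Krull dimension (helper33)
-/

set_option autoImplicit false
universe u
open CategoryTheory

namespace Groth.Agent.Lib.Helper33.GorInjDim

/-- A Gorenstein ring of Krull dimension `≤ d` has injective dimension `≤ d` over itself. -/
theorem hasInjectiveDimensionLT_of_isGorensteinRing (A : Type u) [CommRing A]
    [hG : LocCoh.IsGorensteinRing A] (d : ℕ) (hd : ringKrullDim A ≤ d) :
    HasInjectiveDimensionLT (ModuleCat.of A A) (d + 1) := by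
  show HasInjectiveDimensionLE (ModuleCat.of A A) d
  rw [ModuleCat.hasInjectiveDimensionLE_iff_forall_primeSpectrum]
  intro p
  have hGp := hG.isGorensteinLocalRing_localization p.asIdeal
  obtain ⟨n₀, hn₀⟩ := hGp.exists_hasInjectiveDimensionLT
  obtain ⟨r, -, hrdim, hr⟩ :=
    Groth.Agent.S0345.injDim_of_gorenstein_local (Localization.AtPrime p.asIdeal) n₀ hn₀
  have hrd : r ≤ d := by
    have h1 : ringKrullDim (Localization.AtPrime p.asIdeal) ≤ ringKrullDim A := by
      rw [IsLocalization.AtPrime.ringKrullDim_eq_height p.asIdeal]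
      exact Ideal.height_le_ringKrullDim_of_isPrime
    rw [hrdim] at h1
    exact_mod_cast h1.trans hd
  have h3 : HasInjectiveDimensionLT
      (ModuleCat.of (Localization.AtPrime p.asIdeal) (Localization.AtPrime p.asIdeal)) (d + 1) :=
    hasInjectiveDimensionLT_of_ge _ (r + 1) (d + 1) (by omega)
  exact hasInjectiveDimensionLT_of_iso (Groth.Agent.S0345.locSelfIso A p.asIdeal.primeCompl).symm (d + 1)

end Groth.Agent.Lib.Helper33.GorInjDim
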