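import Mathlib

set_option autoImplicit false
universe u
open CategoryTheory CategoryTheory.Limits Abelian

namespace Groth.Agent.Lib.Helper33.Torsionless

variable {S : Type u} [CommRing S]

/-- A submodule of a projective module has vanishing `Ext¹(-, Y)` when `Y` has injective
dimension `≤ 1`. -/
theorem subsingleton_ext_one_of_injective_linearMap
    (Y : ModuleCat.{u} S) [HasInjectiveDimensionLT Y 2]
    (M P : Type u) [AddCommGroup M] [Module S M] [AddCommGroup P] [Module S P]
    [Module.Projective S P] (ι : M →ₗ[S] P) (hι : Function.Injective ι) :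
    Subsingleton (Ext (ModuleCat.of S M) Y 1) := by
  let Sc : ShortComplex (ModuleCat.{u} S) :=
    ShortComplex.mk (ModuleCat.ofHom ι) (ModuleCat.ofHom (LinearMap.range ι).mkQ) (by
      ext x
      simp)
  have hS : Sc.ShortExact := by
    refine ShortComplex.ShortExact.mk' ?_ ?_ ?_
    · rw [ShortComplex.ShortExact.moduleCat_exact_iff_function_exact]
      intro y
      constructor
      · intro hy
        have : (LinearMap.range ι).mkQ y = 0 := hy
        rw [Submodule.mkQ_apply, Submodule.Quotient.mk_eq_zero] at this
        exact this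
      · rintro ⟨x, rfl⟩
        show (LinearMap.range ι).mkQ (ι x) = 0
        rw [Submodule.mkQ_apply, Submodule.Quotient.mk_eq_zero]
        exact ⟨x, rfl⟩
    · exact (ModuleCat.mono_iff_injective _).mpr hι
    · exact (ModuleCat.epi_iff_surjective _).mpr (Submodule.mkQ_surjective _)
  have hP : Projective Sc.X₂ := (IsProjective.iff_projective (ModuleCat.of S P)).mp inferInstance
  refine ⟨fun x y => ?_⟩
  have key : ∀ x : Ext (ModuleCat.of S M) Y 1, x = 0 := by
    intro x
    have h2 : hS.extClass.comp x (show 1 + 1 = 2 from rfl) = 0 :=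
      Ext.eq_zero_of_hasInjectiveDimensionLT _ 2 (le_refl 2)
    obtain ⟨x₂, hx₂⟩ := Ext.contravariant_sequence_exact₁ hS Y x rfl h2
    rw [← hx₂, Ext.eq_zero_of_projective x₂, Ext.comp_zero]
  rw [key x, key y]

/-- A finitely generated torsionless module over a Noetherian ring embeds into a finite free
module. -/
theorem exists_injective_of_torsionless [IsNoetherianRing S]
    (M : Type u) [AddCommGroup M] [Module S M] [Module.Finite S M]
    (hM : Function.Injective (Module.Dual.eval S M)) :
    ∃ (m : ℕ) (ι : M →ₗ[S] (Fin m → S)), Function.Injective ι := by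
  haveI : Module.Finite S (Module.Dual S M) := inferInstance
  obtain ⟨m, f, hf⟩ := Module.Finite.exists_fin (R := S) (M := Module.Dual S M)
  refine ⟨m, LinearMap.pi f, ?_⟩
  rw [injective_iff_map_eq_zero]
  intro x hx
  apply hM
  rw [map_zero]
  ext g
  have hg : g ∈ Submodule.span S (Set.range f) := by rw [hf]; trivial
  rw [Module.Dual.eval_apply, LinearMap.zero_apply]
  induction hg using Submodule.span_induction with
  | mem y hy =>
    obtain ⟨i, rfl⟩ := hy
    have := congrFun hx i
    simpa using this
  | zero => simp
  | add a b _ _ ha hb => rw [LinearMap.add_apply, ha, hb, add_zero]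
  | smul c a _ ha => rw [LinearMap.smul_apply, ha, smul_zero]

end Groth.Agent.Lib.Helper33.Torsionless
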