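import Mathlib
import Groth.Agent.Lib.Helper33.CMFibre
import Groth.Agent.Lib.Helper33.GorFibre
import Groth.Agent.Lib.Helper33.GorTransfer
import Groth.Agent.Lib.Helper33.CMComp
import Groth.Agent.S0341
import Groth.Agent.S9768

/-!
# Gorenstein / Cohen–Macaulay local rings along étale morphisms
-/

set_option autoImplicit false
set_option maxHeartbeats 800000
set_option backward.isDefEq.respectTransparency.types false
universe u
open CategoryTheory CategoryTheory.Limits AlgebraicGeometry TopologicalSpace

namespace Groth.Agent.Lib.Helper33.EtaleStalk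

open IsLocalRing

/-- A field is a Cohen–Macaulay local ring. -/
theorem cm_of_field (k : Type u) [Field k] : LocCoh.IsCohenMacaulayLocalRing k :=
  haveI := Groth.Agent.Lib.Helper33.GorTransfer.gorenstein_of_field k
  Groth.Agent.S0341.result k

/-- For a flat local homomorphism `A → B` of Noetherian local rings with `𝔪_A B = 𝔪_B`,
`B` is CM iff `A` is. -/
theorem cm_iff_of_map_maximalIdeal_eq (A B : Type u) [CommRing A] [CommRing B]
    [IsLocalRing A] [IsLocalRing B] [IsNoetherianRing A] [IsNoetherianRing B] [Algebra A B]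
    [IsLocalHom (algebraMap A B)] [Module.Flat A B]
    (h : (maximalIdeal A).map (algebraMap A B) = maximalIdeal B) :
    LocCoh.IsCohenMacaulayLocalRing B ↔ LocCoh.IsCohenMacaulayLocalRing A := by
  have key := Groth.Agent.Lib.Helper33.CMComp.cm_flat_local_iff' A B (ResidueField B) (residue B)
    IsLocalRing.residue_surjective (by rw [IsLocalRing.ker_residue, h])
  rw [key]
  exact ⟨fun h => h.1, fun h => ⟨h, cm_of_field _⟩⟩

/-- For an unramified morphism locally of finite type, `𝔪_{f x} O_{X,x} = 𝔪_x`. -/
theorem map_maximalIdeal_stalkMap {X Y : Scheme.{u}} (f : X ⟶ Y) [FormallyUnramified f]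
    [LocallyOfFiniteType f] (x : X) :
    (maximalIdeal (Y.presheaf.stalk (f.base x))).map (f.stalkMap x).hom =
      maximalIdeal (X.presheaf.stalk x) := by
  letI : Algebra (Y.presheaf.stalk (f.base x)) (X.presheaf.stalk x) := (f.stalkMap x).hom.toAlgebra
  haveI : IsLocalHom (algebraMap (Y.presheaf.stalk (f.base x)) (X.presheaf.stalk x)) :=
    inferInstanceAs (IsLocalHom (f.stalkMap x).hom)
  haveI : Algebra.FormallyUnramified (Y.presheaf.stalk (f.base x)) (X.presheaf.stalk x) :=
    FormallyUnramified.stalkMap f x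
  haveI : Algebra.EssFiniteType (Y.presheaf.stalk (f.base x)) (X.presheaf.stalk x) :=
    LocallyOfFiniteType.stalkMap (f := f) x
  exact Algebra.FormallyUnramified.map_maximalIdeal

/-- Étale morphisms preserve and reflect Gorenstein / CM local rings. -/
theorem gor_cm_stalk_iff_of_etale {X Y : Scheme.{u}} (f : X ⟶ Y) [Etale f] (x : X)
    [IsNoetherianRing (X.presheaf.stalk x)] [IsNoetherianRing (Y.presheaf.stalk (f.base x))] :
    (LocCoh.IsGorensteinLocalRing (X.presheaf.stalk x) ↔
        LocCoh.IsGorensteinLocalRing (Y.presheaf.stalk (f.base x))) ∧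
      (LocCoh.IsCohenMacaulayLocalRing (X.presheaf.stalk x) ↔
        LocCoh.IsCohenMacaulayLocalRing (Y.presheaf.stalk (f.base x))) := by
  letI : Algebra (Y.presheaf.stalk (f.base x)) (X.presheaf.stalk x) := (f.stalkMap x).hom.toAlgebra
  haveI : IsLocalHom (algebraMap (Y.presheaf.stalk (f.base x)) (X.presheaf.stalk x)) :=
    inferInstanceAs (IsLocalHom (f.stalkMap x).hom)
  haveI : Module.Flat (Y.presheaf.stalk (f.base x)) (X.presheaf.stalk x) :=
    AlgebraicGeometry.Flat.stalkMap f x
  have h := map_maximalIdeal_stalkMap f x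
  exact ⟨Groth.Agent.Lib.Helper33.GorTransfer.gorenstein_iff_of_map_maximalIdeal_eq _ _ h,
    cm_iff_of_map_maximalIdeal_eq _ _ h⟩

/-- The local rings of the spectrum of a field are fields. -/
theorem isField_stalk_Spec_field {k : Type u} [Field k] (y : Spec (CommRingCat.of k)) :
    IsField ((Spec (CommRingCat.of k)).presheaf.stalk y) := by
  have e : (Spec (CommRingCat.of k)).presheaf.stalk y ≃+* Localization.AtPrime y.asIdeal :=
    (Spec.stalkIso (CommRingCat.of k) y).commRingCatIsoToRingEquiv
  have h1 : IsField (Localization.AtPrime y.asIdeal) := by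
    rw [IsLocalRing.isField_iff_maximalIdeal_eq, ← Localization.AtPrime.map_eq_maximalIdeal]
    have : y.asIdeal = ⊥ := Ideal.eq_bot_of_prime y.asIdeal
    rw [Ideal.map_eq_bot_iff_le_ker]
    exact this.le.trans bot_le
  exact MulEquiv.isField h1 e.toMulEquiv

theorem gor_stalk_Spec_field {k : Type u} [Field k] (y : Spec (CommRingCat.of k)) :
    LocCoh.IsGorensteinLocalRing ((Spec (CommRingCat.of k)).presheaf.stalk y) := by
  letI := (isField_stalk_Spec_field y).toField
  exact Groth.Agent.Lib.Helper33.GorTransfer.gorenstein_of_field _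

theorem cm_stalk_Spec_field {k : Type u} [Field k] (y : Spec (CommRingCat.of k)) :
    LocCoh.IsCohenMacaulayLocalRing ((Spec (CommRingCat.of k)).presheaf.stalk y) := by
  letI := (isField_stalk_Spec_field y).toField
  exact cm_of_field _

/-- The local rings of a scheme étale (or just unramified, locally of finite type) over a field
are fields. -/
theorem isField_stalk_of_unramified_field {V : Scheme.{u}} {k : Type u} [Field k]
    (b : V ⟶ Spec (CommRingCat.of k)) [FormallyUnramified b] [LocallyOfFiniteType b] (v : V) :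
    IsField (V.presheaf.stalk v) := by
  have h := map_maximalIdeal_stalkMap b v
  have h0 : maximalIdeal ((Spec (CommRingCat.of k)).presheaf.stalk (b.base v)) = ⊥ :=
    IsLocalRing.isField_iff_maximalIdeal_eq.1 (isField_stalk_Spec_field _)
  rw [h0, Ideal.map_bot] at h
  exact IsLocalRing.isField_iff_maximalIdeal_eq.2 h.symm

/-- Any morphism to a scheme all of whose local rings are fields is flat. -/
theorem flat_of_isField_stalk {U V : Scheme.{u}} (h : U ⟶ V)
    (hV : ∀ v : V, IsField (V.presheaf.stalk v)) : Flat h := by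
  rw [Flat.iff_flat_stalkMap]
  intro u
  letI := (hV (h.base u)).toField
  letI : Algebra (V.presheaf.stalk (h.base u)) (U.presheaf.stalk u) := (h.stalkMap u).hom.toAlgebra
  show Module.Flat (V.presheaf.stalk (h.base u)) (U.presheaf.stalk u)
  infer_instance

/-- Chart lemma (CM): `X` locally Noetherian with CM local rings, `a : U ⟶ X` étale,
`b : V ⟶ Spec k` étale; then any `h : U ⟶ V` is CM at every point. -/
theorem isCMAt_chart {X U V : Scheme.{u}} {k : Type u} [Field k] [IsLocallyNoetherian X]
    (a : U ⟶ X) (b : V ⟶ Spec (CommRingCat.of k)) (h : U ⟶ V) [Etale a] [Etale b]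
    (hX : ∀ x : X, LocCoh.IsCohenMacaulayLocalRing (X.presheaf.stalk x)) (u : U) :
    MoreMor.IsCMAt h u := by
  haveI : IsLocallyNoetherian U := LocallyOfFiniteType.isLocallyNoetherian a
  haveI : IsLocallyNoetherian V := LocallyOfFiniteType.isLocallyNoetherian b
  haveI : Flat h := flat_of_isField_stalk h (fun v => isField_stalk_of_unramified_field b v)
  have hU : ∀ u : U, LocCoh.IsCohenMacaulayLocalRing (U.presheaf.stalk u) := fun u =>
    (gor_cm_stalk_iff_of_etale a u).2.2 (hX _)
  exact (Groth.Agent.S9768.result h hU u).1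

/-- Chart lemma (Gorenstein). -/
theorem isGorAt_chart {X U V : Scheme.{u}} {k : Type u} [Field k] [IsLocallyNoetherian X]
    (a : U ⟶ X) (b : V ⟶ Spec (CommRingCat.of k)) (h : U ⟶ V) [Etale a] [Etale b]
    (hX : ∀ x : X, LocCoh.IsGorensteinLocalRing (X.presheaf.stalk x)) (u : U) :
    (h.stalkMap u).hom.Flat ∧
      LocCoh.IsGorensteinLocalRing ((h.fiber (h u)).presheaf.stalk (h.asFiber u)) := by
  haveI : IsLocallyNoetherian U := LocallyOfFiniteType.isLocallyNoetherian a
  haveI : IsLocallyNoetherian V := LocallyOfFiniteType.isLocallyNoetherian b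
  haveI : Flat h := flat_of_isField_stalk h (fun v => isField_stalk_of_unramified_field b v)
  have hU : LocCoh.IsGorensteinLocalRing (U.presheaf.stalk u) :=
    (gor_cm_stalk_iff_of_etale a u).1.2 (hX _)
  exact ⟨AlgebraicGeometry.Flat.stalkMap h u,
    ((Groth.Agent.Lib.Helper33.GorFibre.gorenstein_stalk_iff' h u
      (AlgebraicGeometry.Flat.stalkMap h u)).1 hU).2⟩

end Groth.Agent.Lib.Helper33.EtaleStalk
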