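import Mathlib
import Groth.Agent.Lib.Helper33.GorTransfer
import Groth.Agent.Lib.Helper37.Hz19

/-!
# Gorenstein fibre rings along flat local homomorphisms with field closed fibre (ring level)
-/

set_option autoImplicit false
set_option maxHeartbeats 800000
universe u

namespace Groth.Agent.Lib.Helper33.GorAtRing

open IsLocalRing Groth.Agent.Lib.Helper33.GorTransfer

section

variable {Q Q' : Type u} [CommRing Q] [CommRing Q'] [IsLocalRing Q] [IsLocalRing Q']
  [Algebra Q Q'] [IsLocalHom (algebraMap Q Q')] [Module.Flat Q Q']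

theorem isLocalRing_quot' {R : Type*} [CommRing R] [IsLocalRing R] {I : Ideal R}
    (hI : I ≤ maximalIdeal R) : IsLocalRing (R ⧸ I) := by
  haveI : Nontrivial (R ⧸ I) := Ideal.Quotient.nontrivial_iff.2 (fun h => by
    rw [h] at hI
    exact (Ideal.IsPrime.ne_top (inferInstance : (maximalIdeal R).IsPrime)) (top_le_iff.1 hI))
  exact IsLocalRing.of_surjective' _ Ideal.Quotient.mk_surjective

theorem map_le_maximalIdeal {I : Ideal Q} (hI : I ≤ maximalIdeal Q) :
    I.map (algebraMap Q Q') ≤ maximalIdeal Q' :=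
  (Ideal.map_mono hI).trans (IsLocalRing.map_maximalIdeal_le (algebraMap Q Q'))

theorem isLocalHom_quot (I : Ideal Q) :
    IsLocalHom (algebraMap (Q ⧸ I) (Q' ⧸ I.map (algebraMap Q Q'))) := by
  constructor
  intro a' ha'
  obtain ⟨a, rfl⟩ := Ideal.Quotient.mk_surjective a'
  have h1 : IsUnit (Ideal.Quotient.mk (I.map (algebraMap Q Q')) (algebraMap Q Q' a)) := ha'
  by_cases hI : I.map (algebraMap Q Q') ≤ maximalIdeal Q'
  · haveI := isLocalRing_quot' hI
    haveI := IsLocalHom.of_surjective
      (Ideal.Quotient.mk (I.map (algebraMap Q Q'))) Ideal.Quotient.mk_surjective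
    have h2 : IsUnit a := isUnit_of_map_unit (algebraMap Q Q') a (isUnit_of_map_unit _ _ h1)
    exact h2.map _
  · have htop : I.map (algebraMap Q Q') = ⊤ := by
      by_contra hne
      exact hI (le_maximalIdeal hne)
    have hItop : I = ⊤ := by
      by_contra hne
      have := map_le_maximalIdeal (Q' := Q') (le_maximalIdeal hne)
      rw [htop] at this
      exact (Ideal.IsPrime.ne_top (inferInstance : (maximalIdeal Q').IsPrime)) (top_le_iff.1 this)
    haveI : Subsingleton (Q ⧸ I) := by
      rw [hItop]; exact Ideal.Quotient.subsingleton_iff.2 rfl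
    exact isUnit_of_subsingleton _

theorem flat_quot (I : Ideal Q) : Module.Flat (Q ⧸ I) (Q' ⧸ I.map (algebraMap Q Q')) :=
  Module.Flat.of_linearEquiv
    (Algebra.TensorProduct.quotIdealMapEquivQuotTensor Q' I).toLinearEquiv

/-- Noetherian descent for the quotients. -/
theorem isNoetherianRing_quot_of_map {I : Ideal Q} (hI : I ≤ maximalIdeal Q)
    [IsNoetherianRing (Q' ⧸ I.map (algebraMap Q Q'))] : IsNoetherianRing (Q ⧸ I) := by
  haveI := isLocalRing_quot' hI
  haveI := isLocalRing_quot' (map_le_maximalIdeal (Q' := Q') hI)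
  haveI := isLocalHom_quot (Q' := Q') I
  haveI := flat_quot (Q' := Q') I
  haveI : Module.FaithfullyFlat (Q ⧸ I) (Q' ⧸ I.map (algebraMap Q Q')) :=
    Module.FaithfullyFlat.of_flat_of_isLocalHom
  exact Groth.Agent.Lib.Helper37.Hz.isNoetherianRing_of_faithfullyFlat (Q ⧸ I)
    (Q' ⧸ I.map (algebraMap Q Q'))

/-- Noetherian ascent for the quotients along essentially finite type maps. -/
theorem isNoetherianRing_map_of_quot [Algebra.EssFiniteType Q Q'] (I : Ideal Q)
    [IsNoetherianRing (Q ⧸ I)] : IsNoetherianRing (Q' ⧸ I.map (algebraMap Q Q')) := by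
  exact Algebra.EssFiniteType.isNoetherianRing (Q ⧸ I) _

/-- The key equivalence: if `𝔪_Q Q' = 𝔪_{Q'}`, then `Q'/IQ'` is Gorenstein iff `Q/I` is. -/
theorem gor_quot_iff (hm : (maximalIdeal Q).map (algebraMap Q Q') = maximalIdeal Q')
    {I : Ideal Q} (hI : I ≤ maximalIdeal Q)
    [IsNoetherianRing (Q ⧸ I)] [IsNoetherianRing (Q' ⧸ I.map (algebraMap Q Q'))] :
    LocCoh.IsGorensteinLocalRing (Q' ⧸ I.map (algebraMap Q Q')) ↔
      LocCoh.IsGorensteinLocalRing (Q ⧸ I) := by
  have key := gorenstein_quotient_iff Q Q' (ResidueField Q') I hI (residue Q')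
    IsLocalRing.residue_surjective (by rw [IsLocalRing.ker_residue, hm])
  rw [key]
  exact ⟨fun h => h.1, fun h => ⟨h, gorenstein_of_field _⟩⟩

end

end Groth.Agent.Lib.Helper33.GorAtRing
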