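import Mathlib
import Groth.Agent.Lib.Helper33.EtaleStalk
import Groth.Agent.Lib.Helper33.GorAtRing
import Groth.Agent.Lib.Helper33.GorComp
import Groth.Agent.Lib.Helper31.AlgSpFlatAt
import Groth.Prelude.Def_Dual3

/-!
# `Dual3.IsGorensteinAt` is étale local on source and target; chart independence
-/

set_option autoImplicit false
set_option maxHeartbeats 800000
set_option backward.isDefEq.respectTransparency.types false
universe u
open CategoryTheory CategoryTheory.Limits AlgebraicGeometry TopologicalSpace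

namespace Groth.Agent.Lib.Helper33.GorAtEtale

open IsLocalRing Groth.Agent.Lib.Helper33.GorTransfer Groth.Agent.Lib.Helper33.GorAtRing
  Groth.Agent.Lib.Helper33.EtaleStalk Groth.Agent.Lib.Helper31.AlgSpFlatAt

/-- The fibre ideal `𝔪_{h u} O_{U,u}`. -/
noncomputable abbrev fibIdeal {U V : Scheme.{u}} (h : U ⟶ V) (u : U) : Ideal (U.presheaf.stalk u) :=
  (maximalIdeal (V.presheaf.stalk (h.base u))).map (h.stalkMap u).hom

/-- Quotient form of "Gorenstein fibre ring". -/
def QGor {U V : Scheme.{u}} (h : U ⟶ V) (u : U) : Prop :=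
  LocCoh.IsGorensteinLocalRing (U.presheaf.stalk u ⧸ fibIdeal h u)

theorem fibIdeal_le {U V : Scheme.{u}} (h : U ⟶ V) (u : U) :
    fibIdeal h u ≤ maximalIdeal (U.presheaf.stalk u) :=
  IsLocalRing.map_maximalIdeal_le (h.stalkMap u).hom

theorem isGorensteinAt_iff {U V : Scheme.{u}} (h : U ⟶ V) (u : U) :
    Dual3.IsGorensteinAt h u ↔ ((h.stalkMap u).hom.Flat ∧ QGor h u) := by
  obtain ⟨π, hπ, hker⟩ := Groth.Agent.Lib.Helper33.GorComp.exists_fibre_proj h u
  let e : (U.presheaf.stalk u ⧸ fibIdeal h u) ≃+*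
      (h.fiber (h.base u)).presheaf.stalk (h.asFiber u) :=
    (Ideal.quotEquivOfEq hker.symm).trans (RingHom.quotientKerEquivOfSurjective hπ)
  unfold Dual3.IsGorensteinAt QGor
  rw [gorenstein_ringEquiv_iff e]

theorem QGor_congr {R : Type u} [CommRing R] {I J : Ideal R} (h : I = J) :
    LocCoh.IsGorensteinLocalRing (R ⧸ I) ↔ LocCoh.IsGorensteinLocalRing (R ⧸ J) :=
  gorenstein_ringEquiv_iff (Ideal.quotEquivOfEq h)

section Source

variable {A B C : Scheme.{u}} (e : A ⟶ B) [Etale e] (h : B ⟶ C) (a : A)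

theorem fibIdeal_comp_source :
    fibIdeal (e ≫ h) a = (fibIdeal h (e.base a)).map (e.stalkMap a).hom := by
  have h1 : ((e ≫ h).stalkMap a).hom = (e.stalkMap a).hom.comp (h.stalkMap (e.base a)).hom :=
    congr(($(Scheme.Hom.stalkMap_comp e h a)).hom)
  unfold fibIdeal
  rw [Ideal.map_map, ← h1]
  rfl

theorem QGor_precomp (H : QGor h (e.base a)) : QGor (e ≫ h) a := by
  letI : Algebra (B.presheaf.stalk (e.base a)) (A.presheaf.stalk a) := (e.stalkMap a).hom.toAlgebra
  haveI : IsLocalHom (algebraMap (B.presheaf.stalk (e.base a)) (A.presheaf.stalk a)) :=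
    inferInstanceAs (IsLocalHom (e.stalkMap a).hom)
  haveI : Module.Flat (B.presheaf.stalk (e.base a)) (A.presheaf.stalk a) :=
    AlgebraicGeometry.Flat.stalkMap e a
  haveI : Algebra.EssFiniteType (B.presheaf.stalk (e.base a)) (A.presheaf.stalk a) :=
    LocallyOfFiniteType.stalkMap (f := e) a
  have hm := map_maximalIdeal_stalkMap e a
  unfold QGor at H ⊢
  haveI : IsNoetherianRing (B.presheaf.stalk (e.base a) ⧸ fibIdeal h (e.base a)) := H.1
  haveI : IsNoetherianRing (A.presheaf.stalk a ⧸ (fibIdeal h (e.base a)).map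
      (algebraMap (B.presheaf.stalk (e.base a)) (A.presheaf.stalk a))) :=
    isNoetherianRing_map_of_quot _
  rw [QGor_congr (fibIdeal_comp_source e h a)]
  exact (gor_quot_iff hm (fibIdeal_le h (e.base a))).2 H

theorem QGor_descend (H : QGor (e ≫ h) a) : QGor h (e.base a) := by
  letI : Algebra (B.presheaf.stalk (e.base a)) (A.presheaf.stalk a) := (e.stalkMap a).hom.toAlgebra
  haveI : IsLocalHom (algebraMap (B.presheaf.stalk (e.base a)) (A.presheaf.stalk a)) :=
    inferInstanceAs (IsLocalHom (e.stalkMap a).hom)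
  haveI : Module.Flat (B.presheaf.stalk (e.base a)) (A.presheaf.stalk a) :=
    AlgebraicGeometry.Flat.stalkMap e a
  have hm := map_maximalIdeal_stalkMap e a
  unfold QGor at H ⊢
  rw [QGor_congr (fibIdeal_comp_source e h a)] at H
  haveI : IsNoetherianRing (A.presheaf.stalk a ⧸ (fibIdeal h (e.base a)).map
      (algebraMap (B.presheaf.stalk (e.base a)) (A.presheaf.stalk a))) := H.1
  haveI : IsNoetherianRing (B.presheaf.stalk (e.base a) ⧸ fibIdeal h (e.base a)) :=
    isNoetherianRing_quot_of_map (Q' := A.presheaf.stalk a) (fibIdeal_le h (e.base a))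
  exact (gor_quot_iff hm (fibIdeal_le h (e.base a))).1 H

end Source

section Target

variable {A B C : Scheme.{u}} (h : A ⟶ B) (e : B ⟶ C) [Etale e] (a : A)

theorem fibIdeal_comp_target : fibIdeal (h ≫ e) a = fibIdeal h a := by
  have h1 : ((h ≫ e).stalkMap a).hom = (h.stalkMap a).hom.comp (e.stalkMap (h.base a)).hom :=
    congr(($(Scheme.Hom.stalkMap_comp h e a)).hom)
  have hm := map_maximalIdeal_stalkMap e (h.base a)
  unfold fibIdeal
  rw [← hm, Ideal.map_map, ← h1]
  rfl

theorem QGor_comp_target_iff : QGor (h ≫ e) a ↔ QGor h a :=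
  QGor_congr (fibIdeal_comp_target h e a)

end Target

/-- `h` is Gorenstein at `u` (quotient form). -/
def GorAt {U V : Scheme.{u}} (h : U ⟶ V) (u : U) : Prop := FlatAt h u ∧ QGor h u

theorem isGorensteinAt_iff_gorAt {U V : Scheme.{u}} (h : U ⟶ V) (u : U) :
    Dual3.IsGorensteinAt h u ↔ GorAt h u := isGorensteinAt_iff h u

section Scheme

variable {A B C : Scheme.{u}}

theorem gorAt_precomp (e : A ⟶ B) (h : B ⟶ C) [Etale e] (a : A) (hh : GorAt h (e.base a)) :
    GorAt (e ≫ h) a :=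
  ⟨flatAt_precomp e h a hh.1, QGor_precomp e h a hh.2⟩

theorem gorAt_descend (e : A ⟶ B) (h : B ⟶ C) [Etale e] (a : A) (hh : GorAt (e ≫ h) a) :
    GorAt h (e.base a) :=
  ⟨flatAt_descend e h a hh.1, QGor_descend e h a hh.2⟩

theorem gorAt_postcomp (h : A ⟶ B) (e : B ⟶ C) [Etale e] (a : A) (hh : GorAt h a) :
    GorAt (h ≫ e) a :=
  ⟨flatAt_postcomp h e a hh.1, (QGor_comp_target_iff h e a).2 hh.2⟩

theorem gorAt_cancel (g : A ⟶ B) (e : B ⟶ C) [Etale e] (a : A) (hh : GorAt (g ≫ e) a) :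
    GorAt g a :=
  ⟨flatAt_cancel g e a hh.1, (QGor_comp_target_iff g e a).1 hh.2⟩

end Scheme

open AlgSp Groth.Agent.Lib.Helper52 Groth.Agent.Lib.Helper51

variable {S : Scheme.{u}} {X Y : AlgSp.Sp S}

/-- **Chart independence of Gorensteinness at a point.** -/
theorem gorAt_transfer (f : X ⟶ Y)
    {U V U' V' : Over S} (a : (yon S).obj U ⟶ X) (b : (yon S).obj V ⟶ Y) (h : U ⟶ V)
    (ha : RepWith @Etale a) (hb : RepWith @Etale b)
    (comm : a ≫ f = (yon S).map h ≫ b) (u : U.left) (hh : GorAt h.left u)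
    (a' : (yon S).obj U' ⟶ X) (b' : (yon S).obj V' ⟶ Y) (h' : U' ⟶ V')
    (ha' : RepWith @Etale a') (hb' : RepWith @Etale b')
    (comm' : a' ≫ f = (yon S).map h' ≫ b') (u' : U'.left)
    (hu : Points.ofPt a u = Points.ofPt a' u') : GorAt h'.left u' := by
  have sqU := ha.rep.isPullback' a'
  set p₁ : ha.rep.pullback a' ⟶ U := ha.rep.fst' a' with hp₁
  set p₂ : ha.rep.pullback a' ⟶ U' := ha.rep.snd a' with hp₂
  haveI hp₂e : Etale p₂.left := ha.property _ _ _ sqU
  haveI hp₁e : Etale p₁.left := ha'.property _ _ _ sqU.flip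
  obtain ⟨w, hw1, hw2⟩ := exists_of_ofPt_eq_ofPt sqU hu
  have sqV := hb.rep.isPullback' b'
  set q₁ : hb.rep.pullback b' ⟶ V := hb.rep.fst' b' with hq₁
  set q₂ : hb.rep.pullback b' ⟶ V' := hb.rep.snd b' with hq₂
  haveI hq₂e : Etale q₂.left := hb.property _ _ _ sqV
  haveI hq₁e : Etale q₁.left := hb'.property _ _ _ sqV.flip
  have w' : (yon S).map (p₁ ≫ h) ≫ b = (yon S).map (p₂ ≫ h') ≫ b' := by
    rw [Functor.map_comp, Functor.map_comp, Category.assoc, Category.assoc, ← comm, ← comm',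
      ← Category.assoc, ← Category.assoc, sqU.w]
  obtain ⟨h'', hh''⟩ := (yon S).map_surjective (sqV.lift _ _ w')
  have e₁ : h'' ≫ q₁ = p₁ ≫ h := (yon S).map_injective (by
    rw [Functor.map_comp, hh'']; exact sqV.lift_fst _ _ _)
  have e₂ : h'' ≫ q₂ = p₂ ≫ h' := (yon S).map_injective (by
    rw [Functor.map_comp, hh'']; exact sqV.lift_snd _ _ _)
  have e₁' : h''.left ≫ q₁.left = p₁.left ≫ h.left := congrArg CommaMorphism.left e₁
  have e₂' : h''.left ≫ q₂.left = p₂.left ≫ h'.left := congrArg CommaMorphism.left e₂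
  have s1 : GorAt (p₁.left ≫ h.left) w := gorAt_precomp _ _ w (by rw [hw1]; exact hh)
  have s2 : GorAt h''.left w := gorAt_cancel _ q₁.left w (by rw [e₁']; exact s1)
  have s3 : GorAt (h''.left ≫ q₂.left) w := gorAt_postcomp _ _ w s2
  rw [e₂'] at s3
  have s4 := gorAt_descend _ _ w s3
  rwa [hw2] at s4

/-- Gorensteinness of `f` at `x` can be tested on any one chart diagram through `x`. -/
theorem locPAt_gorenstein_iff_of_chart (f : X ⟶ Y)
    {U V : Over S} (a : (yon S).obj U ⟶ X) (b : (yon S).obj V ⟶ Y) (h : U ⟶ V)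
    (ha : RepWith @Etale a) (hb : RepWith @Etale b)
    (comm : a ≫ f = (yon S).map h ≫ b) (u : U.left) :
    AlgSp.LocPAt (fun h u => Dual3.IsGorensteinAt h u) f (Points.ofPt a u) ↔
      Dual3.IsGorensteinAt h.left u := by
  constructor
  · intro H
    exact H a b h u ha hb comm rfl
  · intro hh U' V' a' b' h' u' ha' hb' comm' hu'
    rw [isGorensteinAt_iff_gorAt] at hh ⊢
    exact gorAt_transfer f a b h ha hb comm u hh a' b' h' ha' hb' comm' u' hu'.symm

end Groth.Agent.Lib.Helper33.GorAtEtale
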