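import Mathlib
import Groth.Agent.Lib.Helper33.GorAtEtale
import Groth.Agent.Lib.Helper31.AlgSpFibFlat4

/-!
# Noetherianity of fibre local rings of chart diagrams from locally Noetherian fibres
-/

set_option autoImplicit false
set_option maxHeartbeats 1600000
set_option backward.isDefEq.respectTransparency.types false
universe u
open CategoryTheory CategoryTheory.Limits AlgebraicGeometry TopologicalSpace

namespace Groth.Agent.Lib.Helper33.AlgSpFibNoeth

open IsLocalRing AlgSp Groth.Agent.Lib.Helper33.GorAtEtale Groth.Agent.Lib.Helper33.GorAtRing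
  Groth.Agent.Lib.Helper31.AlgSpFibFlat Groth.Agent.Lib.Helper52 Groth.Agent.Lib.Helper51

variable {S : Scheme.{u}} {X Z : AlgSp.Sp S}

/-- The fibre hypothesis of the milestone statements. -/
def FibNoeth (F : X ⟶ Z) : Prop :=
  ∀ (k : AlgSp.FieldPt Z) (Xk : AlgSp.Sp S) (p : Xk ⟶ X) (q : Xk ⟶ (AlgSp.yon S).obj k.pt),
    IsPullback p q F k.toHom → AlgSp.IsLocNoethSp Xk

/-- Special charts: `U' = U ×_Z W`.  The scheme-theoretic fibres of `U' ⟶ W` are locally
Noetherian. -/
theorem isLocallyNoetherian_fiber_of_baseChange_chart (F : X ⟶ Z) (hF : FibNoeth F)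
    {U W U' : Over S} (a : (yon S).obj U ⟶ X) (c : (yon S).obj W ⟶ Z) (ha : RepWith @Etale a)
    (p₁ : U' ⟶ U) (p₂ : U' ⟶ W)
    (sqU : IsPullback ((yon S).map p₁) ((yon S).map p₂) (a ≫ F) c) (w : W.left) :
    IsLocallyNoetherian (p₂.left.fiber w) := by
  set T : Over S := ptOver W w with hT
  set ιw : T ⟶ W := ptι W w with hιw
  let kpt : AlgSp.FieldPt Z := AlgSp.FieldPt.ofPt c w
  have hz : kpt.toHom = (yon S).map ιw ≫ c := AlgSp.FieldPt.toHom_ofPt c w
  set Uw : Over S := fibOver p₂ w with hUw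
  set iU : Uw ⟶ U' := fibι p₂ w with hiU
  set tU : Uw ⟶ T := fibπ p₂ w with htU
  have sqFU : IsPullback iU tU p₂ ιw := isPullback_fib p₂ w
  have hX : IsPullback (pullback.fst F kpt.toHom) (pullback.snd F kpt.toHom) F kpt.toHom :=
    IsPullback.of_hasPullback _ _
  set Xz := pullback F kpt.toHom with hXz
  set pX : Xz ⟶ X := pullback.fst F kpt.toHom with hpX
  set qX : Xz ⟶ (yon S).obj kpt.pt := pullback.snd F kpt.toHom with hqX
  have hac : ((yon S).map iU ≫ (yon S).map p₁ ≫ a) ≫ F = (yon S).map tU ≫ kpt.toHom := by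
    calc ((yon S).map iU ≫ (yon S).map p₁ ≫ a) ≫ F
        = (yon S).map iU ≫ ((yon S).map p₁ ≫ a ≫ F) := by simp only [Category.assoc]
      _ = (yon S).map iU ≫ ((yon S).map p₂ ≫ c) := by rw [sqU.w]
      _ = (yon S).map (iU ≫ p₂) ≫ c := by rw [Functor.map_comp, Category.assoc]
      _ = (yon S).map (tU ≫ ιw) ≫ c := by rw [sqFU.w]
      _ = (yon S).map tU ≫ kpt.toHom := by rw [Functor.map_comp, Category.assoc, hz]
  set a'' : (yon S).obj Uw ⟶ Xz := hX.lift ((yon S).map iU ≫ (yon S).map p₁ ≫ a) ((yon S).map tU) hac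
    with ha''
  have ha1 : a'' ≫ pX = (yon S).map iU ≫ (yon S).map p₁ ≫ a := hX.lift_fst _ _ _
  have ha2 : a'' ≫ qX = (yon S).map tU := hX.lift_snd _ _ _
  have sqa : IsPullback a'' ((yon S).map iU ≫ (yon S).map p₁) pX a := by
    refine IsPullback.of_right ?_ (by rw [ha1, Category.assoc]) hX.flip
    rw [ha2]
    have top : IsPullback ((yon S).map tU) ((yon S).map iU) ((yon S).map ιw) ((yon S).map p₂) :=
      sqFU.flip.map (yon S)
    have := top.paste_vert sqU.flip
    rw [hz]
    exact this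
  haveI hstab : (RepWith (S := S) @Etale).IsStableUnderBaseChange :=
    AlgSp.repWith_isStableUnderBaseChange _
  have ha''e : RepWith @Etale a'' :=
    MorphismProperty.of_isPullback (P := RepWith (S := S) @Etale) sqa.flip ha
  have hN : AlgSp.IsLocNoethSp Xz := hF kpt Xz pX qX hX
  exact isLocallyNoetherian_of_etale_chart hN a'' ha''e

/-- The fibre local ring of any chart diagram is Noetherian. -/
theorem isNoetherianRing_fibre_of_chart (F : X ⟶ Z) (hF : FibNoeth F)
    {U W : Over S} (a : (yon S).obj U ⟶ X) (c : (yon S).obj W ⟶ Z) (m : U ⟶ W)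
    (ha : RepWith @Etale a) (hc : RepWith @Etale c) (comm : a ≫ F = (yon S).map m ≫ c)
    (u : U.left) : IsNoetherianRing (U.left.presheaf.stalk u ⧸ fibIdeal m.left u) := by
  have sqU := (hc.rep.isPullback' (a ≫ F)).flip
  set U' : Over S := hc.rep.pullback (a ≫ F) with hU'
  set p₁ : U' ⟶ U := hc.rep.snd (a ≫ F) with hp₁
  set p₂ : U' ⟶ W := hc.rep.fst' (a ≫ F) with hp₂
  haveI hp₁e : Etale p₁.left := hc.property _ _ _ sqU.flip
  obtain ⟨σ, hσ⟩ := (yon S).map_surjective
    (sqU.lift (𝟙 _) ((yon S).map m) (by rw [Category.id_comp]; exact comm))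
  have hσ1 : σ ≫ p₁ = 𝟙 U := (yon S).map_injective (by
    rw [Functor.map_comp, hσ, (yon S).map_id U]; exact sqU.lift_fst _ _ _)
  have hσ2 : σ ≫ p₂ = m := (yon S).map_injective (by
    rw [Functor.map_comp, hσ]; exact sqU.lift_snd _ _ _)
  have hσ1' : σ.left ≫ p₁.left = 𝟙 U.left := congrArg CommaMorphism.left hσ1
  have hσ2' : σ.left ≫ p₂.left = m.left := congrArg CommaMorphism.left hσ2
  haveI hσe : Etale σ.left := by
    refine MorphismProperty.of_postcomp (W := @Etale) (W' := @Etale) σ.left p₁.left inferInstance ?_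
    rw [hσ1']; infer_instance
  set u' := σ.left.base u with hu'
  haveI : IsLocallyNoetherian (p₂.left.fiber (p₂.left.base u')) :=
    isLocallyNoetherian_fiber_of_baseChange_chart F hF a c ha p₁ p₂ sqU _
  obtain ⟨π, hπ, hker⟩ := Groth.Agent.Lib.Helper33.GorComp.exists_fibre_proj p₂.left u'
  haveI : IsNoetherianRing (U'.left.presheaf.stalk u' ⧸ fibIdeal p₂.left u') := by
    let e : (_ ⧸ fibIdeal p₂.left u') ≃+*
        (p₂.left.fiber (p₂.left.base u')).presheaf.stalk (p₂.left.asFiber u') :=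
      (Ideal.quotEquivOfEq hker.symm).trans (RingHom.quotientKerEquivOfSurjective hπ)
    exact isNoetherianRing_of_ringEquiv _ e.symm
  letI : Algebra (U'.left.presheaf.stalk u') (U.left.presheaf.stalk u) :=
    (σ.left.stalkMap u).hom.toAlgebra
  haveI : Algebra.EssFiniteType (U'.left.presheaf.stalk u') (U.left.presheaf.stalk u) :=
    LocallyOfFiniteType.stalkMap (f := σ.left) u
  haveI : IsLocalHom (algebraMap (U'.left.presheaf.stalk u') (U.left.presheaf.stalk u)) :=
    inferInstanceAs (IsLocalHom (σ.left.stalkMap u).hom)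
  haveI : Module.Flat (U'.left.presheaf.stalk u') (U.left.presheaf.stalk u) :=
    AlgebraicGeometry.Flat.stalkMap σ.left u
  have h1 : IsNoetherianRing (U.left.presheaf.stalk u ⧸ (fibIdeal p₂.left u').map
      (algebraMap (U'.left.presheaf.stalk u') (U.left.presheaf.stalk u))) :=
    isNoetherianRing_map_of_quot _
  have h2 : fibIdeal (σ.left ≫ p₂.left) u = (fibIdeal p₂.left u').map (σ.left.stalkMap u).hom :=
    fibIdeal_comp_source σ.left p₂.left u
  have h3 : IsNoetherianRing (U.left.presheaf.stalk u ⧸ fibIdeal (σ.left ≫ p₂.left) u) :=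
    isNoetherianRing_of_ringEquiv _ (Ideal.quotEquivOfEq h2.symm)
  rw [hσ2'] at h3
  exact h3

end Groth.Agent.Lib.Helper33.AlgSpFibNoeth
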