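import Mathlib
import Groth.Agent.Lib.Helper33.AlgSpFibNoeth

/-!
# Charts of the fibres of a morphism of sheaves obtained from base-change charts
-/

set_option autoImplicit false
set_option maxHeartbeats 1600000
set_option backward.isDefEq.respectTransparency.types false
universe u
open CategoryTheory CategoryTheory.Limits AlgebraicGeometry TopologicalSpace

namespace Groth.Agent.Lib.Helper33.AlgSpFibChart

open IsLocalRing AlgSp Groth.Agent.Lib.Helper33.GorAtEtale Groth.Agent.Lib.Helper33.GorAtRing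
  Groth.Agent.Lib.Helper31.AlgSpFibFlat Groth.Agent.Lib.Helper52 Groth.Agent.Lib.Helper51

variable {S : Scheme.{u}} {X Z : AlgSp.Sp S}

/-- For a base-change chart `U' = U ×_Z W` and any fibre `Xz` of `F` over the residue field point
of `w ∈ W`, the scheme-theoretic fibre of `U' ⟶ W` over `w` is `U ×_X Xz`. -/
theorem exists_fibre_chart (F : X ⟶ Z)
    {U W U' : Over S} (a : (yon S).obj U ⟶ X) (c : (yon S).obj W ⟶ Z)
    (p₁ : U' ⟶ U) (p₂ : U' ⟶ W)
    (sqU : IsPullback ((yon S).map p₁) ((yon S).map p₂) (a ≫ F) c) (w : W.left)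
    {Xz : AlgSp.Sp S} (pX : Xz ⟶ X) (qX : Xz ⟶ (yon S).obj (ptOver W w))
    (hX : IsPullback pX qX F ((yon S).map (ptι W w) ≫ c)) :
    ∃ a'' : (yon S).obj (fibOver p₂ w) ⟶ Xz,
      IsPullback a'' ((yon S).map (fibι p₂ w) ≫ (yon S).map p₁) pX a := by
  set Uw : Over S := fibOver p₂ w with hUw
  set iU : Uw ⟶ U' := fibι p₂ w with hiU
  set tU : Uw ⟶ ptOver W w := fibπ p₂ w with htU
  have sqFU : IsPullback iU tU p₂ (ptι W w) := isPullback_fib p₂ w
  have hac : ((yon S).map iU ≫ (yon S).map p₁ ≫ a) ≫ F = (yon S).map tU ≫ (yon S).map (ptι W w) ≫ c := by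
    calc ((yon S).map iU ≫ (yon S).map p₁ ≫ a) ≫ F
        = (yon S).map iU ≫ ((yon S).map p₁ ≫ a ≫ F) := by simp only [Category.assoc]
      _ = (yon S).map iU ≫ ((yon S).map p₂ ≫ c) := by rw [sqU.w]
      _ = (yon S).map (iU ≫ p₂) ≫ c := by rw [Functor.map_comp, Category.assoc]
      _ = (yon S).map (tU ≫ (ptι W w)) ≫ c := by rw [sqFU.w]
      _ = (yon S).map tU ≫ (yon S).map (ptι W w) ≫ c := by rw [Functor.map_comp, Category.assoc]
  set a'' : (yon S).obj Uw ⟶ Xz := hX.lift ((yon S).map iU ≫ (yon S).map p₁ ≫ a) ((yon S).map tU) hac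
    with ha''
  have ha1 : a'' ≫ pX = (yon S).map iU ≫ (yon S).map p₁ ≫ a := hX.lift_fst _ _ _
  have ha2 : a'' ≫ qX = (yon S).map tU := hX.lift_snd _ _ _
  refine ⟨a'', ?_⟩
  refine IsPullback.of_right ?_ (by rw [ha1, Category.assoc]) hX.flip
  rw [ha2]
  have top : IsPullback ((yon S).map tU) ((yon S).map iU) ((yon S).map (ptι W w)) ((yon S).map p₂) :=
    sqFU.flip.map (yon S)
  exact top.paste_vert sqU.flip

end Groth.Agent.Lib.Helper33.AlgSpFibChart
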