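import Mathlib
import Groth.Agent.Lib.Helper33.AlgSpFibChart
import Groth.Agent.Lib.Helper33.FibreBC

/-!
# Chart cubes for a pullback square of algebraic spaces
-/

set_option autoImplicit false
set_option maxHeartbeats 1600000
set_option backward.isDefEq.respectTransparency.types false
universe u
open CategoryTheory CategoryTheory.Limits AlgebraicGeometry TopologicalSpace

namespace Groth.Agent.Lib.Helper33.AlgSpBCChart

open IsLocalRing AlgSp Groth.Agent.Lib.Helper33.GorAtEtale Groth.Agent.Lib.Helper33.GorAtRing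
  Groth.Agent.Lib.Helper31.AlgSpFibFlat Groth.Agent.Lib.Helper52 Groth.Agent.Lib.Helper51

variable {S : Scheme.{u}}

/-- The base-change chart `U' = U₁ ×_Y V` of an atlas `U₁` of `X` along an étale `b : h_V ⟶ Y`. -/
theorem chart_setup {X Y : AlgSp.Space S} (f : X ⟶ Y)
    (V : Over S) (b : (AlgSp.yon S).obj V ⟶ Y.obj) (hb : AlgSp.RepWith @Etale b) :
    ∃ (U₁ U' : Over S) (a₁ : (AlgSp.yon S).obj U₁ ⟶ X.obj) (p₁ : U' ⟶ U₁) (p₂ : U' ⟶ V),
      AlgSp.RepWith @Etale a₁ ∧ AlgSp.RepWith @Surjective a₁ ∧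
      IsPullback ((AlgSp.yon S).map p₁) ((AlgSp.yon S).map p₂) (a₁ ≫ f.hom) b ∧
      AlgSp.RepWith @Etale ((AlgSp.yon S).map p₁ ≫ a₁) ∧
      ((AlgSp.yon S).map p₁ ≫ a₁) ≫ f.hom = (AlgSp.yon S).map p₂ ≫ b ∧
      (AlgSp.RepWith @Surjective b → AlgSp.RepWith @Surjective ((AlgSp.yon S).map p₁ ≫ a₁)) := by
  haveI hstabE : (AlgSp.RepWith (S := S) @Etale).IsStableUnderBaseChange :=
    AlgSp.repWith_isStableUnderBaseChange _
  haveI hstabS : (AlgSp.RepWith (S := S) @Surjective).IsStableUnderBaseChange :=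
    AlgSp.repWith_isStableUnderBaseChange _
  obtain ⟨U₁, a₁, ha₁, ha₁s⟩ := X.property.atlas
  have sqU := (hb.rep.isPullback' (a₁ ≫ f.hom)).flip
  have hp₁e : Etale (hb.rep.snd (a₁ ≫ f.hom)).left := hb.property _ _ _ sqU.flip
  refine ⟨U₁, _, a₁, hb.rep.snd (a₁ ≫ f.hom), hb.rep.fst' (a₁ ≫ f.hom), ha₁, ha₁s, sqU, ?_, ?_, ?_⟩
  · exact (AlgSp.RepWith (S := S) @Etale).comp_mem _ _ ((AlgSp.repWith_yon_map_iff _ _).2 hp₁e) ha₁
  · rw [Category.assoc]; exact sqU.w
  · intro hbs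
    have hp₁s : Surjective (hb.rep.snd (a₁ ≫ f.hom)).left := hbs.property _ _ _ sqU.flip
    exact (AlgSp.RepWith (S := S) @Surjective).comp_mem _ _
      ((AlgSp.repWith_yon_map_iff _ _).2 hp₁s) ha₁s

/-- The scheme-theoretic fibres of a base-change chart of a morphism with locally Noetherian fibres
are locally Noetherian. -/
theorem isLocallyNoetherian_fiber_of_chart {X Y : AlgSp.Space S} (f : X ⟶ Y)
    (hf : ∀ (k : AlgSp.FieldPt Y.obj) (Xk : AlgSp.Sp S) (a : Xk ⟶ X.obj)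
        (b : Xk ⟶ (AlgSp.yon S).obj k.pt),
        IsPullback a b f.hom k.toHom → AlgSp.IsLocNoethSp Xk)
    {U₁ U' V : Over S} (a₁ : (AlgSp.yon S).obj U₁ ⟶ X.obj) (b : (AlgSp.yon S).obj V ⟶ Y.obj)
    (p₁ : U' ⟶ U₁) (p₂ : U' ⟶ V) (ha₁ : AlgSp.RepWith @Etale a₁)
    (sqU : IsPullback ((AlgSp.yon S).map p₁) ((AlgSp.yon S).map p₂) (a₁ ≫ f.hom) b) (v : V.left) :
    IsLocallyNoetherian (p₂.left.fiber v) := by
  haveI hstabE : (AlgSp.RepWith (S := S) @Etale).IsStableUnderBaseChange :=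
    AlgSp.repWith_isStableUnderBaseChange _
  have hX : IsPullback (pullback.fst f.hom ((AlgSp.yon S).map (ptι V v) ≫ b))
      (pullback.snd f.hom _) f.hom _ := IsPullback.of_hasPullback _ _
  obtain ⟨a'', sqa⟩ := Groth.Agent.Lib.Helper33.AlgSpFibChart.exists_fibre_chart f.hom a₁ b
    p₁ p₂ sqU v _ _ hX
  have ha''e : AlgSp.RepWith @Etale a'' :=
    MorphismProperty.of_isPullback (P := AlgSp.RepWith (S := S) @Etale) sqa.flip ha₁
  have hN : AlgSp.IsLocNoethSp (pullback f.hom ((AlgSp.yon S).map (ptι V v) ≫ b)) := by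
    refine hf (AlgSp.FieldPt.ofPt b v) _ (pullback.fst f.hom _) (pullback.snd f.hom _) ?_
    rw [AlgSp.FieldPt.toHom_ofPt]
    exact hX
  exact Groth.Agent.Lib.Helper31.AlgSpFibFlat.isLocallyNoetherian_of_etale_chart hN a'' ha''e

/-- The chart cube: for a pullback square `X' = X ×_Y Y'` of sheaves, a base-change chart
`U = U₀ ×_Y V` of `f`, and a chart `(c, k)` of `g` over `b`, the scheme `U' = U ×_V V'` is an
étale chart of `X'`. -/
theorem exists_cube {X Y X' Y' : AlgSp.Sp S} (f : X ⟶ Y) (g : Y' ⟶ Y) (g' : X' ⟶ X) (f' : X' ⟶ Y')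
    (hsq : IsPullback g' f' f g)
    {U₀ U V V' : Over S} (a₀ : (yon S).obj U₀ ⟶ X) (b : (yon S).obj V ⟶ Y)
    (c : (yon S).obj V' ⟶ Y')
    (p₁ : U ⟶ U₀) (h : U ⟶ V) (k : V' ⟶ V)
    (sqU : IsPullback ((yon S).map p₁) ((yon S).map h) (a₀ ≫ f) b)
    (hck : c ≫ g = (yon S).map k ≫ b)
    (ha₀ : RepWith @Etale a₀) (hc : RepWith @Etale c) :
    ∃ (U' : Over S) (q₁ : U' ⟶ U) (h' : U' ⟶ V') (a' : (yon S).obj U' ⟶ X'),
      IsPullback q₁.left h'.left h.left k.left ∧
      a' ≫ g' = (yon S).map q₁ ≫ (yon S).map p₁ ≫ a₀ ∧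
      a' ≫ f' = (yon S).map h' ≫ c ∧
      RepWith @Etale a' ∧
      (RepWith @Surjective a₀ → RepWith @Surjective c → RepWith @Surjective a') := by
  haveI hstabE : (AlgSp.RepWith (S := S) @Etale).IsStableUnderBaseChange :=
    AlgSp.repWith_isStableUnderBaseChange _
  haveI hstabS : (AlgSp.RepWith (S := S) @Surjective).IsStableUnderBaseChange :=
    AlgSp.repWith_isStableUnderBaseChange _
  -- the scheme pullback
  have hw : pullback.fst h.left k.left ≫ U.hom = pullback.snd h.left k.left ≫ V'.hom := by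
    rw [← Over.w h, ← Over.w k, ← Category.assoc, ← Category.assoc, pullback.condition]
  let U' : Over S := Over.mk (pullback.fst h.left k.left ≫ U.hom)
  let q₁ : U' ⟶ U := Over.homMk (pullback.fst h.left k.left) rfl
  let h' : U' ⟶ V' := Over.homMk (pullback.snd h.left k.left) hw.symm
  have sqS : IsPullback q₁.left h'.left h.left k.left := IsPullback.of_hasPullback h.left k.left
  have sqO : IsPullback q₁ h' h k := IsPullback.of_map_of_faithful (Over.forget S) sqS
  have sqV : IsPullback ((yon S).map q₁) ((yon S).map h') ((yon S).map h) ((yon S).map k) :=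
    sqO.map (yon S)
  have big : IsPullback ((yon S).map q₁ ≫ (yon S).map p₁) ((yon S).map h') (a₀ ≫ f)
      ((yon S).map k ≫ b) := sqV.paste_horiz sqU
  -- the pullback of `c` along `f'`
  have sqP : IsPullback (pullback.fst f' c) (pullback.snd f' c) f' c := IsPullback.of_hasPullback _ _
  have B : IsPullback (pullback.fst f' c ≫ g') (pullback.snd f' c) f (c ≫ g) :=
    sqP.paste_horiz hsq
  have hcomm : (((yon S).map q₁ ≫ (yon S).map p₁) ≫ a₀) ≫ f = (yon S).map h' ≫ c ≫ g := by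
    rw [hck, Category.assoc, big.w]
  let e : (yon S).obj U' ⟶ pullback f' c := B.lift (((yon S).map q₁ ≫ (yon S).map p₁) ≫ a₀)
    ((yon S).map h') hcomm
  have he1 : e ≫ pullback.fst f' c ≫ g' = ((yon S).map q₁ ≫ (yon S).map p₁) ≫ a₀ :=
    B.lift_fst _ _ _
  have he2 : e ≫ pullback.snd f' c = (yon S).map h' := B.lift_snd _ _ _
  have A : IsPullback ((yon S).map q₁ ≫ (yon S).map p₁) e a₀ (pullback.fst f' c ≫ g') := by
    refine IsPullback.of_bot ?_ he1.symm B
    rw [he2, hck]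
    exact big
  have hee : RepWith @Etale e :=
    MorphismProperty.of_isPullback (P := AlgSp.RepWith (S := S) @Etale) A ha₀
  have hπe : RepWith @Etale (pullback.fst f' c) :=
    MorphismProperty.of_isPullback (P := AlgSp.RepWith (S := S) @Etale) sqP.flip hc
  refine ⟨U', q₁, h', e ≫ pullback.fst f' c, sqS, ?_, ?_, ?_, ?_⟩
  · rw [Category.assoc, he1, Category.assoc]
  · rw [Category.assoc, sqP.w, ← Category.assoc, he2]
  · exact (AlgSp.RepWith (S := S) @Etale).comp_mem _ _ hee hπe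
  · intro ha₀s hcs
    have hes : RepWith @Surjective e :=
      MorphismProperty.of_isPullback (P := AlgSp.RepWith (S := S) @Surjective) A ha₀s
    have hπs : RepWith @Surjective (pullback.fst f' c) :=
      MorphismProperty.of_isPullback (P := AlgSp.RepWith (S := S) @Surjective) sqP.flip hcs
    exact (AlgSp.RepWith (S := S) @Surjective).comp_mem _ _ hes hπs

end Groth.Agent.Lib.Helper33.AlgSpBCChart
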