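import Mathlib

/-!
# Base change of a finite presentation along a ring homomorphism, and comparison of
minimal presentations over a local ring

* `T f M` : the carrier of `(ModuleCat.extendScalars f).obj (ModuleCat.of R M)`, with the unit
  `eta f M : M →ₛₗ[f] T f M` (`m ↦ 1 ⊗ m`), `lift`, `lift_eta`, `span_range_eta`.
* `exists_presentation_baseChange` : a presentation `π : R^r → M` whose relations have coordinates in
  `𝔯` induces a presentation `S^r → T f M` whose relations have coordinates in any ideal `𝔟 ⊇ f(𝔯)`.
* `ker_coord_mem_of_presentations` : over a local ring, if `π` is a minimal presentation and `π'` is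
  another presentation `R^r → M` whose relations have coordinates in `𝔟`, then so do those of `π`.
-/

set_option autoImplicit false
universe u

open CategoryTheory ModuleCat

namespace Groth.Agent.Lib.Helper33.BaseChangePres

section BaseChange

variable {R S : Type u} [CommRing R] [CommRing S] (f : R →+* S)
variable (M : Type u) [AddCommGroup M] [Module R M]

/-- the carrier of the base change -/
def T : Type u := ((ModuleCat.extendScalars f).obj (ModuleCat.of R M))

noncomputable instance : AddCommGroup (T f M) :=
  inferInstanceAs (AddCommGroup ((ModuleCat.extendScalars f).obj (ModuleCat.of R M)))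

noncomputable instance : Module S (T f M) :=
  inferInstanceAs (Module S ((ModuleCat.extendScalars f).obj (ModuleCat.of R M)))

/-- the unit `m ↦ 1 ⊗ m` as a semilinear map -/
noncomputable def eta : M →ₛₗ[f] T f M :=
  (semilinearMapAddEquiv f (ModuleCat.of R M)
    ((ModuleCat.extendScalars f).obj (ModuleCat.of R M))).symm
    ((extendRestrictScalarsAdj f).unit.app (ModuleCat.of R M))

variable {M}

/-- lift a semilinear map -/
noncomputable def lift {N : Type u} [AddCommGroup N] [Module S N] (g : M →ₛₗ[f] N) :
    T f M →ₗ[S] N :=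
  (((extendRestrictScalarsAdj f).homEquiv (ModuleCat.of R M) (ModuleCat.of S N)).symm
    (semilinearMapAddEquiv f (ModuleCat.of R M) (ModuleCat.of S N) g)).hom

theorem lift_eta {N : Type u} [AddCommGroup N] [Module S N] (g : M →ₛₗ[f] N) (m : M) :
    lift f g (eta f M m) = g m := by
  have h := ((extendRestrictScalarsAdj f).homEquiv (ModuleCat.of R M)
    (ModuleCat.of S N)).apply_symm_apply
    (semilinearMapAddEquiv f (ModuleCat.of R M) (ModuleCat.of S N) g)
  rw [Adjunction.homEquiv_unit] at h
  have h2 := congrArg
    (fun φ => (semilinearMapAddEquiv f (ModuleCat.of R M) (ModuleCat.of S N)).symm φ m) h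
  simp only [AddEquiv.symm_apply_apply] at h2
  rw [← h2]
  rfl

variable (M) in
theorem span_range_eta : Submodule.span S (Set.range (eta f M)) = ⊤ := by
  set W : Submodule S (T f M) := Submodule.span S (Set.range (eta f M)) with hW
  let q : (ModuleCat.extendScalars f).obj (ModuleCat.of R M) ⟶ ModuleCat.of S (T f M ⧸ W) :=
    ModuleCat.ofHom (X := T f M) W.mkQ
  have h0 : q = 0 := by
    apply ExtendScalars.hom_ext
    intro m
    have : eta f M m ∈ W := Submodule.subset_span ⟨m, rfl⟩
    have h1 : W.mkQ (eta f M m) = 0 := by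
      rw [Submodule.mkQ_apply, Submodule.Quotient.mk_eq_zero]; exact this
    exact h1
  have h1 : W.mkQ = 0 := by
    have := congrArg ModuleCat.Hom.hom h0
    exact this
  rw [← Submodule.ker_mkQ W, h1, LinearMap.ker_zero]

/-- Base change of a presentation. -/
theorem exists_presentation_baseChange {r : ℕ} (π : (Fin r → R) →ₗ[R] M)
    (hπ : Function.Surjective π) (𝔯 : Ideal R) (𝔟 : Ideal S)
    (hker : ∀ c ∈ LinearMap.ker π, ∀ i, c i ∈ 𝔯) (h𝔯𝔟 : ∀ a ∈ 𝔯, f a ∈ 𝔟) :
    ∃ π' : (Fin r → S) →ₗ[S] T f M, Function.Surjective π' ∧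
      ∀ c ∈ LinearMap.ker π', ∀ i, c i ∈ 𝔟 := by
  classical
  set x : Fin r → M := fun i => π (Pi.single i 1) with hx
  have hπa : ∀ a : Fin r → R, π a = ∑ i, a i • x i := by
    intro a
    conv_lhs => rw [← Finset.univ_sum_single a]
    rw [map_sum]
    refine Finset.sum_congr rfl fun i _ => ?_
    rw [hx, ← map_smul]
    congr 1
    ext j
    simp [Pi.single_apply]
  set π' : (Fin r → S) →ₗ[S] T f M := Fintype.linearCombination S (fun i => eta f M (x i))
    with hπ'
  refine ⟨π', ?_, ?_⟩
  · rw [← LinearMap.range_eq_top, hπ', Fintype.range_linearCombination, eq_top_iff,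
      ← span_range_eta f M, Submodule.span_le]
    rintro _ ⟨m, rfl⟩
    obtain ⟨a, rfl⟩ := hπ m
    rw [hπa, map_sum]
    refine Submodule.sum_mem _ fun i _ => ?_
    rw [map_smulₛₗ]
    exact Submodule.smul_mem _ _ (Submodule.subset_span ⟨i, rfl⟩)
  · -- the coordinate map
    let g' : (Fin r → R) →ₛₗ[f] (Fin r → S ⧸ 𝔟) :=
      { toFun := fun a i => Ideal.Quotient.mk 𝔟 (f (a i))
        map_add' := by
          intro a b
          ext i
          simp
        map_smul' := by
          intro t a
          ext i
          simp only [Pi.smul_apply, smul_eq_mul, map_mul]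
          rfl }
    have hg' : LinearMap.ker π ≤ LinearMap.ker g' := by
      intro c hc
      rw [LinearMap.mem_ker]
      ext i
      change Ideal.Quotient.mk 𝔟 (f (c i)) = 0
      rw [Ideal.Quotient.eq_zero_iff_mem]
      exact h𝔯𝔟 _ (hker c hc i)
    let g : M →ₛₗ[f] (Fin r → S ⧸ 𝔟) :=
      ((LinearMap.ker π).liftQ g' hg').comp
        ((π.quotKerEquivOfSurjective hπ).symm : M →ₗ[R] _)
    have hg : ∀ a, g (π a) = g' a := by
      intro a
      have : (π.quotKerEquivOfSurjective hπ).symm (π a) = Submodule.Quotient.mk a := by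
        rw [LinearEquiv.symm_apply_eq]
        rfl
      change ((LinearMap.ker π).liftQ g' hg') ((π.quotKerEquivOfSurjective hπ).symm (π a)) = _
      rw [this, Submodule.liftQ_apply]
    intro b hb j
    rw [LinearMap.mem_ker, hπ', Fintype.linearCombination_apply] at hb
    have h1 := congrArg (lift f g) hb
    rw [map_sum, map_zero] at h1
    have h2 : ∀ i, lift f g (b i • eta f M (x i)) = b i • (Pi.single i 1 : Fin r → S ⧸ 𝔟) := by
      intro i
      rw [map_smul, lift_eta, hx, hg]
      congr 1
      ext k
      change Ideal.Quotient.mk 𝔟 (f ((Pi.single i 1 : Fin r → R) k)) = _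
      by_cases hik : k = i
      · subst hik; simp
      · simp [Pi.single_apply, hik]
    simp only [h2] at h1
    have h3 := congrFun h1 j
    simp only [Finset.sum_apply, Pi.smul_apply, Pi.single_apply, Pi.zero_apply] at h3
    rw [Finset.sum_eq_single j] at h3
    · simp only [if_true] at h3
      rw [← Ideal.Quotient.eq_zero_iff_mem]
      have : b j • (1 : S ⧸ 𝔟) = Ideal.Quotient.mk 𝔟 (b j) := by
        rw [Algebra.smul_def, mul_one]; rfl
      rw [← this]; exact h3
    · intro i _ hij
      rw [if_neg (Ne.symm hij), smul_zero]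
    · intro h; exact absurd (Finset.mem_univ j) h

end BaseChange

section Local

variable {R : Type u} [CommRing R] [IsLocalRing R] {M : Type u} [AddCommGroup M] [Module R M]

open IsLocalRing

theorem mem_smul_top_of_coord {r : ℕ} (𝔟 : Ideal R) (b : Fin r → R) (hb : ∀ i, b i ∈ 𝔟) :
    b ∈ 𝔟 • (⊤ : Submodule R (Fin r → R)) := by
  classical
  rw [← Finset.univ_sum_single b]
  refine Submodule.sum_mem _ fun i _ => ?_
  have : (Pi.single i (b i) : Fin r → R) = b i • (Pi.single i 1 : Fin r → R) := by
    ext j
    simp [Pi.single_apply]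
  rw [this]
  exact Submodule.smul_mem_smul (hb i) trivial

theorem coord_mem_of_linearMap {r : ℕ} (𝔟 : Ideal R) (L : (Fin r → R) →ₗ[R] (Fin r → R))
    (b : Fin r → R) (hb : ∀ i, b i ∈ 𝔟) : ∀ j, L b j ∈ 𝔟 := by
  classical
  intro j
  have h1 : b = ∑ i, b i • (Pi.single i 1 : Fin r → R) := by
    conv_lhs => rw [← Finset.univ_sum_single b]
    refine Finset.sum_congr rfl fun i _ => ?_
    ext k
    simp [Pi.single_apply]
  rw [h1, map_sum, Finset.sum_apply]
  refine Ideal.sum_mem _ fun i _ => ?_
  rw [map_smul, Pi.smul_apply, smul_eq_mul]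
  exact Ideal.mul_mem_right _ _ (hb i)

theorem surjective_of_sub_coord_mem {r : ℕ} (E : (Fin r → R) →ₗ[R] (Fin r → R))
    (hE : ∀ y i, (y - E y) i ∈ maximalIdeal R) : Function.Bijective E := by
  have hsurj : Function.Surjective E := by
    rw [← LinearMap.range_eq_top, eq_top_iff]
    apply Submodule.le_of_le_smul_of_le_jacobson_bot (I := maximalIdeal R) Module.Finite.fg_top
    · rw [IsLocalRing.jacobson_eq_maximalIdeal ⊥ bot_ne_top]
    · intro y _
      have : y = E y + (y - E y) := by abel
      rw [this]
      exact Submodule.add_mem_sup (LinearMap.mem_range_self E y)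
        (mem_smul_top_of_coord _ _ (hE y))
  exact ⟨OrzechProperty.injective_of_surjective_endomorphism E hsurj, hsurj⟩

/-- Comparison of a minimal presentation with another presentation of the same rank. -/
theorem ker_coord_mem_of_presentations {r : ℕ} (π π' : (Fin r → R) →ₗ[R] M)
    (hπ : Function.Surjective π) (hπ' : Function.Surjective π')
    (hmin : ∀ c ∈ LinearMap.ker π, ∀ i, c i ∈ maximalIdeal R) (𝔟 : Ideal R)
    (h𝔟 : 𝔟 ≤ maximalIdeal R) (hker' : ∀ c ∈ LinearMap.ker π', ∀ i, c i ∈ 𝔟) :
    ∀ c ∈ LinearMap.ker π, ∀ i, c i ∈ 𝔟 := by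
  obtain ⟨V, hV⟩ := Module.projective_lifting_property π' π hπ'
  obtain ⟨W, hW⟩ := Module.projective_lifting_property π π' hπ
  have hV' : ∀ y, π' (V y) = π y := fun y => LinearMap.congr_fun hV y
  have hW' : ∀ y, π (W y) = π' y := fun y => LinearMap.congr_fun hW y
  have hWV := surjective_of_sub_coord_mem (W.comp V) (by
    intro y i
    apply hmin
    rw [LinearMap.mem_ker, map_sub, LinearMap.comp_apply, hW', hV', sub_self])
  have hVW := surjective_of_sub_coord_mem (V.comp W) (by
    intro y i
    apply h𝔟
    apply hker'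
    rw [LinearMap.mem_ker, map_sub, LinearMap.comp_apply, hV', hW', sub_self])
  have hVinj : Function.Injective V := by
    have := hWV.1
    rw [LinearMap.coe_comp] at this
    exact Function.Injective.of_comp this
  have hVsurj : Function.Surjective V := by
    have := hVW.2
    rw [LinearMap.coe_comp] at this
    exact Function.Surjective.of_comp this
  let Ve := LinearEquiv.ofBijective V ⟨hVinj, hVsurj⟩
  intro c hc
  have h1 : ∀ i, V c i ∈ 𝔟 := by
    apply hker'
    rw [LinearMap.mem_ker, hV']
    exact hc
  have h2 : c = Ve.symm (V c) := by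
    rw [LinearEquiv.eq_symm_apply]
    rfl
  rw [h2]
  exact coord_mem_of_linearMap 𝔟 Ve.symm.toLinearMap (V c) h1

end Local

end Groth.Agent.Lib.Helper33.BaseChangePres
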