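import Mathlib
import Groth.Agent.Lib.Helper33.CMLocusFT
import Groth.Agent.S2698
import Groth.Agent.S9152

/-!
# The Cohen–Macaulay locus of a finite type algebra over an Artinian ring is open
-/

set_option autoImplicit false
set_option maxHeartbeats 800000
universe u
open IsLocalRing

namespace Groth.Agent.Lib.Helper33.CMLocusArt

/-- The (CMU) condition for a finite type algebra over an Artinian ring. -/
theorem cmu_of_finiteType_artinian (A B : Type u) [CommRing A] [CommRing B] [IsArtinianRing A]
    [Algebra A B] [Algebra.FiniteType A B] (p : Ideal B) [p.IsPrime] :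
    ∃ U : Set (PrimeSpectrum (B ⧸ p)), IsOpen U ∧ U.Nonempty ∧
      ∀ q ∈ U, LocCoh.IsCohenMacaulayLocalRing (Localization.AtPrime q.asIdeal) := by
  haveI hmp : (p.comap (algebraMap A B)).IsPrime := Ideal.comap_isPrime _ _
  haveI hm : (p.comap (algebraMap A B)).IsMaximal := Ideal.IsPrime.isMaximal' inferInstance
  letI : Field (A ⧸ p.comap (algebraMap A B)) := Ideal.Quotient.field _
  haveI : Algebra.FiniteType A (B ⧸ p) :=
    Algebra.FiniteType.of_surjective (Ideal.Quotient.mkₐ A p) Ideal.Quotient.mk_surjective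
  haveI : Algebra.FiniteType (A ⧸ p.comap (algebraMap A B)) (B ⧸ p) :=
    Algebra.FiniteType.of_restrictScalars_finiteType A _ _
  have hopen := Groth.Agent.S9152.result (A ⧸ p.comap (algebraMap A B)) (B ⧸ p)
  refine ⟨_, hopen, ⟨⟨⊥, Ideal.isPrime_bot⟩, ?_⟩, fun q hq => hq⟩
  change LocCoh.IsCohenMacaulayLocalRing (Localization.AtPrime (⊥ : Ideal (B ⧸ p)))
  haveI : IsNoetherianRing (B ⧸ p) :=
    Algebra.FiniteType.isNoetherianRing (A ⧸ p.comap (algebraMap A B)) (B ⧸ p)
  haveI : IsNoetherianRing (Localization.AtPrime (⊥ : Ideal (B ⧸ p))) :=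
    IsLocalization.isNoetherianRing (⊥ : Ideal (B ⧸ p)).primeCompl _ inferInstance
  apply Groth.Agent.Lib.Helper33.CMLocusFT.cm_of_ringKrullDim_eq_zero
  rw [IsLocalization.AtPrime.ringKrullDim_eq_height (⊥ : Ideal (B ⧸ p))]
  have : (⊥ : Ideal (B ⧸ p)).height = 0 := by
    rw [Ideal.height_eq_zero_iff, IsDomain.minimalPrimes_eq_singleton_bot]
    exact Set.mem_singleton _
  rw [this]; rfl

/-- The Cohen–Macaulay locus of a finite type algebra over an Artinian ring is open. -/
theorem isOpen_cmLocus (A B : Type u) [CommRing A] [CommRing B] [IsArtinianRing A]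
    [Algebra A B] [Algebra.FiniteType A B] :
    IsOpen {q : PrimeSpectrum B |
      LocCoh.IsCohenMacaulayLocalRing (Localization.AtPrime q.asIdeal)} := by
  haveI : IsNoetherianRing B := Algebra.FiniteType.isNoetherianRing A B
  have hopen := (Groth.Agent.S2698.result B
    (fun p _ => cmu_of_finiteType_artinian A B p) B 0).1
  convert hopen using 1
  ext q
  simp only [Set.mem_ofPred_eq]
  have hnt : Nontrivial (LocalizedModule q.asIdeal.primeCompl B) :=
    (Groth.Agent.Lib.Helper49.Serre.localizedModuleSelfEquiv q.asIdeal).toEquiv.nontrivial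
  have hle := Groth.Agent.Lib.Helper29.DepthLib.depth_le_supportDim
    (Localization.AtPrime q.asIdeal) (LocalizedModule q.asIdeal.primeCompl B)
  have hcongr := Groth.Agent.Lib.Helper29.CMLib.isCohenMacaulayModule_congr
    (Groth.Agent.Lib.Helper49.Serre.localizedModuleSelfEquiv q.asIdeal)
  constructor
  · intro h
    have h1 : LocCoh.IsCohenMacaulayModule (Localization.AtPrime q.asIdeal)
        (LocalizedModule q.asIdeal.primeCompl B) := hcongr.mpr h.supportDim_eq_depth
    rw [Nat.cast_zero, add_zero]
    exact le_of_eq h1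
  · intro h
    rw [Nat.cast_zero, add_zero] at h
    have h1 : LocCoh.IsCohenMacaulayModule (Localization.AtPrime q.asIdeal)
        (LocalizedModule q.asIdeal.primeCompl B) := le_antisymm h hle
    exact LocCoh.IsCohenMacaulayLocalRing.mk (hcongr.mp h1)

end Groth.Agent.Lib.Helper33.CMLocusArt
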