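import Mathlib
import Groth.Prelude.Def_IntMult
import Groth.Agent.Lib.Helper46.TorRegular
import Groth.Agent.Lib.Helper46.TorPrime
import Groth.Agent.Lib.Helper46.TorLinear

/-!
# `χ(A/J, A/(l))` for a sequence `l` regular on both `A` and `A/J` (helper33)

* `tensorQuotEquiv J K : (A/J) ⊗ (A/K) ≃ₗ A/(J ⊔ K)`.
* `isZero_tor_of_regular_both`: `l` weakly regular on `A` and on `M` ⇒ `Torᵢ(A/(l), M) = 0` for `i ≥ 1`.
* `chi_of_regular_both`: then `IntMult.chi A (A/J) (A/(l)) = length (A/(J ⊔ (l)))`.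
-/

set_option autoImplicit false
universe u
open CategoryTheory CategoryTheory.Limits
attribute [local instance] HasDerivedCategory.standard

namespace Groth.Agent.Lib.Helper33.ChiRegular

open Groth.Agent.Lib.Helper46 Groth.Agent.Lib.Helper46.TorShift Groth.Agent.Lib.Helper46.TorRegular
open RingTheory.Sequence

/-- `(A/J) ⊗ (A/K) ≃ A/(J ⊔ K)`. -/
noncomputable def tensorQuotEquiv {A : Type u} [CommRing A] (J K : Ideal A) :
    TensorProduct A (A ⧸ J) (A ⧸ K) ≃ₗ[A] (A ⧸ (J ⊔ K)) := by
  refine (TensorProduct.quotTensorEquivQuotSMul (A ⧸ K) J) ≪≫ₗ ?_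
  have h : (J • (⊤ : Submodule A (A ⧸ K))) = Submodule.map (Submodule.mkQ K) J := by
    have h1 : (⊤ : Submodule A (A ⧸ K)) = Submodule.map (Submodule.mkQ K) ⊤ := by
      rw [Submodule.map_top, Submodule.range_mkQ]
    rw [h1, ← Submodule.map_smul'']
    congr 1
    exact Ideal.mul_top J
  refine (Submodule.quotEquivOfEq _ _ h) ≪≫ₗ ?_
  refine (Submodule.quotientQuotientEquivQuotientSup K J) ≪≫ₗ ?_
  exact Submodule.quotEquivOfEq _ _ (sup_comm _ _)

theorem isZero_tor_of_regular_both {A : Type u} [CommRing A] (M : Type u) [AddCommGroup M]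
    [Module A M] (l : List A) (hA : IsWeaklyRegular A l) (hM : IsWeaklyRegular M l) :
    ∀ i, 1 ≤ i → IsZero (T A i (A ⧸ Ideal.ofList l) M) := by
  induction l using List.reverseRecOn with
  | nil =>
    have e : (A ⧸ Ideal.ofList ([] : List A)) ≃ₗ[A] A :=
      Submodule.quotEquivOfEqBot _ Ideal.ofList_nil
    intro i hi
    obtain ⟨k, rfl⟩ : ∃ k, i = k + 1 := ⟨i - 1, by omega⟩
    exact isZero_congr e.symm (LinearEquiv.refl A M) (k + 1) (isZero_of_flat_left A M k)
  | append_singleton l r ih =>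
    have hreg := isSMulRegular_quot_of_snoc A l r hA
    have hA' := ((isWeaklyRegular_append_iff A l [r]).mp hA).1
    have hM' := (isWeaklyRegular_append_iff M l [r]).mp hM
    have h := ih hA' hM'.1
    have hex := exact_quot_snoc A l r
    have hπ : Function.Surjective (Submodule.factor (ofList_le_snoc A l r)) :=
      Submodule.factor_surjective _
    have hr0 : IsSMulRegular (M ⧸ (Ideal.ofList l • ⊤ : Submodule A M)) r :=
      (isWeaklyRegular_singleton_iff _ r).mp hM'.2
    have hr : IsSMulRegular (TensorProduct A (A ⧸ Ideal.ofList l) M) r :=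
      ((TensorProduct.quotTensorEquivQuotSMul M (Ideal.ofList l)).isSMulRegular_congr r).mpr hr0
    exact TorLinear.isZero_tor_quot_of_regular r _ hreg hex hπ h hr

theorem chi_of_regular_both {A : Type u} [CommRing A] (J : Ideal A) (l : List A)
    (hA : IsWeaklyRegular A l) (hM : IsWeaklyRegular (A ⧸ J) l) :
    IntMult.chi A (A ⧸ J) (A ⧸ Ideal.ofList l) =
      (Module.length A (A ⧸ (J ⊔ Ideal.ofList l))).toNat := by
  unfold IntMult.chi
  rw [finsum_eq_single _ 0]
  · simp only [pow_zero, one_mul]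
    congr 2
    exact LinearEquiv.length_eq
      ((torZeroEquiv (A ⧸ J) (A ⧸ Ideal.ofList l)) ≪≫ₗ tensorQuotEquiv J _)
  · intro i hi
    have hz := isZero_tor_of_regular_both (A ⧸ J) l hA hM i (Nat.one_le_iff_ne_zero.mpr hi)
    have hz' : IsZero (T A i (A ⧸ J) (A ⧸ Ideal.ofList l)) :=
      hz.of_iso (TorPrime.torSymm _ _ i)
    haveI : Subsingleton (DRing.Tor A i (A ⧸ J) (A ⧸ Ideal.ofList l)) :=
      ModuleCat.subsingleton_of_isZero hz'
    rw [Module.length_eq_zero]
    simp

end Groth.Agent.Lib.Helper33.ChiRegular
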