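import Mathlib
import Groth.Prelude.Def_IntMult
import Groth.Agent.Lib.Helper46.TorPrime

/-!
# Symmetry of `IntMult.chi`, and small quotient lemmas (helper33)
-/

set_option autoImplicit false
universe u
open CategoryTheory CategoryTheory.Limits
attribute [local instance] HasDerivedCategory.standard

namespace Groth.Agent.Lib.Helper33.ChiSymm

open Groth.Agent.Lib.Helper46

/-- `(A/J)/(K • ⊤) ≃ A/(J ⊔ K)`. -/
noncomputable def quotSMulTopEquiv {A : Type u} [CommRing A] (J K : Ideal A) :
    ((A ⧸ J) ⧸ (K • (⊤ : Submodule A (A ⧸ J)))) ≃ₗ[A] (A ⧸ (J ⊔ K)) := by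
  have h : (K • (⊤ : Submodule A (A ⧸ J))) = Submodule.map (Submodule.mkQ J) K := by
    have h1 : (⊤ : Submodule A (A ⧸ J)) = Submodule.map (Submodule.mkQ J) ⊤ := by
      rw [Submodule.map_top, Submodule.range_mkQ]
    rw [h1, ← Submodule.map_smul'']
    congr 1
    exact Ideal.mul_top K
  exact (Submodule.quotEquivOfEq _ _ h) ≪≫ₗ (Submodule.quotientQuotientEquivQuotientSup J K)

theorem chi_symm {A : Type u} [CommRing A] (M N : Type u) [AddCommGroup M] [Module A M]
    [AddCommGroup N] [Module A N] : IntMult.chi A M N = IntMult.chi A N M := by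
  unfold IntMult.chi
  apply finsum_congr
  intro i
  congr 3
  exact LinearEquiv.length_eq
    (TorPrime.torSymm (ModuleCat.of A M) (ModuleCat.of A N) i).toLinearEquiv

/-- if the only prime containing `K` is the maximal ideal, `A/K` has dimension `≤ 0`. -/
theorem ringKrullDim_quotient_le_zero {A : Type u} [CommRing A] [IsLocalRing A] (K : Ideal A)
    (h : ∀ Q : Ideal A, Q.IsPrime → K ≤ Q → Q = IsLocalRing.maximalIdeal A) :
    ringKrullDim (A ⧸ K) ≤ 0 := by
  rw [show (0 : WithBot ℕ∞) = ((0 : ℕ) : WithBot ℕ∞) from rfl, ← Ring.krullDimLE_iff,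
    Ring.krullDimLE_zero_iff]
  intro P hP
  have hπ : Function.Surjective (Ideal.Quotient.mk K) := Ideal.Quotient.mk_surjective
  have hQ : (P.comap (Ideal.Quotient.mk K)).IsPrime := hP.comap _
  have hKQ : K ≤ P.comap (Ideal.Quotient.mk K) := by
    intro a ha
    rw [Ideal.mem_comap, Ideal.Quotient.eq_zero_iff_mem.mpr ha]
    exact P.zero_mem
  have hQm := h _ hQ hKQ
  have hP' : P = (IsLocalRing.maximalIdeal A).map (Ideal.Quotient.mk K) := by
    rw [← hQm, Ideal.map_comap_of_surjective _ hπ]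
  rcases Ideal.map_eq_top_or_isMaximal_of_surjective _ hπ
    (IsLocalRing.maximalIdeal.isMaximal A) with h | h
  · exact absurd (hP'.trans h) hP.ne_top
  · rw [hP']; exact h

end Groth.Agent.Lib.Helper33.ChiSymm
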