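import Mathlib
import Groth.Agent.Lib.Helper46.TorLES

/-!
# Vanishing of `Tor` above the projective dimension of the first variable (helper33)

`isZero_tor_of_hasProjectiveDimensionLT`: if `pd M ≤ d` then `Tor_p(M, N) = 0` for `p > d`
(Mathlib's `Tor`, derived in the second variable; dimension shifting in the first variable with
helper46's long exact sequence).
-/

set_option autoImplicit false
universe u

namespace Groth.Agent.Lib.Helper33.TorPd

open CategoryTheory Limits Groth.Agent.Lib.Helper46.TorLES

variable {R : Type u} [CommRing R]

theorem isZero_tor_of_hasProjectiveDimensionLT (N : ModuleCat.{u} R) (d : ℕ) :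
    ∀ (M : ModuleCat.{u} R), HasProjectiveDimensionLT M (d + 1) → ∀ p : ℕ, d < p →
      IsZero (((Tor (ModuleCat.{u} R) p).obj M).obj N) := by
  induction d with
  | zero =>
    intro M hM p hp
    have hproj : Projective M := projective_iff_hasProjectiveDimensionLT_one.mpr hM
    haveI : Module.Flat R M := flat_of_projective M
    obtain ⟨q, rfl⟩ : ∃ q, p = q + 1 := ⟨p - 1, by omega⟩
    exact isZero_tor_succ_of_flat_left M N q
  | succ d ih =>
    intro M hM p hp
    obtain ⟨q, rfl⟩ : ∃ q, p = q + 1 := ⟨p - 1, by omega⟩
    have hq : d < q := by omega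
    let S := presentation M
    have hS : S.ShortExact := presentation_shortExact M
    have hP : Projective S.X₂ := by
      change Projective (Projective.over M)
      infer_instance
    have hK : HasProjectiveDimensionLT S.X₁ (d + 1) :=
      (hS.hasProjectiveDimensionLT_X₃_iff d hP).mp hM
    have h1 : IsZero (((Tor (ModuleCat.{u} R) q).obj S.X₁).obj N) := ih S.X₁ hK q hq
    haveI : Module.Flat R S.X₂ := flat_of_projective S.X₂
    have h2 : IsZero (((Tor (ModuleCat.{u} R) (q + 1)).obj S.X₂).obj N) :=
      isZero_tor_succ_of_flat_left S.X₂ N q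
    have hex := exact₃ S hS N q
    exact hex.isZero_of_both_zeros (h2.eq_of_src _ _) (h1.eq_of_tgt _ _)

end Groth.Agent.Lib.Helper33.TorPd
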