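import Mathlib
import Groth.Prelude.Def_IntMult
import Groth.Prelude.Def_CAlg
import Groth.Agent.S0563
import Groth.Agent.Lib.Helper33.TorPd
import Groth.Agent.Lib.Helper33.ChiRegular
import Groth.Agent.Lib.Helper33.ChiSymm
import Groth.Agent.Lib.Helper46.TorLinear
import Groth.Agent.Lib.Helper46.TorPrime
import Groth.Agent.Lib.Helper29.TorKill
import Groth.Agent.Lib.Helper35.CMSeq
import Groth.Agent.Lib.Helper67.FibLoc

/-!
# Tor-vanishing for two Cohen–Macaulay quotients of a regular local ring (helper33)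

`A` regular local of dimension `D`, `A/I`, `A/J` Cohen–Macaulay with `dim A/I + dim A/J ≥ D` and
`I + J` primary to the maximal ideal.  Then `Torᵢ(A/I, A/J) = 0` for `i ≥ 1`, and
`χ(A/I, A/J) = length A/(I+J)`.

Method: peel maximal regular sequences off both variables (the Tor modules are killed by a power of
the maximal ideal, so an injective multiplication forces them to vanish), and use that `A` has global
dimension `D`.
-/

set_option autoImplicit false
universe u
open CategoryTheory CategoryTheory.Limits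
attribute [local instance] HasDerivedCategory.standard

namespace Groth.Agent.Lib.Helper33.CMTor

open Groth.Agent.Lib.Helper46 Groth.Agent.Lib.Helper46.TorShift Groth.Agent.Lib.Helper29.TorKill
open RingTheory.Sequence
open scoped Pointwise

variable {A : Type u} [CommRing A]

/-- `x` regular on `M`, nilpotent on `Torᵢ(M,N)`, and `Torᵢ₊₁(M/xM, N) = 0` ⇒ `Torᵢ(M,N) = 0`. -/
theorem peel_step (M N : Type u) [AddCommGroup M] [Module A M] [AddCommGroup N] [Module A N]
    (x : A) (hx : IsSMulRegular M x) (i : ℕ)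
    (hz : IsZero (T A (i + 1) (QuotSMulTop x M) N))
    (hnil : ∃ e : ℕ, KillsAt (x ^ e) i M N) : IsZero (T A i M N) := by
  have hι := TorLinear.smulId_injective x hx
  have hex : Function.Exact (x • (LinearMap.id : M →ₗ[A] M)) (x • (⊤ : Submodule A M)).mkQ := by
    have h := LinearMap.exact_lsmul_mkQ_smul_top M x
    intro y
    rw [h y]
    constructor
    · rintro ⟨z, hz⟩; exact ⟨z, by simpa using hz⟩
    · rintro ⟨z, hz⟩; exact ⟨z, by simpa using hz⟩
  have hπ : Function.Surjective (x • (⊤ : Submodule A M)).mkQ := Submodule.mkQ_surjective _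
  have hS := sesSC_shortExact _ _ hι hex hπ
  have hmono : Mono (((Tor (ModuleCat.{u} A) i).map (sesSC _ _ hex).f).app (ModuleCat.of A N)) :=
    (TorLES.exact₁ _ hS (ModuleCat.of A N) i).mono_g (hz.eq_of_src _ _)
  have hf : ((Tor (ModuleCat.{u} A) i).map (sesSC _ _ hex).f).app (ModuleCat.of A N) = x • 𝟙 _ :=
    TorLinear.tor_map_smul_id_app x (ModuleCat.of A M) (ModuleCat.of A N) i
  rw [hf] at hmono
  have hreg : IsSMulRegular (T A i M N) x := TorLinear.isSMulRegular_of_mono_smul_id x _ hmono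
  obtain ⟨e, he⟩ := hnil
  have hreg' : IsSMulRegular (T A i M N) (x ^ e) := hreg.pow e
  haveI : Subsingleton (T A i M N) := ⟨fun y z => hreg' (by
    change x ^ e • y = x ^ e • z
    rw [he y, he z])⟩
  exact ModuleCat.isZero_of_subsingleton _

/-- Peeling a weakly regular sequence off the first variable. -/
theorem peel_list (N : Type u) [AddCommGroup N] [Module A N] (K : Ideal A) (S : Set A) (d c : ℕ)
    (hbase : ∀ (M' : Type u) [AddCommGroup M'] [Module A M'], (∀ k ∈ K, ∀ m : M', k • m = 0) →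
      ∀ i, d < i + c → IsZero (T A i M' N))
    (hnil : ∀ (M' : Type u) [AddCommGroup M'] [Module A M'], (∀ k ∈ K, ∀ m : M', k • m = 0) →
      ∀ x ∈ S, ∀ i, ∃ e : ℕ, KillsAt (x ^ e) i M' N) :
    ∀ (l : List A) (M : Type u) [AddCommGroup M] [Module A M], (∀ k ∈ K, ∀ m : M, k • m = 0) →
      IsWeaklyRegular M l → (∀ x ∈ l, x ∈ S) → ∀ i, d < i + c + l.length → IsZero (T A i M N) := by
  intro l
  induction l with
  | nil =>
    intro M _ _ hK _ _ i hi
    exact hbase M hK i (by simpa using hi)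
  | cons x l ih =>
    intro M _ _ hK hreg hS i hi
    obtain ⟨hx, hreg'⟩ := (isWeaklyRegular_cons_iff M x l).mp hreg
    have hK' : ∀ k ∈ K, ∀ m : QuotSMulTop x M, k • m = 0 := by
      intro k hk m
      induction m using Submodule.Quotient.induction_on with
      | H m =>
        rw [← Submodule.Quotient.mk_smul, hK k hk m, Submodule.Quotient.mk_zero]
    refine peel_step M N x hx i ?_ (hnil M hK x (hS x (List.mem_cons_self)) i)
    refine ih (QuotSMulTop x M) hK' hreg' (fun y hy => hS y (List.mem_cons_of_mem _ hy)) (i + 1) ?_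
    simp only [List.length_cons] at hi
    omega

/-- second-variable killing. -/
theorem killsAt_of_smul_eq_zero_right (X N : Type u) [AddCommGroup X] [Module A X] [AddCommGroup N]
    [Module A N] (r : A) (hN : ∀ n : N, r • n = 0) (i : ℕ) : KillsAt r i X N := by
  intro y
  let φ := TorPrime.torSymm (ModuleCat.of A X) (ModuleCat.of A N) i
  have h1 : y = φ.inv.hom (φ.hom.hom y) := by
    change y = (φ.hom ≫ φ.inv).hom y
    rw [Iso.hom_inv_id]; rfl
  have h2 : r • φ.hom.hom y = 0 := killsAt_of_smul_eq_zero N X r hN i (φ.hom.hom y)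
  rw [h1, ← map_smul, h2, map_zero]

/-- nilpotency of elements of `√(K+J)` on `Tor(M', N)` when `K` kills `M'` and `J` kills `N`. -/
theorem exists_killsAt_pow (K J : Ideal A) (M' N : Type u) [AddCommGroup M'] [Module A M']
    [AddCommGroup N] [Module A N] (hK : ∀ k ∈ K, ∀ m : M', k • m = 0)
    (hJ : ∀ k ∈ J, ∀ n : N, k • n = 0) (x : A) (hx : x ∈ (K ⊔ J).radical) (i : ℕ) :
    ∃ e : ℕ, KillsAt (x ^ e) i M' N := by
  obtain ⟨e, he⟩ := hx
  refine ⟨e, ?_⟩
  obtain ⟨u, hu, v, hv, huv⟩ := Submodule.mem_sup.mp he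
  intro y
  rw [← huv, add_smul, killsAt_of_smul_eq_zero M' N u (hK u hu) i y,
    killsAt_of_smul_eq_zero_right M' N v (hJ v hv) i y, add_zero]

theorem smul_quot_eq_zero (I : Ideal A) (k : A) (hk : k ∈ I) (m : A ⧸ I) : k • m = 0 := by
  obtain ⟨m, rfl⟩ := Ideal.Quotient.mk_surjective m
  rw [Algebra.smul_def]
  change Ideal.Quotient.mk I k * Ideal.Quotient.mk I m = 0
  rw [Ideal.Quotient.eq_zero_iff_mem.mpr hk, zero_mul]

/-- a maximal regular sequence of a CM quotient, lifted to `A`. -/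
theorem exists_lifted_regular [IsLocalRing A] (I : Ideal A)
    (hI : LocCoh.IsCohenMacaulayLocalRing (A ⧸ I)) (a : ℕ) (ha : ringKrullDim (A ⧸ I) = a) :
    ∃ l : List A, IsWeaklyRegular (A ⧸ I) l ∧ (∀ x ∈ l, x ∈ IsLocalRing.maximalIdeal A) ∧
      a ≤ l.length := by
  haveI := hI
  obtain ⟨xs, hxs, hxm, hxp⟩ := Groth.Agent.Lib.Helper35.CMSeq.exists_regular_of_cm (A ⧸ I)
  have hsurj : Function.Surjective (Ideal.Quotient.mk I) := Ideal.Quotient.mk_surjective
  let l : List A := xs.map (Function.surjInv hsurj)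
  have hl : l.map (algebraMap A (A ⧸ I)) = xs := by
    rw [List.map_map]
    conv_rhs => rw [← List.map_id xs]
    apply List.map_congr_left
    intro x _
    exact Function.surjInv_eq hsurj x
  refine ⟨l, ?_, ?_, ?_⟩
  · exact (isWeaklyRegular_map_algebraMap_iff (A ⧸ I) (A ⧸ I) l).mp (by rw [hl]; exact hxs)
  · intro x hx
    have hx' : Ideal.Quotient.mk I x ∈ xs := by
      rw [← hl]; exact List.mem_map.mpr ⟨x, hx, rfl⟩
    have := hxm _ hx'
    rw [IsLocalRing.mem_maximalIdeal, mem_nonunits_iff] at this ⊢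
    exact fun hu => this (hu.map _)
  · have h2 := (Groth.Agent.Lib.Helper67.FibLoc.isRegular_iff_of_isCM (A ⧸ I) xs hxm).2
    have h0 := ChiSymm.ringKrullDim_quotient_le_zero (Ideal.ofList xs)
      (fun Q hQ hle => hxp Q hQ hle)
    rw [ha] at h2
    have h3 : ((a : ℕ) : WithBot ℕ∞) ≤ ((xs.length : ℕ) : WithBot ℕ∞) :=
      h2.trans (by
        calc ringKrullDim ((A ⧸ I) ⧸ Ideal.ofList xs) + ((xs.length : ℕ) : WithBot ℕ∞)
            ≤ (0 : WithBot ℕ∞) + ((xs.length : ℕ) : WithBot ℕ∞) := by gcongr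
          _ = _ := zero_add _)
    have hlen : l.length = xs.length := List.length_map _
    rw [hlen]; exact_mod_cast h3

/-- **Tor-vanishing for two CM quotients of a regular local ring in complementary dimension.** -/
theorem isZero_tor_of_cm [IsRegularLocalRing A] (D : ℕ) (hD : ringKrullDim A = D)
    (I J : Ideal A) (hI : LocCoh.IsCohenMacaulayLocalRing (A ⧸ I))
    (hJ : LocCoh.IsCohenMacaulayLocalRing (A ⧸ J))
    (a b : ℕ) (ha : ringKrullDim (A ⧸ I) = a) (hb : ringKrullDim (A ⧸ J) = b) (hab : D ≤ a + b)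
    (hprime : ∀ Q : Ideal A, Q.IsPrime → I ≤ Q → J ≤ Q → Q = IsLocalRing.maximalIdeal A) :
    ∀ i, 1 ≤ i → IsZero (T A i (A ⧸ I) (A ⧸ J)) := by
  obtain ⟨l₁, hl₁, hm₁, hlen₁⟩ := exists_lifted_regular I hI a ha
  obtain ⟨l₂, hl₂, hm₂, hlen₂⟩ := exists_lifted_regular J hJ b hb
  have hrad : ∀ x ∈ IsLocalRing.maximalIdeal A, x ∈ (I ⊔ J).radical := by
    intro x hx
    rw [Ideal.radical_eq_sInf, Ideal.mem_sInf]
    rintro Q ⟨hle, hQ⟩
    rw [hprime Q hQ (le_sup_left.trans hle) (le_sup_right.trans hle)]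
    exact hx
  have hradc : ∀ x ∈ IsLocalRing.maximalIdeal A, x ∈ (J ⊔ I).radical := by
    rwa [sup_comm]
  have hgl : ∀ (M N : Type u) [AddCommGroup M] [Module A M] [AddCommGroup N] [Module A N],
      ∀ i, D < i → IsZero (T A i M N) := by
    intro M N _ _ _ _ i hi
    exact TorPd.isZero_tor_of_hasProjectiveDimensionLT (ModuleCat.of A N) D (ModuleCat.of A M)
      (Groth.Agent.S0563.result A D hD M) i hi
  have step1 : ∀ (N' : Type u) [AddCommGroup N'] [Module A N'],
      (∀ k ∈ J, ∀ n : N', k • n = 0) → ∀ i, D < i + l₁.length → IsZero (T A i (A ⧸ I) N') := by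
    intro N' _ _ hJN' i hi
    refine peel_list N' I (IsLocalRing.maximalIdeal A : Set A) D 0
      (fun M' _ _ _ i hi => hgl M' N' i (by simpa using hi))
      (fun M' _ _ hK x hx i => exists_killsAt_pow I J M' N' hK hJN' x (hrad x hx) i)
      l₁ (A ⧸ I) (smul_quot_eq_zero I) hl₁ hm₁ i (by simpa using hi)
  have step2 : ∀ i, D < i + l₁.length + l₂.length → IsZero (T A i (A ⧸ J) (A ⧸ I)) := by
    refine peel_list (A ⧸ I) J (IsLocalRing.maximalIdeal A : Set A) D l₁.length
      (fun M' _ _ hK i hi => (step1 M' hK i hi).of_iso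
        (TorPrime.torSymm (ModuleCat.of A M') (ModuleCat.of A (A ⧸ I)) i))
      (fun M' _ _ hK x hx i => exists_killsAt_pow J I M' (A ⧸ I) hK (smul_quot_eq_zero I) x
        (hradc x hx) i)
      l₂ (A ⧸ J) (smul_quot_eq_zero J) hl₂ hm₂
  intro i hi
  exact (step2 i (by omega)).of_iso
    (TorPrime.torSymm (ModuleCat.of A (A ⧸ I)) (ModuleCat.of A (A ⧸ J)) i)

/-- `χ(A/I, A/J) = length A/(I+J)` for CM quotients in complementary dimension. -/
theorem chi_of_cm [IsRegularLocalRing A] (D : ℕ) (hD : ringKrullDim A = D)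
    (I J : Ideal A) (hI : LocCoh.IsCohenMacaulayLocalRing (A ⧸ I))
    (hJ : LocCoh.IsCohenMacaulayLocalRing (A ⧸ J))
    (a b : ℕ) (ha : ringKrullDim (A ⧸ I) = a) (hb : ringKrullDim (A ⧸ J) = b) (hab : D ≤ a + b)
    (hprime : ∀ Q : Ideal A, Q.IsPrime → I ≤ Q → J ≤ Q → Q = IsLocalRing.maximalIdeal A) :
    IntMult.chi A (A ⧸ I) (A ⧸ J) = (Module.length A (A ⧸ (I ⊔ J))).toNat := by
  unfold IntMult.chi
  rw [finsum_eq_single _ 0]
  · simp only [pow_zero, one_mul]
    congr 2
    exact LinearEquiv.length_eq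
      ((torZeroEquiv (A ⧸ I) (A ⧸ J)) ≪≫ₗ ChiRegular.tensorQuotEquiv I J)
  · intro i hi
    have hz := isZero_tor_of_cm D hD I J hI hJ a b ha hb hab hprime i
      (Nat.one_le_iff_ne_zero.mpr hi)
    haveI : Subsingleton (DRing.Tor A i (A ⧸ I) (A ⧸ J)) :=
      ModuleCat.subsingleton_of_isZero hz
    rw [Module.length_eq_zero]
    simp

end Groth.Agent.Lib.Helper33.CMTor
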