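import Mathlib
import Groth.Agent.Lib.Helper21.FieldDim
import Groth.Agent.Lib.Helper73.StalkQuot
import Groth.Agent.Lib.Helper73.IrredDim
import Groth.Agent.Lib.Helper91.GenPrime2
import Groth.Agent.Lib.Helper91.StalkIdeal

/-!
# Dimension formulas for local rings of schemes locally of finite type over a field (helper33)

For `f : X ⟶ Spec K` locally of finite type, `td f x = trdeg_K κ(x) = dim closure {x}` (helper21).
* `fromSpecStalk_primeOf`: the point of the prime `primeOf (h : ζ ⤳ x)` of `O_{X,x}` is `ζ`.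
* `dim_quot_primeOf_add_td`: `dim O_{X,x}/primeOf h + td x = td ζ`.
* `height_primeOf_add_td`: for `X` irreducible, `ht (primeOf h) + td ζ = td (generic point)`.
* `primeOf_refl`, `mem_support_of_stalkIdeal_le_primeOf`, `isGenericPoint_support`.
-/

set_option autoImplicit false
set_option linter.style.haveILetI false
universe u

open CategoryTheory AlgebraicGeometry TopologicalSpace

namespace Groth.Agent.Lib.Helper33.VarDim

open Groth.Agent.Lib.Helper91.GenPrime Groth.Agent.Lib.Helper91.StalkIdeal
open Groth.Agent.Lib.Helper73 Groth.Agent.Lib.Helper73.RelHt Groth.Agent.Lib.Helper73.SchemeDim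
open Groth.Agent.Lib.Helper21.FieldDim

variable {X : Scheme.{u}}

set_option backward.isDefEq.respectTransparency.types false in
theorem fromSpecStalk_primeOf {ζ x : X} (h : ζ ⤳ x) :
    (X.fromSpecStalk x).base (⟨primeOf h, inferInstance⟩ : PrimeSpectrum (X.presheaf.stalk x)) = ζ := by
  have h1 := Scheme.SpecMap_stalkSpecializes_fromSpecStalk h
  have h2 : (X.fromSpecStalk x) (Spec.map (X.presheaf.stalkSpecializes h)
      (IsLocalRing.closedPoint _)) = ζ := by
    rw [← Scheme.Hom.comp_apply, h1, Scheme.fromSpecStalk_closedPoint]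
  exact h2

theorem primeOf_refl (x : X) (h : x ⤳ x) :
    primeOf h = IsLocalRing.maximalIdeal (X.presheaf.stalk x) := by
  unfold primeOf
  have : X.presheaf.stalkSpecializes h = 𝟙 _ := TopCat.Presheaf.stalkSpecializes_refl _ x
  rw [this]
  rfl

theorem mem_support_of_stalkIdeal_le_primeOf (I : X.IdealSheafData) {ζ x : X} (h : ζ ⤳ x)
    (hle : stalkIdeal I x ≤ primeOf h) : ζ ∈ I.support := by
  by_contra hnot
  have htop := (stalkIdeal_eq_top_iff I ζ).mpr hnot
  have hmap := map_stalkSpecializes I h
  have h1 : (stalkIdeal I x).map (X.presheaf.stalkSpecializes h).hom ≤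
      IsLocalRing.maximalIdeal _ := by
    rw [Ideal.map_le_iff_le_comap]
    exact hle
  rw [hmap, htop] at h1
  exact (IsLocalRing.maximalIdeal.isMaximal _).ne_top (top_le_iff.mp h1)

theorem isGenericPoint_support (I : X.IdealSheafData) [IsIntegral I.subscheme] :
    IsGenericPoint (I.subschemeι (genericPoint I.subscheme)) (I.support : Set X) := by
  apply le_antisymm
  · exact closure_minimal (Set.singleton_subset_iff.mpr
      (Groth.Agent.Lib.Helper91.IntegralSub.genericPoint_mem_support I)) I.support.isClosed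
  · intro x hx
    exact specializes_iff_mem_closure.mp
      (Groth.Agent.Lib.Helper91.IntegralSub.genericPoint_specializes_of_mem_support I hx)

section Field

variable {K : Type u} [Field K] (f : X ⟶ Spec (CommRingCat.of K)) [LocallyOfFiniteType f]

theorem dim_quot_primeOf_add_td {ζ x : X} (h : ζ ⤳ x) :
    ringKrullDim (X.presheaf.stalk x ⧸ primeOf h) + ((td f x : ℕ) : WithBot ℕ∞) =
      ((td f ζ : ℕ) : WithBot ℕ∞) := by
  rw [ringKrullDim_stalk_quotient_eq_relHt x (primeOf h), fromSpecStalk_primeOf h]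
  have := relHt_add_td f h
  exact_mod_cast congrArg (fun a : ℕ∞ => (a : WithBot ℕ∞)) this

theorem height_primeOf_add_td [IrreducibleSpace X] {ζ x : X} (h : ζ ⤳ x) :
    ((primeOf h).height : ℕ∞) + (td f ζ : ℕ∞) = (td f (genericPoint X) : ℕ∞) := by
  have hgen : ∀ y : X, genericPoint X ⤳ y := fun y => (genericPoint_spec X).specializes (by simp)
  have h1 := ringKrullDim_stalk_eq_height h
  have h2 := ringKrullDim_stalk_eq_relHt (genericPoint X) hgen ζ
  have h3 := relHt_add_td f (hgen ζ)
  have h4 : ((primeOf h).height : WithBot ℕ∞) = ((relHt ζ (genericPoint X) : ℕ∞) : WithBot ℕ∞) := by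
    rw [← h1, h2]
  have h5 : (primeOf h).height = relHt ζ (genericPoint X) := by exact_mod_cast h4
  rw [h5]
  exact h3

theorem exists_dim_quot_primeOf {ζ x : X} (h : ζ ⤳ x) :
    ∃ d : ℕ, ringKrullDim (X.presheaf.stalk x ⧸ primeOf h) = ((d : ℕ) : WithBot ℕ∞) ∧
      d + td f x = td f ζ := by
  have h0 := ringKrullDim_stalk_quotient_eq_relHt x (primeOf h)
  rw [fromSpecStalk_primeOf h] at h0
  have h1 := relHt_add_td f h
  have hne : relHt x ζ ≠ ⊤ := by
    intro htop
    rw [htop] at h1
    simp at h1
  obtain ⟨d, hd⟩ := ENat.ne_top_iff_exists.mp hne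
  refine ⟨d, ?_, ?_⟩
  · rw [h0, ← hd]; rfl
  · rw [← hd] at h1
    exact_mod_cast h1

theorem exists_height_primeOf [IrreducibleSpace X] {ζ x : X} (h : ζ ⤳ x) :
    ∃ c : ℕ, (primeOf h).height = c ∧ c + td f ζ = td f (genericPoint X) := by
  have h1 := height_primeOf_add_td f h
  have hne : (primeOf h).height ≠ ⊤ := by
    intro htop
    rw [htop] at h1
    simp at h1
  obtain ⟨c, hc⟩ := ENat.ne_top_iff_exists.mp hne
  refine ⟨c, hc.symm, ?_⟩
  rw [← hc] at h1
  exact_mod_cast h1

end Field

end Groth.Agent.Lib.Helper33.VarDim
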