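import Mathlib
import Groth.Prelude.Def_IntMult
import Groth.Prelude.Def_Cyc
import Groth.Agent.Lib.Helper91.CatenaryInt
import Groth.Agent.Lib.Helper91.StalkIdeal
import Groth.Agent.Lib.Helper91.GenPrime2
import Groth.Agent.Lib.Helper33.VarDim

/-!
# Stalks of closed subschemes as quotients, and small facts on `primeOf` (helper33)
-/

set_option autoImplicit false
universe u
open CategoryTheory CategoryTheory.Limits AlgebraicGeometry

namespace Groth.Agent.Lib.Helper33.ClosedStalk

open Groth.Agent.Lib.Helper91.StalkIdeal Groth.Agent.Lib.Helper91.GenPrime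
open Groth.Agent.Lib.Helper91

variable {X : Scheme.{u}}

/-- the local ring of a closed subscheme at a point is the quotient by the stalk of its ideal. -/
theorem nonempty_stalk_equiv {W : Scheme.{u}} (ι : W ⟶ X) [IsClosedImmersion ι] (w : W) (x : X)
    (h : ι w = x) :
    Nonempty (W.presheaf.stalk w ≃+* (X.presheaf.stalk x ⧸ stalkIdeal ι.ker x)) := by
  subst h
  have hsurj : Function.Surjective (ι.stalkMap w).hom := ι.stalkMap_surjective w
  have e := RingHom.quotientKerEquivOfSurjective hsurj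
  exact ⟨e.symm.trans (Ideal.quotEquivOfEq (CatenaryInt.stalkIdeal_ker ι w).symm)⟩

theorem stalkIdeal_sup (I J : X.IdealSheafData) (x : X) :
    stalkIdeal (I ⊔ J) x = stalkIdeal I x ⊔ stalkIdeal J x := by
  obtain ⟨U, hU⟩ := exists_affine x
  rw [stalkIdeal_eq _ U hU, stalkIdeal_eq _ U hU, stalkIdeal_eq _ U hU,
    Scheme.IdealSheafData.ideal_sup, Pi.sup_apply, Ideal.map_sup]

theorem stalkIdeal_le_primeOf (I : X.IdealSheafData) {ζ x : X} (h : ζ ⤳ x)
    (hζ : ζ ∈ I.support) : stalkIdeal I x ≤ primeOf h := by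
  have hne : stalkIdeal I ζ ≠ ⊤ := fun ht => ((stalkIdeal_eq_top_iff I ζ).mp ht) hζ
  have hmap := map_stalkSpecializes I h
  unfold primeOf
  rw [← Ideal.map_le_iff_le_comap, hmap]
  exact IsLocalRing.le_maximalIdeal hne

theorem specializes_of_primeOf_le {ζ₁ ζ₂ x : X} (h₁ : ζ₁ ⤳ x) (h₂ : ζ₂ ⤳ x)
    (hle : primeOf h₁ ≤ primeOf h₂) : ζ₁ ⤳ ζ₂ := by
  have h3 := (PrimeSpectrum.le_iff_specializes
    (⟨primeOf h₁, inferInstance⟩ : PrimeSpectrum (X.presheaf.stalk x))
    ⟨primeOf h₂, inferInstance⟩).mp hle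
  have h4 := h3.map (X.fromSpecStalk x).continuous
  have e1 := VarDim.fromSpecStalk_primeOf h₁
  have e2 := VarDim.fromSpecStalk_primeOf h₂
  rw [← e1, ← e2]
  exact h4

theorem eq_of_primeOf_eq {ζ₁ ζ₂ x : X} (h₁ : ζ₁ ⤳ x) (h₂ : ζ₂ ⤳ x)
    (he : primeOf h₁ = primeOf h₂) : ζ₁ = ζ₂ := by
  have e1 := VarDim.fromSpecStalk_primeOf h₁
  have e2 := VarDim.fromSpecStalk_primeOf h₂
  rw [← e1, ← e2]
  have : (⟨primeOf h₁, inferInstance⟩ : PrimeSpectrum (X.presheaf.stalk x)) =
      ⟨primeOf h₂, inferInstance⟩ := PrimeSpectrum.ext he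
  rw [this]

theorem map_primeOf {ζ x : X} (h : ζ ⤳ x) :
    (primeOf h).map (X.presheaf.stalkSpecializes h).hom =
      IsLocalRing.maximalIdeal (X.presheaf.stalk ζ) := by
  letI := (X.presheaf.stalkSpecializes h).hom.toAlgebra
  haveI := isLocalization_stalkSpecializes h
  exact IsLocalization.AtPrime.map_eq_maximalIdeal (primeOf h) (X.presheaf.stalk ζ)

theorem isField_of_length_eq_one (R : Type*) [CommRing R] (h : Module.length R R = 1) :
    IsField R := by
  rw [Ring.isField_iff_isSimpleOrder_ideal]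
  exact (Module.length_eq_one_iff.mp h).toIsSimpleOrder

theorem length_eq_one_of_isField (R : Type*) [CommRing R] (h : IsField R) :
    Module.length R R = 1 := by
  rw [Module.length_eq_one_iff]
  exact @IsSimpleModule.mk R _ R _ _ (Ring.isField_iff_isSimpleOrder_ideal.mp h)

/-- `δ = td` for the dimension function of a variety. -/
theorem delta_eq_td {K : Type u} [Field K] (f : X ⟶ Spec (CommRingCat.of K)) [LocallyOfFiniteType f]
    (δ : X → ℤ) (hδ : Cyc.DeltaCompat f δ (fun _ => 0)) (x : X) :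
    δ x = (Groth.Agent.Lib.Helper21.FieldDim.td f x : ℤ) := by
  obtain ⟨n, hn1, hn2⟩ := hδ x
  have : Groth.Agent.Lib.Helper21.FieldDim.td f x = n :=
    Groth.Agent.Lib.Helper21.FieldDim.td_eq_of_trdegAt_eq f hn1
  rw [hn2, this, zero_add]

end Groth.Agent.Lib.Helper33.ClosedStalk
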