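import Mathlib
import Groth.Agent.Lib.Helper33.RegularRing
import Groth.Agent.Lib.Helper63.CompletionNoeth
import Groth.Agent.S0565

/-!
# Adic completions: maximal ideals, local rings, dimension, regularity (helper33)
-/

set_option autoImplicit false
universe u
open IsLocalRing

namespace Groth.Agent.Lib.Helper33

section

variable {A : Type*} [CommRing A] (J : Ideal A)

/-- Maximal ideals of the `J`-adic completion are extended from maximal ideals of `A`
containing `J`. -/
theorem comap_isMaximal_of_isMaximal_completion (fg : J.FG) (M : Ideal (AdicCompletion J A))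
    [hM : M.IsMaximal] :
    (M.comap (algebraMap A (AdicCompletion J A))).IsMaximal ∧
      J ≤ M.comap (algebraMap A (AdicCompletion J A)) ∧
      (M.comap (algebraMap A (AdicCompletion J A))).map (algebraMap A (AdicCompletion J A)) = M := by
  have hcomp := AdicCompletion.isAdicComplete_self J fg
  have hJM : J.map (algebraMap A (AdicCompletion J A)) ≤ M :=
    (IsAdicComplete.le_jacobson_bot _).trans (sInf_le ⟨bot_le, hM⟩)
  let m : Ideal A := M.comap (algebraMap A (AdicCompletion J A))
  have hJm : J ≤ m := Ideal.map_le_iff_le_comap.mp hJM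
  have hsurj : Function.Surjective ((Ideal.Quotient.mk M).comp
      (algebraMap A (AdicCompletion J A))) := by
    intro y
    obtain ⟨y, rfl⟩ := Ideal.Quotient.mk_surjective y
    obtain ⟨a, ha⟩ := Ideal.Quotient.mk_surjective (AdicCompletion.evalOneₐ J y)
    refine ⟨a, ?_⟩
    rw [RingHom.comp_apply, Ideal.Quotient.eq]
    apply hJM
    rw [← AdicCompletion.ker_evalOneₐ_eq_map J fg, RingHom.mem_ker, map_sub]
    have : (AdicCompletion.evalOneₐ J).toRingHom (algebraMap A (AdicCompletion J A) a) =
        Ideal.Quotient.mk J a := by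
      rw [← RingHom.comp_apply, AdicCompletion.evalOneₐ_comp_algebraMap_eq_mk]
    rw [this, ha]
    exact sub_self _
  have hmker : m = RingHom.ker ((Ideal.Quotient.mk M).comp
      (algebraMap A (AdicCompletion J A))) := by
    ext a
    rw [RingHom.mem_ker, RingHom.comp_apply, Ideal.Quotient.eq_zero_iff_mem]
    rfl
  let _ : Field (AdicCompletion J A ⧸ M) := Ideal.Quotient.field M
  have hmmax : m.IsMaximal := by
    rw [hmker]
    exact RingHom.ker_isMaximal_of_surjective _ hsurj
  exact ⟨hmmax, hJm,
    (AdicCompletion.isMaximal_map_of_le J m hJm fg).eq_of_le hM.ne_top Ideal.map_comap_le⟩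

/-- The completion of a Noetherian local ring at a proper ideal is local. -/
theorem isLocalRing_adicCompletion [IsLocalRing A] [IsNoetherianRing A] (hJ : J ≠ ⊤) :
    IsLocalRing (AdicCompletion J A) := by
  have fg : J.FG := J.fg_of_isNoetherianRing
  have hJm : J ≤ maximalIdeal A := IsLocalRing.le_maximalIdeal hJ
  have hmax := AdicCompletion.isMaximal_map_of_le J (maximalIdeal A) hJm fg
  refine IsLocalRing.of_unique_max_ideal ⟨_, hmax, fun M hM => ?_⟩
  obtain ⟨h1, -, h3⟩ := comap_isMaximal_of_isMaximal_completion J fg M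
  rw [← h3, IsLocalRing.eq_maximalIdeal h1]

theorem maximalIdeal_adicCompletion [IsLocalRing A] [IsNoetherianRing A] (hJ : J ≠ ⊤)
    [IsLocalRing (AdicCompletion J A)] :
    maximalIdeal (AdicCompletion J A) =
      (maximalIdeal A).map (algebraMap A (AdicCompletion J A)) :=
  (IsLocalRing.eq_maximalIdeal (AdicCompletion.isMaximal_map_of_le J (maximalIdeal A)
    (IsLocalRing.le_maximalIdeal hJ) J.fg_of_isNoetherianRing)).symm

theorem isLocalHom_algebraMap_adicCompletion [IsLocalRing A] [IsNoetherianRing A] (hJ : J ≠ ⊤)
    [IsLocalRing (AdicCompletion J A)] :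
    IsLocalHom (algebraMap A (AdicCompletion J A)) := by
  apply ((IsLocalRing.local_hom_TFAE _).out 0 2).mpr
  rw [maximalIdeal_adicCompletion J hJ]

end

end Groth.Agent.Lib.Helper33
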