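import Mathlib
import Groth.Agent.Lib.Helper33.DerivedHomVanish

set_option autoImplicit false
universe u v w
open CategoryTheory CategoryTheory.Limits DerivedCategory CategoryTheory.Pretriangulated

namespace Groth.Agent.Lib.Helper33.DerivedHomVanish

lemma biprod_aux {D : Type u} [Category.{v} D] [Preadditive D] {A K K' B : D}
    [HasBinaryBiproduct A K'] [HasBinaryBiproduct A B] (ι : A ⟶ K) (πa : K ⟶ K') (πk : K ⟶ B)
    (e₀ : K ≅ A ⊞ K') (h1 : ι ≫ e₀.hom = biprod.inl) (h2 : πa = e₀.hom ≫ biprod.snd)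
    (φ : K' ⟶ B) [IsIso φ] (hφ : πa ≫ φ = πk) (hιπ : ι ≫ πk = 0) :
    ∃ e : K ≅ A ⊞ B, ι ≫ e.hom = biprod.inl ∧ e.hom ≫ biprod.snd = πk := by
  let r : K ⟶ A := e₀.hom ≫ biprod.fst
  let s : B ⟶ K := inv φ ≫ biprod.inr ≫ e₀.inv
  have hιr : ι ≫ r = 𝟙 A := by
    simp only [r]
    rw [← Category.assoc, h1, biprod.inl_fst]
  have hsπ : s ≫ πk = 𝟙 B := by
    simp only [s]
    rw [← hφ, h2]
    simp
  have hsr : s ≫ r = 0 := by
    simp only [s, r]
    simp
  have hι : ι = biprod.inl ≫ e₀.inv := by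
    rw [← h1, Category.assoc, Iso.hom_inv_id, Category.comp_id]
  have hπs : πk ≫ s = e₀.hom ≫ biprod.snd ≫ biprod.inr ≫ e₀.inv := by
    simp only [s]
    rw [← hφ, h2]
    simp
  have htotal : r ≫ ι + πk ≫ s = 𝟙 K := by
    rw [hπs, hι]
    simp only [r, Category.assoc]
    rw [← Preadditive.comp_add, ← Category.assoc biprod.snd, ← Category.assoc biprod.fst,
      ← Preadditive.add_comp, biprod.total, Category.id_comp, Iso.hom_inv_id]
  let bc : BinaryBicone A B :=
    { pt := K
      fst := r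
      snd := πk
      inl := ι
      inr := s
      inl_fst := hιr
      inl_snd := hιπ
      inr_fst := hsr
      inr_snd := hsπ }
  have hbc : bc.IsBilimit := isBinaryBilimitOfTotal bc htotal
  refine ⟨biprod.uniqueUpToIso A B hbc, ?_, ?_⟩
  · ext
    · simp [bc, hιr]
    · simp [bc, hιπ]
  · simp [bc]

section
variable {C : Type u} [Category.{v} C] [Abelian C] [HasDerivedCategory.{w} C] [EnoughProjectives C]

variable (C) in
/-- the canonical t-structure -/
noncomputable abbrev tD : Triangulated.TStructure (DerivedCategory C) := DerivedCategory.TStructure.t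

lemma exists_iso_biprod_of_gap (d : ℕ) (hgl : ∀ M : C, HasProjectiveDimensionLT M (d + 1))
    (K : DerivedCategory C) (b : ℤ) [K.IsLE b] (a k : ℤ) (hak : a ≤ k + 1) (had : a + d = k + 2)
    (hgap : ∀ i : ℤ, a ≤ i → i ≤ k → IsZero ((homologyFunctor C i).obj K))
    [HasBinaryBiproduct (((tD C).truncLT a).obj K) (((tD C).truncGE (k + 1)).obj K)] :
    ∃ e : K ≅ ((tD C).truncLT a).obj K ⊞ ((tD C).truncGE (k + 1)).obj K,
      ((tD C).truncLTι a).app K ≫ e.hom = biprod.inl ∧
        e.hom ≫ biprod.snd = ((tD C).truncGEπ (k + 1)).app K := by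
  have hT := (tD C).triangleLTGE_distinguished a K
  set T := ((tD C).triangleLTGE a).obj K with hTdef
  let A := ((tD C).truncLT a).obj K
  let K' := ((tD C).truncGE a).obj K
  let B := ((tD C).truncGE (k + 1)).obj K
  have hA : (tD C).IsLE A (a - 1) := inferInstance
  have hK'a : (tD C).IsGE K' a := inferInstance
  have hK'b : (tD C).IsLE K' b := inferInstance
  have hK'GE : (tD C).IsGE K' (k + 1) := by
    change K'.IsGE (k + 1)
    rw [DerivedCategory.isGE_iff]
    intro i hi
    by_cases hia : i < a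
    · exact DerivedCategory.isZero_of_isGE K' a i hia
    · have hex := DerivedCategory.HomologySequence.exact₃ T hT i (i + 1) rfl
      refine hex.isZero_of_both_isZero (hgap i (by omega) (by omega)) ?_
      exact DerivedCategory.isZero_of_isLE A (a - 1) (i + 1) (by omega)
  have hA1 : (tD C).IsLE (A⟦(1 : ℤ)⟧) (a - 2) := (tD C).isLE_shift A (a - 1) 1 (a - 2) (by omega)
  have hδ : T.mor₃ = 0 := by
    by_cases hlt : b < k + 1
    · have hz : IsZero K' := (tD C).isZero K' b (k + 1) hlt
      exact hz.eq_of_src _ _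
    · exact hom_eq_zero_of_gldim d hgl (b - (k + 1) + 1).toNat K' (k + 1) b hK'GE hK'b (by omega)
        (a - 2) (by omega) (A⟦(1 : ℤ)⟧) T.mor₃
  obtain ⟨e₀, h1, h2⟩ := exists_iso_binaryBiproduct_of_distTriang T hT hδ
  -- the comparison iso `K' ≅ B`
  have hiso1 : IsIso (((tD C).truncGEπ (k + 1)).app K') := inferInstance
  have hiso2 : IsIso (((tD C).truncGE (k + 1)).map (((tD C).truncGEπ a).app K)) :=
    (tD C).isIso_truncGE_map_truncGEπ_app (k + 1) a hak K
  let φ : K' ⟶ B := ((tD C).truncGEπ (k + 1)).app K' ≫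
    inv (((tD C).truncGE (k + 1)).map (((tD C).truncGEπ a).app K))
  have hφiso : IsIso φ := inferInstance
  have hφ : ((tD C).truncGEπ a).app K ≫ φ = ((tD C).truncGEπ (k + 1)).app K := by
    have hnat := (tD C).truncGEπ_naturality (k + 1) (((tD C).truncGEπ a).app K)
    simp only [φ]
    rw [← Category.assoc, ← hnat, Category.assoc, IsIso.hom_inv_id, Category.comp_id]
    rfl
  have hιπ : ((tD C).truncLTι a).app K ≫ ((tD C).truncGEπ (k + 1)).app K = 0 := by
    have hB : (tD C).IsGE B (k + 1) := inferInstance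
    exact (tD C).zero_of_isLE_of_isGE _ (a - 1) (k + 1) (by omega) hA hB
  exact biprod_aux (A := A) (K := K) (K' := K') (B := B) (((tD C).truncLTι a).app K)
    (((tD C).truncGEπ a).app K) (((tD C).truncGEπ (k + 1)).app K) e₀ h1 h2 φ hφ hιπ
end

end Groth.Agent.Lib.Helper33.DerivedHomVanish
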