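import Mathlib
import Groth.Agent.Lib.Helper33.DepthZeroFree
import Groth.Agent.Lib.Helper33.LocalizationGlDim
import Groth.Agent.Lib.Helper33.GlobalDim
import Groth.Agent.Lib.Helper33.AuslanderBuchsbaum

/-!
# Rank of localizations of modules of finite projective dimension (Euler characteristic)

Over a Noetherian local ring `R`, if `M` is finite of finite projective dimension then the rank
of `M_Q` is the same at all primes `Q` where `M_Q` is free. Consequence: an ideal `I ≠ 0` of
finite projective dimension is not contained in any associated prime of `R`
(Auslander–Buchsbaum).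
-/

set_option autoImplicit false
universe u
open CategoryTheory IsLocalRing

namespace Groth.Agent.Lib.Helper33.EulerChar

/-- localization does not raise projective dimension (for `LocalizedModule`). -/
theorem hasProjectiveDimensionLT_localizedModule {R : Type u} [CommRing R] (S : Submonoid R)
    (M : Type u) [AddCommGroup M] [Module R M] (n : ℕ)
    (h : HasProjectiveDimensionLT (ModuleCat.of R M) n) :
    HasProjectiveDimensionLT (ModuleCat.of (Localization S) (LocalizedModule S M)) n := by
  obtain _ | m := n
  · have h0 := ModuleCat.subsingleton_of_isZero ((hasProjectiveDimensionLT_zero_iff_isZero _).mp h)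
    have : Subsingleton M := h0
    exact (ModuleCat.isZero_of_subsingleton _).hasProjectiveDimensionLT_zero
  · have h1 : HasProjectiveDimensionLE (ModuleCat.of R M) m := h
    have h2 : HasProjectiveDimensionLE ((ModuleCat.of R M).localizedModule S) m :=
      ModuleCat.localizedModule_hasProjectiveDimensionLE m S (ModuleCat.of R M)
    let e : ((ModuleCat.of R M).localizedModule S) ≃ₗ[Localization S] LocalizedModule S M :=
      localizedModuleEquiv S (ModuleCat.of R M) (LocalizedModule S M)
        (LocalizedModule.mkLinearMap S M)
    exact hasProjectiveDimensionLT_of_iso e.toModuleIso (m + 1)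

section Split

variable {R : Type u} [CommRing R] (Q : Ideal R) [Q.IsPrime]
variable {K P M : Type u} [AddCommGroup K] [Module R K] [AddCommGroup P] [Module R P]
  [AddCommGroup M] [Module R M]

/-- Given `0 → K → P → M → 0` with `P` finite projective and `M_Q` free, `K_Q` is free and
`rank P_Q = rank K_Q + rank M_Q`. -/
theorem free_and_finrank_of_exact [Module.Finite R K] [Module.Finite R P] [Module.Projective R P]
    [Module.Finite R M]
    (ι : K →ₗ[R] P) (π : P →ₗ[R] M) (hι : Function.Injective ι) (hex : Function.Exact ι π)
    (hπ : Function.Surjective π)
    (hM : Module.Free (Localization.AtPrime Q) (LocalizedModule Q.primeCompl M)) :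
    Module.Free (Localization.AtPrime Q) (LocalizedModule Q.primeCompl K) ∧
      Module.finrank (Localization.AtPrime Q) (LocalizedModule Q.primeCompl P) =
        Module.finrank (Localization.AtPrime Q) (LocalizedModule Q.primeCompl K) +
          Module.finrank (Localization.AtPrime Q) (LocalizedModule Q.primeCompl M) := by
  set S := Q.primeCompl
  have hexS : Function.Exact (LocalizedModule.map S ι) (LocalizedModule.map S π) :=
    LocalizedModule.map_exact S ι π hex
  have hιS := LocalizedModule.map_injective S ι hι
  have hπS := LocalizedModule.map_surjective S π hπ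
  obtain ⟨l, hl⟩ := Module.projective_lifting_property (LocalizedModule.map S π) LinearMap.id hπS
  obtain ⟨e, he1, he2⟩ := hexS.splitSurjectiveEquiv hιS ⟨l, hl⟩
  have hproj : Module.Projective (Localization.AtPrime Q) (LocalizedModule S K) := by
    refine Module.Projective.of_split (LocalizedModule.map S ι)
      ((LinearMap.fst _ _ _) ∘ₗ e.toLinearMap) ?_
    rw [he1]
    ext x
    simp
  have hfree : Module.Free (Localization.AtPrime Q) (LocalizedModule S K) :=
    Module.free_of_flat_of_isLocalRing
  refine ⟨hfree, ?_⟩
  rw [e.finrank_eq, Module.finrank_prod]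

end Split

/-- Euler characteristic: over a Noetherian local ring, a finite module of finite projective
dimension has the same rank at all primes where it is locally free. -/
theorem finrank_localizedModule_eq (R : Type u) [CommRing R] [IsLocalRing R] [IsNoetherianRing R]
    (n : ℕ) : ∀ (M : Type u) [AddCommGroup M] [Module R M] [Module.Finite R M],
    HasProjectiveDimensionLT (ModuleCat.of R M) n →
    ∀ (Q Q' : Ideal R) [Q.IsPrime] [Q'.IsPrime],
      Module.Free (Localization.AtPrime Q) (LocalizedModule Q.primeCompl M) →
      Module.Free (Localization.AtPrime Q') (LocalizedModule Q'.primeCompl M) →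
      Module.finrank (Localization.AtPrime Q) (LocalizedModule Q.primeCompl M) =
        Module.finrank (Localization.AtPrime Q') (LocalizedModule Q'.primeCompl M) := by
  induction n with
  | zero =>
    intro M _ _ _ h Q Q' _ _ _ _
    have h0 := ModuleCat.subsingleton_of_isZero ((hasProjectiveDimensionLT_zero_iff_isZero _).mp h)
    have : Subsingleton M := h0
    rw [Module.finrank_zero_of_subsingleton, Module.finrank_zero_of_subsingleton]
  | succ n ih =>
    intro M _ _ _ h Q Q' _ _ hQ hQ'
    rcases Nat.eq_zero_or_pos n with rfl | hn
    · -- `M` is free
      have hfree : Module.Free R M := AB.free_of_hasProjectiveDimensionLT_one M h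
      rw [Module.finrank_of_isLocalizedModule_of_free (Localization.AtPrime Q) Q.primeCompl
          (LocalizedModule.mkLinearMap Q.primeCompl M),
        Module.finrank_of_isLocalizedModule_of_free (Localization.AtPrime Q') Q'.primeCompl
          (LocalizedModule.mkLinearMap Q'.primeCompl M)]
    · obtain ⟨k, π, hπ⟩ := Module.Finite.exists_fin' R M
      have hexact : Function.Exact (LinearMap.ker π).subtype π := LinearMap.exact_subtype_ker_map π
      have hinj : Function.Injective (LinearMap.ker π).subtype := Submodule.subtype_injective _
      let T := ModuleCat.shortComplexOfCompEqZero (LinearMap.ker π).subtype π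
        (LinearMap.ext fun y => hexact.apply_apply_eq_zero y)
      have T_exact : T.ShortExact := ModuleCat.shortComplex_shortExact T hexact hinj hπ
      have hproj : Projective (ModuleCat.of R (Fin k → R)) := by
        rw [← IsProjective.iff_projective]; infer_instance
      have hK : HasProjectiveDimensionLT (ModuleCat.of R (LinearMap.ker π)) n :=
        T_exact.hasProjectiveDimensionLT_X₁ n
          (hasProjectiveDimensionLT_of_ge (ModuleCat.of R (Fin k → R)) 1 n hn) h
      obtain ⟨hf1, hr1⟩ := free_and_finrank_of_exact Q (LinearMap.ker π).subtype π hinj hexact hπ hQ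
      obtain ⟨hf2, hr2⟩ := free_and_finrank_of_exact Q' (LinearMap.ker π).subtype π hinj hexact hπ
        hQ'
      have h3 := ih (LinearMap.ker π) hK Q Q' hf1 hf2
      rw [Module.finrank_of_isLocalizedModule_of_free (Localization.AtPrime Q) Q.primeCompl
          (LocalizedModule.mkLinearMap Q.primeCompl (Fin k → R))] at hr1
      rw [Module.finrank_of_isLocalizedModule_of_free (Localization.AtPrime Q') Q'.primeCompl
          (LocalizedModule.mkLinearMap Q'.primeCompl (Fin k → R))] at hr2
      omega

/-- at an associated prime `Q` of `R`, a finite module of finite projective dimension is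
locally free. -/
theorem localizedModule_free_of_mem_ass (R : Type u) [CommRing R] [IsNoetherianRing R]
    (Q : Ideal R) [Q.IsPrime] (hQ : Q ∈ associatedPrimes R R)
    (M : Type u) [AddCommGroup M] [Module R M] [Module.Finite R M] (n : ℕ)
    (h : HasProjectiveDimensionLT (ModuleCat.of R M) n) :
    Module.Free (Localization.AtPrime Q) (LocalizedModule Q.primeCompl M) := by
  have hass : maximalIdeal (Localization.AtPrime Q) ∈
      associatedPrimes (Localization.AtPrime Q) (Localization.AtPrime Q) := by
    apply Module.associatedPrimes.mem_associatedPrimes_of_comap_mem_associatedPrimes_of_isLocalizedModule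
      Q.primeCompl (Algebra.linearMap R (Localization.AtPrime Q))
    have := Localization.AtPrime.under_maximalIdeal (I := Q)
    rw [Ideal.under_def] at this
    rw [this]
    exact hQ
  have h1 := hasProjectiveDimensionLT_localizedModule Q.primeCompl M n h
  have h2 : HasProjectiveDimensionLT (ModuleCat.of (Localization.AtPrime Q)
      (LocalizedModule Q.primeCompl M)) (n + 1) :=
    hasProjectiveDimensionLT_of_ge _ n (n + 1) (Nat.le_succ n)
  have h3 : Module.Projective (Localization.AtPrime Q) (LocalizedModule Q.primeCompl M) :=
    projective_of_maximalIdeal_mem_ass (Localization.AtPrime Q) hass n _ h2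
  exact Module.free_of_flat_of_isLocalRing

/-- Auslander–Buchsbaum: a nonzero ideal of finite projective dimension in a Noetherian local
ring is not contained in any associated prime of the ring. -/
theorem not_le_of_mem_ass (R : Type u) [CommRing R] [IsLocalRing R] [IsNoetherianRing R]
    (I : Ideal R) (hI : I ≠ ⊥) (n : ℕ) (hpd : HasProjectiveDimensionLT (ModuleCat.of R I) n)
    (P : Ideal R) (hP : P ∈ associatedPrimes R R) : ¬ I ≤ P := by
  intro hIP
  have hfree : ∀ (Q : Ideal R) [Q.IsPrime], Q ∈ associatedPrimes R R →
      Module.Free (Localization.AtPrime Q) (LocalizedModule Q.primeCompl I) :=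
    fun Q _ hQ => localizedModule_free_of_mem_ass R Q hQ I n hpd
  have hP' : IsAssociatedPrime P R := hP
  have hPprime : P.IsPrime := hP'.isPrime
  obtain ⟨_, z, hz⟩ := isAssociatedPrime_iff.mp hP'
  -- the localization of `I` at `P` is zero
  have hzero : Subsingleton (LocalizedModule P.primeCompl I) := by
    have := hfree P hP
    refine subsingleton_of_free_of_smul_eq_zero (R := Localization.AtPrime P)
      (LocalizedModule P.primeCompl I) (algebraMap R (Localization.AtPrime P) z) ?_ ?_
    · intro h0
      obtain ⟨s, hs⟩ := (IsLocalization.map_eq_zero_iff P.primeCompl _ z).mp h0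
      have : (s : R) ∈ (⊥ : Submodule R R).colon {z} := by
        rw [Submodule.mem_colon_singleton]
        exact hs
      rw [← hz] at this
      exact s.2 this
    · intro y
      induction y using LocalizedModule.induction_on with
      | h a s =>
        rw [algebraMap_smul, LocalizedModule.smul'_mk]
        have ha : (a : R) ∈ P := hIP a.2
        rw [hz, Submodule.mem_colon_singleton] at ha
        have : z • a = 0 := by
          ext
          simp only [Submodule.coe_smul, smul_eq_mul, Submodule.coe_zero]
          rw [mul_comm]; exact ha
        rw [this, LocalizedModule.zero_mk]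
  have hrank0 : Module.finrank (Localization.AtPrime P) (LocalizedModule P.primeCompl I) = 0 :=
    Module.finrank_zero_of_subsingleton
  apply hI
  rw [eq_bot_iff]
  intro a ha
  rw [Submodule.mem_bot]
  by_contra ha0
  obtain ⟨Q, hQ, hle⟩ := exists_le_isAssociatedPrime_of_isNoetherianRing R a ha0
  have hQprime : Q.IsPrime := hQ.isPrime
  have hfQ := hfree Q hQ
  have hfP := hfree P hP
  have hr := finrank_localizedModule_eq R n I hpd Q P hfQ hfP
  rw [hrank0] at hr
  have hsub : Subsingleton (LocalizedModule Q.primeCompl I) :=
    (Module.finrank_eq_zero_iff_of_free (Localization.AtPrime Q) _).mp hr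
  have h0 : LocalizedModule.mk (⟨a, ha⟩ : I) (1 : Q.primeCompl) = 0 := Subsingleton.elim _ _
  rw [← LocalizedModule.zero_mk (1 : Q.primeCompl), LocalizedModule.mk_eq] at h0
  obtain ⟨s, hs⟩ := h0
  rw [smul_zero] at hs
  have hsQ : (s : R) ∈ Q := by
    apply hle
    rw [Submodule.mem_colon_singleton]
    have := congrArg Subtype.val hs
    simpa [Submonoid.smul_def] using this
  exact s.2 hsQ

end Groth.Agent.Lib.Helper33.EulerChar
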