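import Mathlib

/-!
# `Ext^p(M, Y) ≃ Hom(Hom(A/J, M), Ext^p(A/J, Y))` when `Ext^i(N, Y) = 0` for `i < p` and `J N = 0`

Helper library (helper33) for S5672.
-/

set_option autoImplicit false
universe u
open CategoryTheory Abelian

namespace Groth.Agent.Lib.Helper33.ExtHomQuot

variable {A : Type u} [CommRing A]

/-- The map `A ⧸ J → N`, `1 ↦ x`, for `x` killed by `J`. -/
noncomputable def quotToModule (J : Ideal A) {N : Type u} [AddCommGroup N] [Module A N]
    (hN : ∀ a ∈ J, ∀ x : N, a • x = 0) (x : N) : (A ⧸ J) →ₗ[A] N :=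
  Submodule.liftQ J (LinearMap.toSpanSingleton A N x) (by
    intro a ha
    simp only [LinearMap.mem_ker, LinearMap.toSpanSingleton_apply]
    exact hN a ha x)

lemma quotToModule_mk (J : Ideal A) {N : Type u} [AddCommGroup N] [Module A N]
    (hN : ∀ a ∈ J, ∀ x : N, a • x = 0) (x : N) (a : A) :
    quotToModule J hN x (Ideal.Quotient.mk J a) = a • x := by
  show Submodule.liftQ J (LinearMap.toSpanSingleton A N x) _ (Submodule.Quotient.mk a) = _
  rw [Submodule.liftQ_apply]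
  simp

/-- Every linear map out of `A ⧸ J` is `quotToModule` of the image of `1`. -/
lemma eq_quotToModule (J : Ideal A) {N : Type u} [AddCommGroup N] [Module A N]
    (hN : ∀ a ∈ J, ∀ x : N, a • x = 0) (u : (A ⧸ J) →ₗ[A] N) :
    u = quotToModule J hN (u 1) := by
  refine LinearMap.ext fun x => ?_
  obtain ⟨a, rfl⟩ := Ideal.Quotient.mk_surjective x
  rw [quotToModule_mk, ← map_smul]
  congr 1
  rw [Algebra.smul_def, mul_one]
  rfl

/-- The free `A ⧸ J`-module `Fin n → A ⧸ J` is killed by `J`. -/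
lemma pi_killed (J : Ideal A) (n : ℕ) : ∀ a ∈ J, ∀ x : (Fin n → A ⧸ J), a • x = 0 := by
  intro a ha x
  ext k
  obtain ⟨b, hb⟩ := Ideal.Quotient.mk_surjective (x k)
  rw [Pi.smul_apply, ← hb, Pi.zero_apply, Algebra.smul_def]
  show Ideal.Quotient.mk J a * _ = 0
  rw [Ideal.Quotient.eq_zero_iff_mem.mpr ha, zero_mul]

/-- A finite module killed by `J` is a quotient of some `(A ⧸ J)^n`. -/
lemma exists_surjective (J : Ideal A) (N : Type u) [AddCommGroup N] [Module A N]
    [Module.Finite A N] (hN : ∀ a ∈ J, ∀ x : N, a • x = 0) :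
    ∃ (n : ℕ) (π : (Fin n → A ⧸ J) →ₗ[A] N), Function.Surjective π := by
  obtain ⟨n, s, hs⟩ := Module.Finite.exists_fin (R := A) (M := N)
  refine ⟨n, ∑ k, (quotToModule J hN (s k)) ∘ₗ (LinearMap.proj k), ?_⟩
  intro x
  have hx : x ∈ Submodule.span A (Set.range s) := hs ▸ Submodule.mem_top
  obtain ⟨c, rfl⟩ := (Submodule.mem_span_range_iff_exists_fun A).mp hx
  refine ⟨fun k => Ideal.Quotient.mk J (c k), ?_⟩
  simp [quotToModule_mk]

section

variable (J : Ideal A) (Y : ModuleCat.{u} A) (p : ℕ)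

/-- A class on `(A ⧸ J)^n` is the sum of its components. -/
lemma eq_sum_proj_comp_single (n : ℕ) (ζ : Ext (ModuleCat.of A (Fin n → A ⧸ J)) Y p) :
    ζ = ∑ k, (Ext.mk₀ (ModuleCat.ofHom (LinearMap.proj (R := A) (φ := fun _ : Fin n => A ⧸ J) k))).comp
      ((Ext.mk₀ (ModuleCat.ofHom (LinearMap.single A (fun _ : Fin n => A ⧸ J) k))).comp ζ
        (zero_add p)) (zero_add p) := by
  conv_lhs => rw [← Ext.mk₀_id_comp ζ]
  have : (𝟙 (ModuleCat.of A (Fin n → A ⧸ J))) = ∑ k,
      ModuleCat.ofHom (LinearMap.proj (R := A) (φ := fun _ : Fin n => A ⧸ J) k) ≫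
      ModuleCat.ofHom (LinearMap.single A (fun _ : Fin n => A ⧸ J) k) := by
    ext x
    simp
  rw [this, Ext.mk₀_sum, Ext.sum_comp]
  refine Finset.sum_congr rfl fun k _ => ?_
  rw [← Ext.mk₀_comp_mk₀, Ext.comp_assoc_of_second_deg_zero]

end

section

variable (J : Ideal A) (Y : ModuleCat.{u} A) (p : ℕ) {M : Type u} [AddCommGroup M] [Module A M]
  (n : ℕ) (π : (Fin n → A ⧸ J) →ₗ[A] M)
  (g : ((A ⧸ J) →ₗ[A] M) →ₗ[A] Ext (ModuleCat.of A (A ⧸ J)) Y p)

/-- The class on `(A ⧸ J)^n` whose `k`-th component is `g (π ∘ ι_k)`. -/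
noncomputable def eta : Ext (ModuleCat.of A (Fin n → A ⧸ J)) Y p :=
  ∑ k, (Ext.mk₀ (ModuleCat.ofHom
    (LinearMap.proj (R := A) (φ := fun _ : Fin n => A ⧸ J) k))).comp
      (g (π ∘ₗ LinearMap.single A (fun _ : Fin n => A ⧸ J) k)) (zero_add p)

lemma comp_eta (v : (A ⧸ J) →ₗ[A] (Fin n → A ⧸ J)) :
    (Ext.mk₀ (ModuleCat.ofHom v)).comp (eta J Y p n π g) (zero_add p) = g (π ∘ₗ v) := by
  choose c hc using fun k => Ideal.Quotient.mk_surjective (v 1 k)
  have h1 : ∀ k, LinearMap.proj (R := A) (φ := fun _ : Fin n => A ⧸ J) k ∘ₗ v =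
      c k • LinearMap.id := by
    intro k
    ext
    simp only [LinearMap.coe_comp, Function.comp_apply, LinearMap.proj_apply, LinearMap.smul_apply,
      LinearMap.id_coe, id_eq]
    have e1 : (Submodule.mkQ J) (1 : A) = (1 : A ⧸ J) := rfl
    rw [e1, ← hc k, Algebra.smul_def, mul_one]
    rfl
  have h2 : π ∘ₗ v = ∑ k, c k • (π ∘ₗ LinearMap.single A (fun _ : Fin n => A ⧸ J) k) := by
    ext
    have e1 : (Submodule.mkQ J) (1 : A) = (1 : A ⧸ J) := rfl
    have e2 : v 1 = ∑ k, c k • (LinearMap.single A (fun _ : Fin n => A ⧸ J) k 1) := by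
      ext j
      rw [Finset.sum_apply, Finset.sum_eq_single j]
      · rw [Pi.smul_apply, LinearMap.single_apply, Pi.single_eq_same, ← hc j, Algebra.smul_def,
          mul_one]
        rfl
      · intro b _ hb
        rw [Pi.smul_apply, LinearMap.single_apply, Pi.single_eq_of_ne hb.symm, smul_zero]
      · intro h
        exact absurd (Finset.mem_univ j) h
    simp only [LinearMap.coe_comp, Function.comp_apply, e1, LinearMap.sum_apply,
      LinearMap.smul_apply]
    rw [e2, map_sum]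
    simp only [map_smul]
  rw [eta, Ext.comp_sum, h2, map_sum]
  refine Finset.sum_congr rfl fun k _ => ?_
  rw [← Ext.comp_assoc_of_second_deg_zero, Ext.mk₀_comp_mk₀, ← ModuleCat.ofHom_comp, h1, map_smul]
  have : ModuleCat.ofHom (c k • (LinearMap.id : (A ⧸ J) →ₗ[A] (A ⧸ J))) =
      c k • 𝟙 (ModuleCat.of A (A ⧸ J)) := rfl
  rw [this, Ext.mk₀_smul, Ext.smul_comp, Ext.mk₀_id_comp]

end

section

variable [IsNoetherianRing A] (J : Ideal A) (Y : ModuleCat.{u} A) (p : ℕ)
  (hvan : ∀ (N : Type u) [AddCommGroup N] [Module A N] [Module.Finite A N],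
    (∀ a ∈ J, ∀ x : N, a • x = 0) → ∀ i, i < p → Subsingleton (Ext (ModuleCat.of A N) Y i))

include hvan

/-- Pullback along a surjection of `J`-killed finite modules is injective on `Ext^p(-, Y)`. -/
lemma eq_zero_of_surjective {N M : Type u} [AddCommGroup N] [Module A N] [Module.Finite A N]
    [AddCommGroup M] [Module A M] (hN : ∀ a ∈ J, ∀ x : N, a • x = 0) (f : N →ₗ[A] M)
    (hf : Function.Surjective f) (ξ : Ext (ModuleCat.of A M) Y p)
    (h : (Ext.mk₀ (ModuleCat.ofHom f)).comp ξ (zero_add p) = 0) : ξ = 0 := by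
  have hS := LinearMap.shortExact_shortComplexKer hf
  cases p with
  | zero =>
    have : Epi (ModuleCat.ofHom f) := (ModuleCat.epi_iff_surjective _).mpr hf
    exact Ext.precomp_mk₀_injective_of_epi Y (ModuleCat.ofHom f) (by simpa using h)
  | succ q =>
    obtain ⟨x₁, rfl⟩ := Ext.contravariant_sequence_exact₃ hS Y ξ h (n₀ := q) (by omega)
    have : Subsingleton (Ext (ModuleCat.of A (LinearMap.ker f)) Y q) :=
      hvan _ (fun a ha x => Subtype.ext (hN a ha x.1)) q (by omega)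
    rw [Subsingleton.elim x₁ 0, Ext.comp_zero]

/-- A class in `Ext^p(N, Y)` (with `N` finite, `J N = 0`) is zero as soon as all its pullbacks along
maps `A ⧸ J → N` vanish. -/
lemma eq_zero_of_forall_comp_eq_zero {N : Type u} [AddCommGroup N] [Module A N] [Module.Finite A N]
    (hN : ∀ a ∈ J, ∀ x : N, a • x = 0) (ξ : Ext (ModuleCat.of A N) Y p)
    (h : ∀ u : (A ⧸ J) →ₗ[A] N, (Ext.mk₀ (ModuleCat.ofHom u)).comp ξ (zero_add p) = 0) : ξ = 0 := by
  obtain ⟨n, π, hπ⟩ := exists_surjective J N hN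
  refine eq_zero_of_surjective J Y p hvan (pi_killed J n) π hπ ξ ?_
  rw [eq_sum_proj_comp_single J Y p n ((Ext.mk₀ (ModuleCat.ofHom π)).comp ξ (zero_add p))]
  refine Finset.sum_eq_zero fun k _ => ?_
  have : (Ext.mk₀ (ModuleCat.ofHom (LinearMap.single A (fun _ : Fin n => A ⧸ J) k))).comp
      ((Ext.mk₀ (ModuleCat.ofHom π)).comp ξ (zero_add p)) (zero_add p) = 0 := by
    rw [← Ext.comp_assoc_of_second_deg_zero, Ext.mk₀_comp_mk₀, ← ModuleCat.ofHom_comp, h]
  rw [this, Ext.comp_zero]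

/-- The main statement: `ξ ↦ (u ↦ u^* ξ)` is a bijection
`Ext^p(M, Y) → Hom_A(Hom_A(A ⧸ J, M), Ext^p(A ⧸ J, Y))`. -/
theorem main (M : Type u) [AddCommGroup M] [Module A M] [Module.Finite A M]
    (hM : ∀ a ∈ J, ∀ x : M, a • x = 0) :
    Function.Injective (fun ξ : Ext (ModuleCat.of A M) Y p => fun u : (A ⧸ J) →ₗ[A] M =>
      (Ext.mk₀ (ModuleCat.ofHom u)).comp ξ (zero_add p)) ∧
    ∀ g : ((A ⧸ J) →ₗ[A] M) →ₗ[A] Ext (ModuleCat.of A (A ⧸ J)) Y p,
      ∃ ξ : Ext (ModuleCat.of A M) Y p, ∀ u : (A ⧸ J) →ₗ[A] M,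
        g u = (Ext.mk₀ (ModuleCat.ofHom u)).comp ξ (zero_add p) := by
  refine ⟨?_, ?_⟩
  · intro ξ₁ ξ₂ h
    rw [← sub_eq_zero]
    refine eq_zero_of_forall_comp_eq_zero J Y p hvan hM _ fun u => ?_
    have := congrFun h u
    simp only at this
    rw [sub_eq_add_neg, Ext.comp_add, Ext.comp_neg, this, add_neg_cancel]
  · intro g
    obtain ⟨n, π, hπ⟩ := exists_surjective J M hM
    have hS := LinearMap.shortExact_shortComplexKer hπ
    have hK : ∀ a ∈ J, ∀ x : LinearMap.ker π, a • x = 0 :=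
      fun a ha x => Subtype.ext (pi_killed J n a ha x.1)
    -- the class `η` restricts to zero on the kernel
    have h0 : (Ext.mk₀ (ModuleCat.ofHom (LinearMap.ker π).subtype)).comp (eta J Y p n π g)
        (zero_add p) = 0 := by
      refine eq_zero_of_forall_comp_eq_zero J Y p hvan hK _ fun u => ?_
      rw [← Ext.comp_assoc_of_second_deg_zero, Ext.mk₀_comp_mk₀, ← ModuleCat.ofHom_comp, comp_eta]
      have : π ∘ₗ (LinearMap.ker π).subtype ∘ₗ u = 0 := by
        refine LinearMap.ext fun x => ?_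
        exact (u x).2
      rw [this, map_zero]
    obtain ⟨ξ, hξ⟩ := Ext.contravariant_sequence_exact₂ hS Y (eta J Y p n π g) h0
    refine ⟨ξ, fun u => ?_⟩
    obtain ⟨f, hf⟩ := hπ (u 1)
    have hu : u = π ∘ₗ quotToModule J (pi_killed J n) f := by
      rw [eq_quotToModule J hM u]
      refine LinearMap.ext fun x => ?_
      obtain ⟨a, rfl⟩ := Ideal.Quotient.mk_surjective x
      rw [LinearMap.comp_apply, quotToModule_mk, quotToModule_mk, map_smul, hf]
    have hξ' : (Ext.mk₀ (ModuleCat.ofHom π)).comp ξ (zero_add p) = eta J Y p n π g := hξ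
    conv_rhs => rw [hu, ModuleCat.ofHom_comp, ← Ext.mk₀_comp_mk₀,
      Ext.comp_assoc_of_second_deg_zero, hξ', comp_eta, ← hu]

end

end Groth.Agent.Lib.Helper33.ExtHomQuot
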