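import Mathlib
import Groth.Agent.Lib.Helper29.ExtCyclic

/-!
# Ext into the ring detects projective dimension (helper33)

* `ext_subsingleton_of_surjective`: if `Ext^(s+1)(M, -) = 0` and `Ext^s(M, L) = 0` then
  `Ext^s(M, L'') = 0` for every quotient `L''` of `L`.
* `ext_subsingleton_pi`: `Ext^s(M, A) = 0 ⇒ Ext^s(M, A^r) = 0`.
* `ext_subsingleton_of_finite`: if `pd M ≤ s` and `Ext^s(M, A) = 0` then `Ext^s(M, L) = 0` for all
  finite `L`.
* `hasProjectiveDimensionLT_of_ext_self`: `A` Noetherian, `M` finite, `pd M ≤ s`, `Ext^s(M, A) = 0`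
  implies `pd M < s`.
-/

set_option autoImplicit false
universe u

namespace Groth.Agent.Lib.Helper33

open CategoryTheory Abelian

variable {A : Type u} [CommRing A]

theorem ext_subsingleton_of_surjective (M : ModuleCat.{u} A) (s : ℕ)
    [HasProjectiveDimensionLT M (s + 1)] {L L' : Type u} [AddCommGroup L] [Module A L]
    [AddCommGroup L'] [Module A L'] (f : L →ₗ[A] L') (hf : Function.Surjective f)
    (h : Subsingleton (Ext M (ModuleCat.of A L) s)) :
    Subsingleton (Ext M (ModuleCat.of A L') s) := by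
  have hS := LinearMap.shortExact_shortComplexKer hf
  refine ⟨fun x y => ?_⟩
  have key : ∀ z : Ext M (ModuleCat.of A L') s, z = 0 := by
    intro z
    obtain ⟨x₂, hx₂⟩ := Ext.covariant_sequence_exact₃ M hS z rfl
      (Ext.eq_zero_of_hasProjectiveDimensionLT _ (s + 1) le_rfl)
    rw [← hx₂, h.elim x₂ 0, Ext.zero_comp]
  rw [key x, key y]

theorem ext_subsingleton_of_shortExact (M : ModuleCat.{u} A) (s : ℕ)
    {S : ShortComplex (ModuleCat.{u} A)} (hS : S.ShortExact)
    (h₁ : Subsingleton (Ext M S.X₁ s)) (h₃ : Subsingleton (Ext M S.X₃ s)) :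
    Subsingleton (Ext M S.X₂ s) := by
  refine ⟨fun x y => ?_⟩
  have key : ∀ z : Ext M S.X₂ s, z = 0 := by
    intro z
    obtain ⟨x₁, hx₁⟩ := Ext.covariant_sequence_exact₂ M hS z (h₃.elim _ _)
    rw [← hx₁, h₁.elim x₁ 0, Ext.zero_comp]
  rw [key x, key y]

/-- kernel of dropping the first coordinate is the ring -/
noncomputable def kerTailEquiv (A : Type u) [CommRing A] (r : ℕ) :
    LinearMap.ker (LinearMap.funLeft A A (Fin.succ : Fin r → Fin (r + 1))) ≃ₗ[A] A :=
  LinearEquiv.ofBijective
    ((LinearMap.proj (0 : Fin (r + 1))).comp (LinearMap.ker (LinearMap.funLeft A A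
      (Fin.succ : Fin r → Fin (r + 1)))).subtype) (by
    constructor
    · rw [← LinearMap.ker_eq_bot, LinearMap.ker_eq_bot']
      rintro ⟨v, hv⟩ h0
      apply Subtype.ext
      rw [LinearMap.mem_ker] at hv
      funext i
      refine Fin.cases ?_ (fun j => ?_) i
      · exact h0
      · exact congrFun hv j
    · intro a
      refine ⟨⟨Pi.single 0 a, ?_⟩, ?_⟩
      · rw [LinearMap.mem_ker]
        funext j
        simp [LinearMap.funLeft_apply, Fin.succ_ne_zero]
      · simp)

theorem ext_subsingleton_pi (M : ModuleCat.{u} A) (s : ℕ)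
    (h : Subsingleton (Ext M (ModuleCat.of A A) s)) (r : ℕ) :
    Subsingleton (Ext M (ModuleCat.of A (Fin r → A)) s) := by
  induction r with
  | zero =>
    have hz : Limits.IsZero (ModuleCat.of A (Fin 0 → A)) := ModuleCat.isZero_of_subsingleton _
    have key : ∀ z : Ext M (ModuleCat.of A (Fin 0 → A)) s, z = 0 := by
      intro z
      rw [← Ext.comp_mk₀_id z, hz.eq_of_src (𝟙 _) 0, Ext.mk₀_zero, Ext.comp_zero]
    exact ⟨fun x y => by rw [key x, key y]⟩
  | succ r ih =>
    have hsurj : Function.Surjective (LinearMap.funLeft A A (Fin.succ : Fin r → Fin (r + 1))) :=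
      LinearMap.funLeft_surjective_of_injective A A _ (Fin.succ_injective r)
    have hS := LinearMap.shortExact_shortComplexKer hsurj
    refine ext_subsingleton_of_shortExact M s hS ?_ ih
    exact Groth.Agent.Lib.Helper29.ext_subsingleton_of_iso A
      (kerTailEquiv A r).symm.toModuleIso s h

theorem ext_subsingleton_of_finite (M : ModuleCat.{u} A) (s : ℕ)
    [HasProjectiveDimensionLT M (s + 1)]
    (h : Subsingleton (Ext M (ModuleCat.of A A) s))
    (L : Type u) [AddCommGroup L] [Module A L] [Module.Finite A L] :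
    Subsingleton (Ext M (ModuleCat.of A L) s) := by
  obtain ⟨r, f, hf⟩ := Module.Finite.exists_fin' A L
  exact ext_subsingleton_of_surjective M s f hf (ext_subsingleton_pi M s h r)

theorem hasProjectiveDimensionLT_of_ext_self [IsNoetherianRing A] (M : ModuleCat.{u} A)
    [Module.Finite A M] (s : ℕ) [HasProjectiveDimensionLT M (s + 1)]
    (h : Subsingleton (Ext M (ModuleCat.of A A) s)) : HasProjectiveDimensionLT M s := by
  apply ModuleCat.hasProjectiveDimensionLT_of_forall_finite
  intro L hL
  exact ext_subsingleton_of_finite M s h L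

end Groth.Agent.Lib.Helper33
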