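import Mathlib
import Groth.Agent.S4366

/-!
# Pointwise flatness and base change
-/

set_option autoImplicit false
set_option maxHeartbeats 800000
set_option backward.isDefEq.respectTransparency.types false
universe u
open CategoryTheory CategoryTheory.Limits AlgebraicGeometry TopologicalSpace

namespace Groth.Agent.Lib.Helper33.FibreBC

/-- Pointwise flatness is stable under base change: in a cartesian square, if `f` is flat at
`g' x'` then `f'` is flat at `x'`. -/
theorem flat_stalkMap_baseChange {X Y X' Y' : Scheme.{u}} (f : X ⟶ Y) (g : Y' ⟶ Y)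
    (f' : X' ⟶ Y') (g' : X' ⟶ X) (hsq : IsPullback g' f' f g) (x' : X')
    (hflat : (f.stalkMap (g'.base x')).hom.Flat) : (f'.stalkMap x').hom.Flat := by
  have h1 : Flat (Spec.map (f.stalkMap (g'.base x'))) := Flat.SpecMap_iff.mpr hflat
  have h2 : Flat (Y.fromSpecStalk (f.base (g'.base x'))) :=
    Groth.Agent.S4366.flat_fromSpecStalk Y _
  have h3 : Flat (X.fromSpecStalk (g'.base x') ≫ f) := by
    rw [← Scheme.SpecMap_stalkMap_fromSpecStalk]
    infer_instance
  -- the auxiliary fibre product
  let a := X.fromSpecStalk (g'.base x') ≫ f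
  let b := Y'.fromSpecStalk (f'.base x') ≫ g
  have hsnd : Flat (pullback.snd a b) := inferInstance
  let j : pullback a b ⟶ X' :=
    hsq.lift (pullback.fst a b ≫ X.fromSpecStalk (g'.base x'))
      (pullback.snd a b ≫ Y'.fromSpecStalk (f'.base x'))
      (by simpa [a, b] using pullback.condition (f := a) (g := b))
  have hj1 : j ≫ g' = pullback.fst a b ≫ X.fromSpecStalk (g'.base x') := hsq.lift_fst _ _ _
  have hj2 : j ≫ f' = pullback.snd a b ≫ Y'.fromSpecStalk (f'.base x') := hsq.lift_snd _ _ _
  have hjmono : Mono j := by
    constructor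
    intro Z u v huv
    apply pullback.hom_ext
    · rw [← cancel_mono (X.fromSpecStalk (g'.base x')), Category.assoc, Category.assoc, ← hj1,
        ← Category.assoc, ← Category.assoc, huv]
    · rw [← cancel_mono (Y'.fromSpecStalk (f'.base x')), Category.assoc, Category.assoc, ← hj2,
        ← Category.assoc, ← Category.assoc, huv]
  let h : Spec (X'.presheaf.stalk x') ⟶ pullback a b :=
    pullback.lift (Spec.map (g'.stalkMap x')) (Spec.map (f'.stalkMap x')) (by
      simp only [a, b]
      rw [← Category.assoc, ← Category.assoc, Scheme.SpecMap_stalkMap_fromSpecStalk,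
        Scheme.SpecMap_stalkMap_fromSpecStalk, Category.assoc, Category.assoc, hsq.w])
  have hh1 : h ≫ pullback.fst a b = Spec.map (g'.stalkMap x') := pullback.lift_fst _ _ _
  have hh2 : h ≫ pullback.snd a b = Spec.map (f'.stalkMap x') := pullback.lift_snd _ _ _
  have hhj : h ≫ j = X'.fromSpecStalk x' := by
    apply hsq.hom_ext
    · rw [Category.assoc, hj1, ← Category.assoc, hh1, Scheme.SpecMap_stalkMap_fromSpecStalk]
    · rw [Category.assoc, hj2, ← Category.assoc, hh2, Scheme.SpecMap_stalkMap_fromSpecStalk]
  have hhflat : Flat h := by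
    have : Flat (h ≫ j) := by
      rw [hhj]; exact Groth.Agent.S4366.flat_fromSpecStalk X' x'
    exact MorphismProperty.of_postcomp (W := @Flat) (W' := MorphismProperty.monomorphisms _)
      h j hjmono this
  have : Flat (Spec.map (f'.stalkMap x')) := by
    rw [← hh2]; infer_instance
  exact Flat.SpecMap_iff.mp this

end Groth.Agent.Lib.Helper33.FibreBC
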