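import Mathlib
import Groth.Agent.S4366

/-!
# Noetherian stalks after an essentially finite type field base change
-/

set_option autoImplicit false
set_option maxHeartbeats 800000
set_option backward.isDefEq.respectTransparency.types false
universe u
open CategoryTheory CategoryTheory.Limits AlgebraicGeometry TopologicalSpace

namespace Groth.Agent.Lib.Helper33.FibreBC

theorem mono_SpecMap_of_epi {R S : CommRingCat.{u}} (f : R ⟶ S) [Epi f] : Mono (Spec.map f) := by
  have : Mono f.op := inferInstance
  have : Mono (Scheme.Spec.map f.op) := inferInstance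
  exact this

/-- Base change of a locally Noetherian `k`-scheme along an essentially finite type extension
`K / k` has Noetherian local rings. -/
theorem isNoetherianRing_stalk_of_essFiniteType {Z W : Scheme.{u}} {k K : Type u}
    [Field k] [Field K] [Algebra k K] [Algebra.EssFiniteType k K]
    (p : Z ⟶ Spec (CommRingCat.of k)) (q : W ⟶ Spec (CommRingCat.of K)) (H : W ⟶ Z)
    (hsq : IsPullback H q p (Spec.map (CommRingCat.ofHom (algebraMap k K))))
    [IsLocallyNoetherian Z] (w : W) : IsNoetherianRing (W.presheaf.stalk w) := by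
  let C := Algebra.EssFiniteType.subalgebra k K
  let ιC : CommRingCat.of k ⟶ CommRingCat.of C := CommRingCat.ofHom (algebraMap k C)
  let ιK : CommRingCat.of C ⟶ CommRingCat.of K := CommRingCat.ofHom (algebraMap C K)
  have hcomp : CommRingCat.ofHom (algebraMap k K) = ιC ≫ ιK := by
    ext x
    rfl
  haveI : LocallyOfFiniteType (Spec.map ιC) := by
    rw [HasRingHomProperty.Spec_iff (P := @LocallyOfFiniteType)]
    exact RingHom.finiteType_algebraMap.mpr inferInstance
  haveI : Flat (Spec.map ιK) := by
    rw [Flat.SpecMap_iff]
    exact RingHom.flat_algebraMap_iff.mpr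
      (IsLocalization.flat K (Algebra.EssFiniteType.submonoid k K))
  haveI : Epi ιK := IsLocalization.epi (Algebra.EssFiniteType.submonoid k K) K
  haveI : Mono (Spec.map ιK) := mono_SpecMap_of_epi ιK
  -- the intermediate scheme
  let ZC := pullback p (Spec.map ιC)
  haveI : LocallyOfFiniteType (pullback.fst p (Spec.map ιC)) := inferInstance
  haveI : IsLocallyNoetherian ZC :=
    LocallyOfFiniteType.isLocallyNoetherian (pullback.fst p (Spec.map ιC))
  let m : W ⟶ ZC := pullback.lift H (q ≫ Spec.map ιK) (by
    rw [Category.assoc, ← Spec.map_comp, ← hcomp, hsq.w])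
  have hm1 : m ≫ pullback.fst p (Spec.map ιC) = H := pullback.lift_fst _ _ _
  have hm2 : m ≫ pullback.snd p (Spec.map ιC) = q ≫ Spec.map ιK := pullback.lift_snd _ _ _
  have hpb : IsPullback m q (pullback.snd p (Spec.map ιC)) (Spec.map ιK) := by
    refine IsPullback.of_right (h₁₂ := pullback.fst p (Spec.map ιC)) (v₁₃ := p)
      (h₂₂ := Spec.map ιC) ?_ hm2 (IsPullback.of_hasPullback p (Spec.map ιC))
    rw [hm1, ← Spec.map_comp, ← hcomp]
    exact hsq
  haveI : Flat m := MorphismProperty.of_isPullback hpb.flip inferInstance
  haveI : Mono m :=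
    MorphismProperty.of_isPullback (P := MorphismProperty.monomorphisms Scheme.{u}) hpb.flip
      (inferInstanceAs (Mono (Spec.map ιK)))
  haveI := Groth.Agent.S4366.isIso_stalkMap_of_flat_of_mono m w
  exact isNoetherianRing_of_ringEquiv _ (asIso (m.stalkMap w)).commRingCatIsoToRingEquiv

end Groth.Agent.Lib.Helper33.FibreBC
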