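import Mathlib
import Groth.Agent.Lib.Helper33.FibreBC6
import Groth.Agent.Lib.Helper33.FibreBC7
import Groth.Agent.Lib.Helper33.FibreBC8
import Groth.Agent.Lib.Helper40.FlatDescentSrc

/-!
# Gorenstein / Cohen–Macaulay at a point and base change along a locally finite type morphism
-/

set_option autoImplicit false
set_option maxHeartbeats 800000
set_option backward.isDefEq.respectTransparency.types false
universe u
open CategoryTheory CategoryTheory.Limits AlgebraicGeometry TopologicalSpace

namespace Groth.Agent.Lib.Helper33.FibreBC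

open IsLocalRing

/-- Descent of pointwise flatness: if `f'` is flat at `x'` and `g` is flat at `f' x'`, then `f` is
flat at `g' x'`. -/
theorem flat_stalkMap_of_baseChange_of_base_flat {X Y X' Y' : Scheme.{u}} (f : X ⟶ Y) (g : Y' ⟶ Y)
    (f' : X' ⟶ Y') (g' : X' ⟶ X) (hsq : IsPullback g' f' f g) (x' : X')
    (hg : (g.stalkMap (f'.base x')).hom.Flat) (hf' : (f'.stalkMap x').hom.Flat) :
    (f.stalkMap (g'.base x')).hom.Flat := by
  have hg' : (g'.stalkMap x').hom.Flat := flat_stalkMap_baseChange g f g' f' hsq.flip x' hg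
  have h1 : ((f' ≫ g).stalkMap x').hom.Flat := by
    rw [Scheme.Hom.stalkMap_comp]
    exact RingHom.Flat.comp hg hf'
  rw [← hsq.w] at h1
  rw [Scheme.Hom.stalkMap_comp] at h1
  exact Groth.Agent.Lib.Helper40.FlatDescentSrc.ringHom_flat_of_comp
    (f.stalkMap (g'.base x')).hom (g'.stalkMap x').hom hg' h1

/-- Noetherianity of the local ring of the fibre of the base change. -/
theorem isNoetherianRing_fibre_stalk_baseChange {X Y X' Y' : Scheme.{u}} (f : X ⟶ Y) (g : Y' ⟶ Y)
    (f' : X' ⟶ Y') (g' : X' ⟶ X) (hsq : IsPullback g' f' f g) (x' : X')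
    (hN : ∀ y : Y, IsLocallyNoetherian (f.fiber y)) [LocallyOfFiniteType g] :
    IsNoetherianRing ((f'.fiber (f'.base x')).presheaf.stalk (f'.asFiber x')) := by
  have hpb := isPullback_fibreMap f g f' g' hsq (f'.base x')
  letI : Algebra (ResidueField (Y.presheaf.stalk (g.base (f'.base x'))))
      (ResidueField (Y'.presheaf.stalk (f'.base x'))) :=
    (g.residueFieldMap (f'.base x')).hom.toAlgebra
  haveI : Algebra.EssFiniteType (ResidueField (Y.presheaf.stalk (g.base (f'.base x'))))
      (ResidueField (Y'.presheaf.stalk (f'.base x'))) :=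
    essFiniteType_residueFieldMap g (f'.base x')
  haveI := hN (g.base (f'.base x'))
  exact isNoetherianRing_stalk_of_essFiniteType
    (k := ResidueField (Y.presheaf.stalk (g.base (f'.base x'))))
    (K := ResidueField (Y'.presheaf.stalk (f'.base x')))
    (f.fiberToSpecResidueField (g.base (f'.base x'))) (f'.fiberToSpecResidueField (f'.base x'))
    (fibreMap f g f' g' hsq (f'.base x')) hpb (f'.asFiber x')

/-- Version of `fibre_stalk_baseChange_iff` with locally Noetherian fibres of `f` and `g` locally
of finite type. -/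
theorem fibre_stalk_baseChange_iff' {X Y X' Y' : Scheme.{u}} (f : X ⟶ Y) (g : Y' ⟶ Y)
    (f' : X' ⟶ Y') (g' : X' ⟶ X) (hsq : IsPullback g' f' f g) (x' : X')
    (hN : ∀ y : Y, IsLocallyNoetherian (f.fiber y)) [LocallyOfFiniteType g] :
    (LocCoh.IsGorensteinLocalRing ((f'.fiber (f'.base x')).presheaf.stalk (f'.asFiber x')) ↔
      LocCoh.IsGorensteinLocalRing
        ((f.fiber (f.base (g'.base x'))).presheaf.stalk (f.asFiber (g'.base x')))) ∧
    (LocCoh.IsCohenMacaulayLocalRing ((f'.fiber (f'.base x')).presheaf.stalk (f'.asFiber x')) ↔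
      LocCoh.IsCohenMacaulayLocalRing
        ((f.fiber (f.base (g'.base x'))).presheaf.stalk (f.asFiber (g'.base x')))) := by
  haveI := isNoetherianRing_fibre_stalk_baseChange f g f' g' hsq x' hN
  haveI := hN (f.base (g'.base x'))
  exact fibre_stalk_baseChange_iff f g f' g' hsq x' (Or.inl inferInstance)

end Groth.Agent.Lib.Helper33.FibreBC
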