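import Mathlib
import Groth.Agent.Lib.Helper33.FibreBC9
import Groth.Agent.Lib.Helper78.AlgSpNoethDesc

/-!
# Locally Noetherian fibres under base change
-/

set_option autoImplicit false
set_option maxHeartbeats 800000
set_option backward.isDefEq.respectTransparency.types false
universe u
open CategoryTheory CategoryTheory.Limits AlgebraicGeometry TopologicalSpace

namespace Groth.Agent.Lib.Helper33.FibreBC

theorem essFiniteType_appTop_SpecMap {R S : CommRingCat.{u}} (β : R ⟶ S)
    (h : β.hom.EssFiniteType) : (Spec.map β).appTop.hom.EssFiniteType := by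
  have h1 : (Spec.map β).appTop = (Scheme.ΓSpecIso R).hom ≫ β ≫ (Scheme.ΓSpecIso S).inv := by
    rw [Scheme.ΓSpecIso_inv_naturality, Iso.hom_inv_id_assoc]
  rw [h1, CommRingCat.hom_comp, RingHom.EssFiniteType.respectsIso.cancel_left_isIso,
    CommRingCat.hom_comp, RingHom.EssFiniteType.respectsIso.cancel_right_isIso]
  exact h

/-- Base change of a locally Noetherian `k`-scheme along an essentially finite type extension
`K / k` is locally Noetherian. -/
theorem isLocallyNoetherian_of_essFiniteType {Z W : Scheme.{u}} {k K : Type u}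
    [Field k] [Field K] [Algebra k K] [Algebra.EssFiniteType k K]
    (p : Z ⟶ Spec (CommRingCat.of k)) (q : W ⟶ Spec (CommRingCat.of K)) (H : W ⟶ Z)
    (hsq : IsPullback H q p (Spec.map (CommRingCat.ofHom (algebraMap k K))))
    [IsLocallyNoetherian Z] : IsLocallyNoetherian W := by
  haveI : IsAffineHom H := MorphismProperty.of_isPullback hsq.flip inferInstance
  refine isLocallyNoetherian_of_affine_cover (ι := Z.affineOpens)
    (S := fun U => ⟨H ⁻¹ᵁ U.1, U.2.preimage H⟩) ?_ ?_
  · have h1 : (⨆ U : Z.affineOpens, (H ⁻¹ᵁ U.1 : W.Opens)) = H ⁻¹ᵁ (⨆ U : Z.affineOpens, U.1) := by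
      ext x
      simp
    rw [show (⨆ U : Z.affineOpens, ((⟨H ⁻¹ᵁ U.1, U.2.preimage H⟩ : W.affineOpens) : W.Opens)) =
      (⨆ U : Z.affineOpens, (H ⁻¹ᵁ U.1 : W.Opens)) from rfl, h1, iSup_affineOpens_eq_top Z]
    rfl
  · intro U
    have hUST : (⊤ : (Spec (CommRingCat.of K)).Opens) ≤
        (Spec.map (CommRingCat.ofHom (algebraMap k K))) ⁻¹ᵁ ⊤ := le_top
    have hUSX : U.1 ≤ p ⁻¹ᵁ ⊤ := le_top
    have hUY : H ⁻¹ᵁ U.1 = H ⁻¹ᵁ U.1 ⊓ q ⁻¹ᵁ ⊤ := by simp
    haveI hiso := isIso_pushoutSection_of_isAffineOpen hsq hUST hUSX hUY (isAffineOpen_top _)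
      (isAffineOpen_top _) U.2
    have hess : ((Spec.map (CommRingCat.ofHom (algebraMap k K))).appLE ⊤ ⊤ hUST).hom.EssFiniteType := by
      have : (Spec.map (CommRingCat.ofHom (algebraMap k K))).appLE ⊤ ⊤ hUST =
          (Spec.map (CommRingCat.ofHom (algebraMap k K))).appTop := by
        simp [Scheme.Hom.appLE, Scheme.Hom.appTop]
      rw [this]
      exact essFiniteType_appTop_SpecMap _ (RingHom.essFiniteType_algebraMap.mpr inferInstance)
    have hinl := RingHom.IsStableUnderBaseChange.pushout_inl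
      RingHom.EssFiniteType.isStableUnderBaseChange RingHom.EssFiniteType.respectsIso
      (p.appLE ⊤ U.1 hUSX) _ hess
    haveI : IsNoetherianRing Γ(Z, U.1) := IsLocallyNoetherian.component_noetherian U
    haveI : IsNoetherianRing
        (pushout (p.appLE ⊤ U.1 hUSX)
          ((Spec.map (CommRingCat.ofHom (algebraMap k K))).appLE ⊤ ⊤ hUST) : CommRingCat.{u}) := by
      algebraize [(pushout.inl (p.appLE ⊤ U.1 hUSX)
          ((Spec.map (CommRingCat.ofHom (algebraMap k K))).appLE ⊤ ⊤ hUST)).hom]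
      exact Algebra.EssFiniteType.isNoetherianRing Γ(Z, U.1) _
    exact isNoetherianRing_of_ringEquiv _
      (asIso (pushoutSection hsq hUST hUSX hUY)).commRingCatIsoToRingEquiv

/-- Locally Noetherian descends along flat, surjective, universally open morphisms. -/
theorem isLocallyNoetherian_of_flat_surjective_universallyOpen {U V : Scheme.{u}} (h : U ⟶ V)
    [Flat h] [UniversallyOpen h] [Surjective h] [IsLocallyNoetherian U] :
    IsLocallyNoetherian V := by
  refine ⟨fun W => ?_⟩
  have : IsAffine (W.1 : Scheme.{u}) := W.2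
  have : Surjective (h ∣_ W.1) := ⟨fun y => by
    obtain ⟨x, hx⟩ := h.surjective y.1
    refine ⟨⟨x, by show h x ∈ W.1; rw [hx]; exact y.2⟩, ?_⟩
    apply Subtype.ext
    rw [morphismRestrict_base_coe]
    exact hx⟩
  haveI : UniversallyOpen (h ∣_ W.1) := IsZariskiLocalAtTarget.restrict ‹_› W.1
  have h1 : IsNoetherianRing Γ(W.1.toScheme, ⊤) :=
    Groth.Agent.Lib.Helper78.AlgSpNoethDesc.isNoetherianRing_of_flat_surjective_affine
      (h ∣_ W.1) (h ∣_ W.1).isOpenMap
  exact isNoetherianRing_of_ringEquiv _ (Scheme.Opens.topIso W.1).commRingCatIsoToRingEquiv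

end Groth.Agent.Lib.Helper33.FibreBC
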