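import Mathlib
import Groth.Agent.Lib.Helper33.GorTransfer

/-!
# Gorenstein schemes and affine opens
-/

set_option autoImplicit false
universe u
open CategoryTheory CategoryTheory.Limits AlgebraicGeometry TopologicalSpace

namespace Groth.Agent.Lib.Helper33.GorAffine

open Groth.Agent.Lib.Helper33.GorTransfer

/-- If all stalks of `X` at points of an affine open `U` are Gorenstein and `Γ(X, U)` is
Noetherian, then `Γ(X, U)` is a Gorenstein ring. -/
theorem isGorensteinRing_of_stalks {X : Scheme.{u}} {U : X.Opens} (hU : IsAffineOpen U)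
    [IsNoetherianRing Γ(X, U)]
    (h : ∀ x ∈ U, LocCoh.IsGorensteinLocalRing (X.presheaf.stalk x)) :
    LocCoh.IsGorensteinRing Γ(X, U) := by
  refine ⟨?_⟩
  intro p hp
  let y : PrimeSpectrum Γ(X, U) := ⟨p, hp⟩
  have hy : hU.fromSpec y ∈ U := by
    have : hU.fromSpec y ∈ Set.range hU.fromSpec := ⟨y, rfl⟩
    rwa [hU.range_fromSpec] at this
  letI := TopCat.Presheaf.algebra_section_stalk X.presheaf ⟨hU.fromSpec y, hy⟩
  haveI : IsLocalization.AtPrime (X.presheaf.stalk (hU.fromSpec y)) p :=
    hU.isLocalization_stalk' y hy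
  exact gorenstein_of_ringEquiv
    (IsLocalization.algEquiv p.primeCompl (X.presheaf.stalk (hU.fromSpec y))
      (Localization.AtPrime p)).toRingEquiv (h _ hy)

/-- If `Γ(X, U)` is a Gorenstein ring for an affine open `U`, the stalks at points of `U` are
Gorenstein. -/
theorem stalk_of_isGorensteinRing {X : Scheme.{u}} {U : X.Opens} (hU : IsAffineOpen U)
    (hG : LocCoh.IsGorensteinRing Γ(X, U)) (x : X) (hx : x ∈ U) :
    LocCoh.IsGorensteinLocalRing (X.presheaf.stalk x) := by
  letI := TopCat.Presheaf.algebra_section_stalk X.presheaf ⟨x, hx⟩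
  haveI : IsLocalization.AtPrime (X.presheaf.stalk x) (hU.primeIdealOf ⟨x, hx⟩).asIdeal :=
    hU.isLocalization_stalk ⟨x, hx⟩
  exact gorenstein_of_ringEquiv
    (IsLocalization.algEquiv (hU.primeIdealOf ⟨x, hx⟩).asIdeal.primeCompl
      (Localization.AtPrime (hU.primeIdealOf ⟨x, hx⟩).asIdeal)
      (X.presheaf.stalk x)).toRingEquiv
    (hG.isGorensteinLocalRing_localization _)

end Groth.Agent.Lib.Helper33.GorAffine
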