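import Mathlib
import Groth.Agent.Lib.Helper33.GorAtEtale
import Groth.Agent.Lib.Helper33.GorComp
import Groth.Agent.S4656

/-!
# Gorensteinness at a point and composition (pointwise, scheme level)
-/

set_option autoImplicit false
set_option maxHeartbeats 800000
set_option backward.isDefEq.respectTransparency.types false
universe u
open CategoryTheory CategoryTheory.Limits AlgebraicGeometry TopologicalSpace

namespace Groth.Agent.Lib.Helper33.GorAtComp

open IsLocalRing Groth.Agent.Lib.Helper33.GorTransfer Groth.Agent.Lib.Helper33.GorAtRing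
  Groth.Agent.Lib.Helper33.GorAtEtale Groth.Agent.Lib.Helper31.AlgSpFlatAt

/-- Ring level: `A → B → C` local with `B → C` flat and `C/𝔪_A C` Noetherian. -/
theorem gor_comp_iff {A B C : Type u} [CommRing A] [CommRing B] [CommRing C]
    [IsLocalRing A] [IsLocalRing B] [IsLocalRing C]
    (φ : A →+* B) (ψ : B →+* C) [IsLocalHom φ] [IsLocalHom ψ] (hψ : ψ.Flat)
    [hN : IsNoetherianRing (C ⧸ (maximalIdeal A).map (ψ.comp φ))] :
    LocCoh.IsGorensteinLocalRing (C ⧸ (maximalIdeal A).map (ψ.comp φ)) ↔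
      (LocCoh.IsGorensteinLocalRing (B ⧸ (maximalIdeal A).map φ) ∧
        LocCoh.IsGorensteinLocalRing (C ⧸ (maximalIdeal B).map ψ)) := by
  have hI : (maximalIdeal A).map φ ≤ maximalIdeal B := IsLocalRing.map_maximalIdeal_le φ
  have hK : (maximalIdeal B).map ψ ≤ maximalIdeal C := IsLocalRing.map_maximalIdeal_le ψ
  have hJ : (maximalIdeal A).map (ψ.comp φ) = ((maximalIdeal A).map φ).map ψ := by
    rw [Ideal.map_map]
  have hJK : (maximalIdeal A).map (ψ.comp φ) ≤ (maximalIdeal B).map ψ := by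
    rw [hJ]; exact Ideal.map_mono hI
  haveI := isLocalRing_quot' hI
  haveI := isLocalRing_quot' hK
  haveI := isLocalRing_quot' (hJK.trans hK)
  haveI : IsNoetherianRing (C ⧸ (maximalIdeal B).map ψ) :=
    isNoetherianRing_of_surjective _ _ (Ideal.Quotient.factor hJK)
      (Ideal.Quotient.factor_surjective hJK)
  haveI : IsNoetherianRing (B ⧸ (maximalIdeal A).map φ) := by
    letI : Algebra B C := ψ.toAlgebra
    haveI : IsLocalHom (algebraMap B C) := ‹IsLocalHom ψ›
    haveI : Module.Flat B C := hψ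
    haveI : IsNoetherianRing (C ⧸ ((maximalIdeal A).map φ).map (algebraMap B C)) :=
      isNoetherianRing_of_ringEquiv _ (Ideal.quotEquivOfEq hJ)
    exact isNoetherianRing_quot_of_map (Q' := C) hI
  exact Groth.Agent.Lib.Helper33.GorComp.gorenstein_fibres_comp φ ψ hψ
    (Ideal.Quotient.mk _) Ideal.Quotient.mk_surjective Ideal.mk_ker
    (Ideal.Quotient.mk _) Ideal.Quotient.mk_surjective Ideal.mk_ker
    (Ideal.Quotient.mk _) Ideal.Quotient.mk_surjective Ideal.mk_ker

/-- Scheme level. -/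
theorem gorAt_comp_iff {U V W : Scheme.{u}} (k : U ⟶ V) (l : V ⟶ W) (u : U) (hk : FlatAt k u)
    [hN : IsNoetherianRing (U.presheaf.stalk u ⧸ fibIdeal (k ≫ l) u)] :
    GorAt (k ≫ l) u ↔ (GorAt k u ∧ GorAt l (k.base u)) := by
  have hfl := Groth.Agent.S4656.result k l u hk
  have h1 : ((k ≫ l).stalkMap u).hom = (k.stalkMap u).hom.comp (l.stalkMap (k.base u)).hom :=
    congr(($(Scheme.Hom.stalkMap_comp k l u)).hom)
  have hid : fibIdeal (k ≫ l) u = (maximalIdeal (W.presheaf.stalk (l.base (k.base u)))).map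
      ((k.stalkMap u).hom.comp (l.stalkMap (k.base u)).hom) := by
    unfold fibIdeal
    rw [← h1]
    rfl
  haveI : IsNoetherianRing (U.presheaf.stalk u ⧸
      (maximalIdeal (W.presheaf.stalk (l.base (k.base u)))).map
        ((k.stalkMap u).hom.comp (l.stalkMap (k.base u)).hom)) :=
    isNoetherianRing_of_ringEquiv _ (Ideal.quotEquivOfEq hid)
  have key := gor_comp_iff (l.stalkMap (k.base u)).hom (k.stalkMap u).hom hk
  have hq : QGor (k ≫ l) u ↔ (QGor l (k.base u) ∧ QGor k u) := by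
    unfold QGor
    rw [QGor_congr hid]
    exact key
  unfold GorAt
  constructor
  · rintro ⟨hf, hg⟩
    exact ⟨⟨hk, (hq.1 hg).2⟩, ⟨hfl.1 hf, (hq.1 hg).1⟩⟩
  · rintro ⟨⟨_, hg1⟩, ⟨hf2, hg2⟩⟩
    exact ⟨hfl.2 hf2, hq.2 ⟨hg2, hg1⟩⟩

end Groth.Agent.Lib.Helper33.GorAtComp
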