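import Mathlib
import Groth.Agent.Lib.Helper33.GorFibreRing

/-!
# Projections from localizations onto localizations of fibre rings
-/

set_option autoImplicit false
universe u

namespace Groth.Agent.Lib.Helper33.GorFibreProj

open IsLocalRing TensorProduct

/-- The fibre ring `κ(p) ⊗ S` of a Noetherian ring is Noetherian. -/
theorem isNoetherianRing_fiber (R S : Type u) [CommRing R] [CommRing S] [Algebra R S]
    [IsNoetherianRing S] (p : Ideal R) [p.IsPrime] : IsNoetherianRing (p.Fiber S) := by
  letI : Algebra S (p.Fiber S) := Algebra.TensorProduct.rightAlgebra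
  haveI : IsNoetherianRing (Localization (Algebra.algebraMapSubmonoid S p.primeCompl)) :=
    IsLocalization.isNoetherianRing (Algebra.algebraMapSubmonoid S p.primeCompl) _ inferInstance
  exact isNoetherianRing_of_ringEquiv _ (Ideal.Fiber.algEquivAux₁ (S := S) p).toRingEquiv.symm

/-- For a prime `Q` of the fibre ring `κ(p) ⊗ S`, with `r` its contraction to `S`, there is a
surjection `S_r → (κ(p) ⊗ S)_Q` with kernel `p S_r`. -/
theorem exists_proj_of_fiber (R S : Type u) [CommRing R] [CommRing S] [Algebra R S]
    (p : Ideal R) [p.IsPrime] (Q : Ideal (p.Fiber S)) [Q.IsPrime] :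
    ∃ π : Localization.AtPrime (Q.comap (Algebra.TensorProduct.includeRight :
        S →ₐ[R] p.Fiber S)) →+* Localization.AtPrime Q,
      Function.Surjective π ∧ RingHom.ker π = (p.map (algebraMap R S)).map
        (algebraMap S (Localization.AtPrime (Q.comap (Algebra.TensorProduct.includeRight :
        S →ₐ[R] p.Fiber S)))) := by
  let e := (Ideal.Fiber.algEquivAux₂ p Q).toRingEquiv
  refine ⟨e.symm.toRingHom.comp (Ideal.Quotient.mk _), ?_, ?_⟩
  · exact e.symm.surjective.comp Ideal.Quotient.mk_surjective
  · ext x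
    rw [RingHom.mem_ker, RingHom.comp_apply]
    rw [show (e.symm.toRingHom : _ →+* _) (Ideal.Quotient.mk _ x) = e.symm (Ideal.Quotient.mk _ x)
      from rfl, RingEquiv.map_eq_zero_iff, Ideal.Quotient.eq_zero_iff_mem]

/-- For a prime `r` of `S` over `p`, there is a prime `Q` of the fibre ring `κ(p) ⊗ S` and a
surjection `S_r → (κ(p) ⊗ S)_Q` with kernel `p S_r`. -/
theorem exists_proj (R S : Type u) [CommRing R] [CommRing S] [Algebra R S]
    (p : Ideal R) [p.IsPrime] (r : Ideal S) [r.IsPrime] (hr : r.comap (algebraMap R S) = p) :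
    ∃ (Q : Ideal (p.Fiber S)) (_ : Q.IsPrime)
      (π : Localization.AtPrime r →+* Localization.AtPrime Q),
      Function.Surjective π ∧ RingHom.ker π = (p.map (algebraMap R S)).map
        (algebraMap S (Localization.AtPrime r)) := by
  let QS : PrimeSpectrum (p.Fiber S) :=
    PrimeSpectrum.preimageEquivFiber R S ⟨p, inferInstance⟩
      ⟨⟨r, inferInstance⟩, PrimeSpectrum.ext hr⟩
  have h : QS.asIdeal.comap (Algebra.TensorProduct.includeRight : S →ₐ[R] p.Fiber S) = r := by
    have := (PrimeSpectrum.preimageEquivFiber R S ⟨p, inferInstance⟩).left_inv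
      ⟨⟨r, inferInstance⟩, PrimeSpectrum.ext hr⟩
    exact congrArg (fun z => z.1.asIdeal) this
  have main : ∀ (r' : Ideal S) [r'.IsPrime],
      r' = QS.asIdeal.comap (Algebra.TensorProduct.includeRight : S →ₐ[R] p.Fiber S) →
      ∃ (π : Localization.AtPrime r' →+* Localization.AtPrime QS.asIdeal),
        Function.Surjective π ∧ RingHom.ker π = (p.map (algebraMap R S)).map
          (algebraMap S (Localization.AtPrime r')) := by
    intro r' _ hr'
    subst hr'
    exact exists_proj_of_fiber R S p QS.asIdeal
  obtain ⟨π, h1, h2⟩ := main r h.symm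
  exact ⟨QS.asIdeal, inferInstance, π, h1, h2⟩

end Groth.Agent.Lib.Helper33.GorFibreProj
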