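import Mathlib
import Groth.Prelude.Def_Hensel
import Groth.Agent.S13598

/-!
# Quotients of strict henselizations
`S/IS` is a strict henselization of `A/I`.
-/

set_option autoImplicit false
set_option maxHeartbeats 800000
universe u

namespace Groth.Agent.Lib.Helper33.SHensQuot

open IsLocalRing

/-- Separable closedness transfers along ring isomorphisms. -/
theorem isSepClosed_of_ringEquiv {K K' : Type*} [Field K] [Field K'] (e : K ≃+* K')
    [IsSepClosed K] : IsSepClosed K' := by
  apply IsSepClosed.of_exists_root
  intro p hpm hpi hps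
  have hq : (p.map (e.symm : K' →+* K)).Separable := hps.map
  have hdeg : (p.map (e.symm : K' →+* K)).degree ≠ 0 := by
    rw [Polynomial.degree_map]
    exact (Polynomial.degree_pos_of_irreducible hpi).ne'
  obtain ⟨x, hx⟩ := IsSepClosed.exists_root _ hdeg hq
  refine ⟨e x, ?_⟩
  have h1 : Polynomial.eval₂ (e.symm : K' →+* K) x p = 0 := by
    rwa [Polynomial.IsRoot.def, Polynomial.eval_map] at hx
  have h2 := congrArg (e : K →+* K') h1
  rw [map_zero, Polynomial.hom_eval₂] at h2
  have h3 : ((e : K →+* K').comp (e.symm : K' →+* K)) = RingHom.id K' := by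
    ext y; simp
  rw [h3, Polynomial.eval₂_id] at h2
  exact h2

/-- The residue field map of a surjective (local) homomorphism is bijective. -/
theorem residueFieldMap_bijective {R R' : Type*} [CommRing R] [IsLocalRing R] [CommRing R']
    [IsLocalRing R'] (f : R →+* R') [IsLocalHom f] (hf : Function.Surjective f) :
    Function.Bijective (ResidueField.map f) := by
  refine ⟨(ResidueField.map f).injective, ?_⟩
  intro y
  obtain ⟨b, rfl⟩ := residue_surjective y
  obtain ⟨a, rfl⟩ := hf b
  exact ⟨residue R a, ResidueField.map_residue f a⟩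

variable {A S : Type u} [CommRing A] [IsLocalRing A] [CommRing S] [IsLocalRing S] [Algebra A S]
  [IsLocalHom (algebraMap A S)] [hS : Hensel.IsStrictHenselization A S]

include hS in
/-- `S/IS` is a strict henselization of `A/I`. -/
theorem isStrictHenselization_quotient (I : Ideal A)
    [IsLocalRing (A ⧸ I)] [IsLocalRing (S ⧸ I.map (algebraMap A S))]
    [IsLocalHom (algebraMap (A ⧸ I) (S ⧸ I.map (algebraMap A S)))] :
    Hensel.IsStrictHenselization (A ⧸ I) (S ⧸ I.map (algebraMap A S)) := by
  have hSh : HenselianLocalRing S := Hensel.IsStrictHenselization.henselian (R := A)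
  haveI hmkA : IsLocalHom (Ideal.Quotient.mk I) :=
    IsLocalHom.of_surjective _ Ideal.Quotient.mk_surjective
  haveI hmkS : IsLocalHom (Ideal.Quotient.mk (I.map (algebraMap A S))) :=
    IsLocalHom.of_surjective _ Ideal.Quotient.mk_surjective
  -- residue field isomorphisms
  let e₁ : ResidueField A ≃+* ResidueField (A ⧸ I) :=
    RingEquiv.ofBijective (ResidueField.map (Ideal.Quotient.mk I))
      (residueFieldMap_bijective _ Ideal.Quotient.mk_surjective)
  let e₂ : ResidueField S ≃+* ResidueField (S ⧸ I.map (algebraMap A S)) :=
    RingEquiv.ofBijective (ResidueField.map (Ideal.Quotient.mk (I.map (algebraMap A S))))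
      (residueFieldMap_bijective _ Ideal.Quotient.mk_surjective)
  have he : RingHom.comp (algebraMap (ResidueField (A ⧸ I))
        (ResidueField (S ⧸ I.map (algebraMap A S)))) (e₁ : ResidueField A →+* _) =
      RingHom.comp (e₂ : ResidueField S →+* _) (algebraMap (ResidueField A) (ResidueField S)) := by
    ext x
    obtain ⟨a, rfl⟩ := residue_surjective x
    rfl
  refine ⟨Groth.Agent.S13598.henselianLocalRing_quotient _, ?_, ?_⟩
  · haveI : IsSepClosure (ResidueField A) (ResidueField S) :=
      Hensel.IsStrictHenselization.isSepClosure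
    haveI : IsSepClosed (ResidueField S) := IsSepClosure.sep_closed (ResidueField A)
    haveI : Algebra.IsSeparable (ResidueField A) (ResidueField S) := IsSepClosure.separable
    exact ⟨isSepClosed_of_ringEquiv e₂, Algebra.IsSeparable.of_equiv_equiv e₁ e₂ he⟩
  · intro T _ _ f hf τ hτ
    haveI hloc : IsLocalHom (f.comp (Ideal.Quotient.mk I)) := RingHom.isLocalHom_comp _ _
    let τ' : ResidueField S →+* ResidueField T :=
      τ.comp (ResidueField.map (Ideal.Quotient.mk (I.map (algebraMap A S))))
    have hτ' : τ'.comp (ResidueField.map (algebraMap A S)) =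
        ResidueField.map (f.comp (Ideal.Quotient.mk I)) := by
      ext x
      obtain ⟨a, rfl⟩ := residue_surjective x
      have h1 := RingHom.congr_fun hτ (residue (A ⧸ I) (Ideal.Quotient.mk I a))
      rw [RingHom.comp_apply, ResidueField.map_residue, ResidueField.map_residue] at h1
      rw [RingHom.comp_apply, ResidueField.map_residue, ResidueField.map_residue,
        RingHom.comp_apply, RingHom.comp_apply, ResidueField.map_residue, ← h1]
      rfl
    obtain ⟨g, ⟨hg1, hg2⟩, hguniq⟩ := Hensel.IsStrictHenselization.universal (R := A) (S := S) T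
      (f.comp (Ideal.Quotient.mk I)) τ' hτ'
    have hgI : ∀ a ∈ I.map (algebraMap A S), g a = 0 := by
      have hle : I.map (algebraMap A S) ≤ RingHom.ker g := by
        rw [Ideal.map_le_iff_le_comap]
        intro i hi
        rw [Ideal.mem_comap, RingHom.mem_ker]
        have h1 := RingHom.congr_fun hg1 i
        rw [RingHom.comp_apply] at h1
        rw [h1, RingHom.comp_apply, Ideal.Quotient.eq_zero_iff_mem.2 hi, map_zero]
      exact fun a ha => hle ha
    refine ⟨Ideal.Quotient.lift _ g hgI, ⟨?_, ?_⟩, ?_⟩
    · apply Ideal.Quotient.ringHom_ext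
      ext a
      have h1 := RingHom.congr_fun hg1 a
      rw [RingHom.comp_apply, RingHom.comp_apply] at h1
      rw [RingHom.comp_apply, RingHom.comp_apply, Ideal.Quotient.algebraMap_quotient_map_quotient,
        Ideal.Quotient.lift_mk, h1]
      rfl
    · intro x
      obtain ⟨s, rfl⟩ := Ideal.Quotient.mk_surjective x
      rw [Ideal.Quotient.lift_mk, hg2 s]
      show τ (ResidueField.map _ (residue S s)) = _
      rw [ResidueField.map_residue]
    · rintro g' ⟨hg'1, hg'2⟩
      apply Ideal.Quotient.ringHom_ext
      have h2 : g'.comp (Ideal.Quotient.mk (I.map (algebraMap A S))) = g := by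
        apply hguniq
        refine ⟨?_, ?_⟩
        · ext a
          have h1 := RingHom.congr_fun hg'1 (Ideal.Quotient.mk I a)
          rw [RingHom.comp_apply, Ideal.Quotient.algebraMap_quotient_map_quotient] at h1
          rw [RingHom.comp_apply, RingHom.comp_apply, h1, RingHom.comp_apply]
        · intro s
          rw [RingHom.comp_apply, hg'2]
          show _ = τ (ResidueField.map _ (residue S s))
          rw [ResidueField.map_residue]
      rw [h2]
      ext a
      rw [RingHom.comp_apply, Ideal.Quotient.lift_mk]

end Groth.Agent.Lib.Helper33.SHensQuot
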