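import Mathlib
import Groth.Agent.Lib.Helper33.GorAtRing
import Groth.Agent.Lib.Helper33.SHensQuot
import Groth.Agent.Lib.Helper37.Hz31
import Groth.Agent.Lib.Helper37.Hz20
import Groth.Agent.Lib.Helper40.FlatDescentSrc

/-!
# Gorenstein local rings / fibre rings and strict henselization
-/

set_option autoImplicit false
set_option maxHeartbeats 800000
universe u

namespace Groth.Agent.Lib.Helper33.GorHens

open IsLocalRing Groth.Agent.Lib.Helper33.GorTransfer Groth.Agent.Lib.Helper33.GorAtRing
  Groth.Agent.Lib.Helper37.Hz

/-- A strict henselization of a Noetherian local ring `A` is Gorenstein iff `A` is. -/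
theorem gorenstein_iff_of_isStrictHenselization (A R : Type u) [CommRing A] [CommRing R]
    [IsLocalRing A] [IsLocalRing R] [Algebra A R] [IsLocalHom (algebraMap A R)]
    [Hensel.IsStrictHenselization A R] [IsNoetherianRing A] :
    LocCoh.IsGorensteinLocalRing R ↔ LocCoh.IsGorensteinLocalRing A := by
  haveI : IsNoetherianRing R := (isNoetherianRing_iff_of_isStrictHenselization A R).1 inferInstance
  haveI : Module.FaithfullyFlat A R := faithfullyFlat_of_isStrictHenselization A R
  exact gorenstein_iff_of_map_maximalIdeal_eq A R (map_maximalIdeal_of_isStrictHenselization A R)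

section

variable {A B R R' : Type u} [CommRing A] [CommRing B] [CommRing R] [CommRing R']
  [IsLocalRing A] [IsLocalRing B] [IsLocalRing R] [IsLocalRing R']
  (θ : A →+* B) [IsLocalHom θ]
  [Algebra B R] [IsLocalHom (algebraMap B R)] [hR : Hensel.IsStrictHenselization B R]
  [Algebra A R'] [IsLocalHom (algebraMap A R')] [hR' : Hensel.IsStrictHenselization A R']
  (φ : R' →+* R) [IsLocalHom φ] (hφ : φ.comp (algebraMap A R') = (algebraMap B R).comp θ)

include hR hR' hφ

theorem map_maximalIdeal_eq :
    (maximalIdeal R').map φ = ((maximalIdeal A).map θ).map (algebraMap B R) := by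
  rw [← map_maximalIdeal_of_isStrictHenselization A R', Ideal.map_map, hφ, Ideal.map_map]

theorem flat_iff : θ.Flat ↔ φ.Flat := by
  haveI : Module.FaithfullyFlat B R := faithfullyFlat_of_isStrictHenselization B R
  haveI : Module.FaithfullyFlat A R' := faithfullyFlat_of_isStrictHenselization A R'
  constructor
  · intro hθ
    letI : Algebra A R := ((algebraMap B R).comp θ).toAlgebra
    letI : Algebra A B := θ.toAlgebra
    haveI : IsScalarTower A B R := IsScalarTower.of_algebraMap_eq (fun _ => rfl)
    haveI : Module.Flat A B := hθ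
    haveI : Module.Flat A R := Module.Flat.trans A B R
    letI : Algebra R' R := φ.toAlgebra
    haveI : IsScalarTower A R' R := IsScalarTower.of_algebraMap_eq (fun x => by
      have := RingHom.congr_fun hφ x
      exact this.symm)
    haveI : Algebra.WeaklyEtale A R' := weaklyEtale_of_isStrictHenselization A R'
    have := flat_module_of_flat_lmul' (R := A) (S := R') (M := R)
      (Algebra.WeaklyEtale.flat_lmul' A R')
    exact this
  · intro hφf
    have h1 : ((algebraMap B R).comp θ).Flat := by
      rw [← hφ]
      exact RingHom.Flat.comp (RingHom.flat_algebraMap_iff.2 inferInstance) hφf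
    exact Groth.Agent.Lib.Helper40.FlatDescentSrc.ringHom_flat_of_comp θ (algebraMap B R)
      (RingHom.flat_algebraMap_iff.2 inferInstance) h1

theorem gor_fibre_iff :
    LocCoh.IsGorensteinLocalRing (B ⧸ (maximalIdeal A).map θ) ↔
      LocCoh.IsGorensteinLocalRing (R ⧸ (maximalIdeal R').map φ) := by
  haveI : Module.FaithfullyFlat B R := faithfullyFlat_of_isStrictHenselization B R
  have hm := map_maximalIdeal_of_isStrictHenselization B R
  have hI : (maximalIdeal A).map θ ≤ maximalIdeal B := IsLocalRing.map_maximalIdeal_le θ
  rw [gorenstein_ringEquiv_iff (Ideal.quotEquivOfEq (map_maximalIdeal_eq θ φ hφ))]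
  haveI := isLocalRing_quot' hI
  haveI := isLocalRing_quot' (map_le_maximalIdeal (Q' := R) hI)
  haveI := isLocalHom_quot (Q' := R) ((maximalIdeal A).map θ)
  haveI : Hensel.IsStrictHenselization (B ⧸ (maximalIdeal A).map θ)
      (R ⧸ ((maximalIdeal A).map θ).map (algebraMap B R)) :=
    Groth.Agent.Lib.Helper33.SHensQuot.isStrictHenselization_quotient _
  constructor
  · intro H
    haveI : IsNoetherianRing (B ⧸ (maximalIdeal A).map θ) := H.1
    haveI : IsNoetherianRing (R ⧸ ((maximalIdeal A).map θ).map (algebraMap B R)) :=
      (isNoetherianRing_iff_of_isStrictHenselization (B ⧸ (maximalIdeal A).map θ) _).1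
        inferInstance
    exact (gor_quot_iff hm hI).2 H
  · intro H
    haveI : IsNoetherianRing (R ⧸ ((maximalIdeal A).map θ).map (algebraMap B R)) :=
      H.1
    haveI : IsNoetherianRing (B ⧸ (maximalIdeal A).map θ) :=
      isNoetherianRing_quot_of_map (Q' := R) hI
    exact (gor_quot_iff hm hI).1 H

end

end Groth.Agent.Lib.Helper33.GorHens
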