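import Mathlib
import Groth.Prelude.Def_Hensel
import Groth.Agent.Lib.Helper37.HenselLocal

/-!
Henselization of a local-étale extension with trivial residue field extension (helper33).
-/

set_option autoImplicit false
universe u

namespace Groth.Agent.Lib.Helper33.HensEtLocal

open IsLocalRing TensorProduct

/-- An epimorphism of fields (in the sense `1 ⊗ x = x ⊗ 1`) is surjective. -/
theorem surjective_of_isEpi_field (K L : Type*) [Field K] [Field L] [Algebra K L]
    [Algebra.IsEpi K L] : Function.Surjective (algebraMap K L) := by
  intro x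
  by_contra hx
  have hx' : x ∉ Submodule.span K {(1 : L)} := by
    intro h
    obtain ⟨c, hc⟩ := Submodule.mem_span_singleton.mp h
    exact hx ⟨c, by rw [Algebra.algebraMap_eq_smul_one]; exact hc⟩
  obtain ⟨f, hf1, hf2⟩ := Submodule.exists_dual_map_eq_bot_of_notMem hx' inferInstance
  have h1 : f 1 = 0 := by
    have : f 1 ∈ (Submodule.span K {(1 : L)}).map f :=
      Submodule.mem_map_of_mem (Submodule.subset_span rfl)
    rw [hf2] at this
    exact (Submodule.mem_bot K).mp this
  have key := (Algebra.isEpi_iff_forall_one_tmul_eq K L).mp inferInstance x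
  have := congrArg (fun t => TensorProduct.rid K L (LinearMap.lTensor L f t)) key
  simp only [LinearMap.lTensor_tmul, TensorProduct.rid_tmul, h1, zero_smul] at this
  rcases smul_eq_zero.mp this with h | h
  · exact hf1 h
  · exact one_ne_zero h

/-- Let `C → C'` be étale, `p'` a prime of `C'` over `p`, `A = C_p`, `B = C'_{p'}` and `φ : A → B` the
induced map.  If the residue field extension is trivial, then a henselization of `B` is a
henselization of `A`. -/
theorem isHenselization_comp_of_etale
    (C C' : Type u) [CommRing C] [CommRing C'] [Algebra C C'] [Algebra.Etale C C']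
    (p : Ideal C) [p.IsPrime] (p' : Ideal C') [p'.IsPrime] [p'.LiesOver p]
    (A B : Type u) [CommRing A] [CommRing B] [IsLocalRing A] [IsLocalRing B]
    [Algebra C A] [IsLocalization.AtPrime A p]
    [Algebra C' B] [IsLocalization.AtPrime B p']
    (φ : A →+* B) (hφ : φ.comp (algebraMap C A) = (algebraMap C' B).comp (algebraMap C C'))
    (hres : ∀ b : B, ∃ a : A, b - φ a ∈ maximalIdeal B)
    (R : Type u) [CommRing R] [IsLocalRing R] [Algebra B R] [IsLocalHom (algebraMap B R)]
    [hR : Hensel.IsHenselization B R] :
    letI : Algebra A R := ((algebraMap B R).comp φ).toAlgebra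
    ∃ (_ : IsLocalHom (algebraMap A R)), Hensel.IsHenselization A R := by
  letI : Algebra A R := ((algebraMap B R).comp φ).toAlgebra
  have hφ' : ∀ c : C, φ (algebraMap C A c) = algebraMap C' B (algebraMap C C' c) :=
    fun c => RingHom.congr_fun hφ c
  have hmem : ∀ c : C, algebraMap C C' c ∈ p' ↔ c ∈ p := by
    intro c
    rw [Ideal.LiesOver.over (p := p) (P := p'), Ideal.under_def, Ideal.mem_comap]
  have hφloc : IsLocalHom φ := by
    refine ⟨fun a ha => ?_⟩
    obtain ⟨c, s, rfl⟩ := IsLocalization.exists_mk'_eq p.primeCompl a
    have h1 : φ (IsLocalization.mk' A c s) * φ (algebraMap C A s) = φ (algebraMap C A c) := by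
      rw [← map_mul, IsLocalization.mk'_spec]
    rw [hφ', hφ'] at h1
    have hs : IsUnit (algebraMap C' B (algebraMap C C' (s : C))) := by
      rw [IsLocalization.AtPrime.isUnit_to_map_iff B p']
      intro h
      exact s.2 ((hmem _).mp h)
    have hc : IsUnit (algebraMap C' B (algebraMap C C' c)) := by
      rw [← h1]; exact ha.mul hs
    rw [IsLocalization.AtPrime.isUnit_to_map_iff B p'] at hc
    rw [IsLocalization.AtPrime.isUnit_mk'_iff A p]
    intro h
    exact hc ((hmem _).mpr h)
  have hloc : IsLocalHom ((algebraMap B R).comp φ) := RingHom.isLocalHom_comp _ _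
  refine ⟨hloc, ?_⟩
  refine { henselian := hR.henselian, universal := ?_ }
  intro T _ _ f hf
  letI : Algebra C T := (f.comp (algebraMap C A)).toAlgebra
  have hsurj : Function.Surjective (ResidueField.map φ) := by
    intro y
    obtain ⟨b, rfl⟩ := residue_surjective y
    obtain ⟨a, ha⟩ := hres b
    refine ⟨residue A a, ?_⟩
    rw [ResidueField.map_residue]
    symm
    rw [← sub_eq_zero, ← map_sub, residue_eq_zero_iff]
    exact ha
  have hbij : Function.Bijective (ResidueField.map φ) :=
    ⟨(ResidueField.map φ).injective, hsurj⟩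
  let σ : ResidueField A ≃+* ResidueField B := RingEquiv.ofBijective _ hbij
  have hσ : ∀ a : A, σ.symm (residue B (φ a)) = residue A a := by
    intro a
    rw [RingEquiv.symm_apply_eq]
    exact (ResidueField.map_residue φ a).symm
  let τ0 : C' →+* ResidueField T :=
    (ResidueField.map f).comp ((σ.symm : ResidueField B →+* ResidueField A).comp
      ((residue B).comp (algebraMap C' B)))
  have hτ0 : ∀ x : C', τ0 x = 0 ↔ x ∈ p' := by
    intro x
    change ResidueField.map f (σ.symm (residue B (algebraMap C' B x))) = 0 ↔ _
    rw [map_eq_zero_iff _ (ResidueField.map f).injective, map_eq_zero_iff _ σ.symm.injective,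
      residue_eq_zero_iff, IsLocalization.AtPrime.to_map_mem_maximal_iff B p']
  let τ : p'.ResidueField →+* ResidueField T :=
    Ideal.ResidueField.lift p' τ0 (fun x hx => (hτ0 x).mpr hx) (by
      intro x hx
      change IsUnit (τ0 x)
      rw [isUnit_iff_ne_zero, Ne, hτ0]
      exact hx)
  have hτapp : ∀ x : C', τ (algebraMap C' p'.ResidueField x) = τ0 x :=
    fun x => Ideal.ResidueField.lift_algebraMap _ _ _ _ _
  have hτ : τ.comp (algebraMap C p'.ResidueField) = (residue T).comp (algebraMap C T) := by
    ext c
    change τ (algebraMap C p'.ResidueField c) = residue T (f (algebraMap C A c))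
    rw [IsScalarTower.algebraMap_apply C C' p'.ResidueField, hτapp]
    change ResidueField.map f (σ.symm (residue B (algebraMap C' B (algebraMap C C' c)))) = _
    rw [← hφ', hσ, ResidueField.map_residue]
  obtain ⟨ψ, ⟨hψ1, hψ2⟩, hψu⟩ :=
    Groth.Agent.Lib.Helper37.existsUnique_algHom_of_etale_of_henselianLocal C T C' p' τ hτ
  -- extend ψ to B
  have hψunit : ∀ y : p'.primeCompl, IsUnit (ψ.toRingHom y) := by
    intro y
    by_contra h
    have : (y : C') ∈ Ideal.comap ψ.toRingHom (maximalIdeal T) := h
    rw [hψ1] at this
    exact y.2 this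
  let ψB : B →+* T := IsLocalization.lift (M := p'.primeCompl) (g := ψ.toRingHom) hψunit
  have hψB : ∀ x : C', ψB (algebraMap C' B x) = ψ x := fun x => IsLocalization.lift_eq _ _
  have hψBloc : IsLocalHom ψB := by
    refine ⟨fun b hb => ?_⟩
    obtain ⟨x, s, rfl⟩ := IsLocalization.exists_mk'_eq p'.primeCompl b
    have h1 : ψB (IsLocalization.mk' B x s) * ψB (algebraMap C' B s) = ψB (algebraMap C' B x) := by
      rw [← map_mul, IsLocalization.mk'_spec]
    rw [hψB, hψB] at h1
    have hx : IsUnit (ψ x) := by
      rw [← h1]; exact hb.mul (hψunit s)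
    rw [IsLocalization.AtPrime.isUnit_mk'_iff B p']
    intro h
    have : x ∈ Ideal.comap ψ.toRingHom (maximalIdeal T) := by rw [hψ1]; exact h
    exact this hx
  obtain ⟨g, hg, hgu⟩ := hR.universal T ψB hψBloc
  have hfloc : Ideal.comap f (maximalIdeal T) = maximalIdeal A :=
    ((local_hom_TFAE f).out 0 4).mp hf
  refine ⟨g, ?_, ?_⟩
  · change g.comp ((algebraMap B R).comp φ) = f
    rw [← RingHom.comp_assoc, hg]
    refine IsLocalization.ringHom_ext p.primeCompl (S := A) ?_
    ext c
    change ψB (φ (algebraMap C A c)) = f (algebraMap C A c)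
    rw [hφ', hψB]
    exact ψ.commutes c
  · intro g' hg'
    have hg'c : ∀ a : A, g' (algebraMap B R (φ a)) = f a := fun a => RingHom.congr_fun hg' a
    refine hgu g' ?_
    refine IsLocalization.ringHom_ext p'.primeCompl (S := B) ?_
    -- the restriction of g' to C' is a C-algebra map with the right properties
    let ψ' : C' →ₐ[C] T :=
      { toRingHom := (g'.comp (algebraMap B R)).comp (algebraMap C' B)
        commutes' := by
          intro c
          change g' (algebraMap B R (algebraMap C' B (algebraMap C C' c))) = f (algebraMap C A c)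
          rw [← hφ', hg'c] }
    have hψ'app : ∀ x : C', ψ' x = g' (algebraMap B R (algebraMap C' B x)) := fun _ => rfl
    have hP : Ideal.comap ψ'.toRingHom (maximalIdeal T) = p' := by
      haveI : (Ideal.comap ψ'.toRingHom (maximalIdeal T)).IsPrime := Ideal.comap_isPrime _ _
      have hle : Ideal.comap ψ'.toRingHom (maximalIdeal T) ≤ p' := by
        intro x hx
        by_contra hxp
        have hu : IsUnit (algebraMap C' B x) := by
          rw [IsLocalization.AtPrime.isUnit_to_map_iff B p']; exact hxp
        have hu' : IsUnit (ψ' x) := by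
          rw [hψ'app]
          exact (hu.map (algebraMap B R)).map g'
        exact hx hu'
      refine Algebra.QuasiFinite.eq_of_le_of_under_eq (R := C) _ _ hle ?_
      rw [← Ideal.LiesOver.over (p := p) (P := p')]
      ext c
      rw [Ideal.under_def, Ideal.mem_comap, Ideal.mem_comap]
      change ψ' (algebraMap C C' c) ∈ maximalIdeal T ↔ _
      rw [ψ'.commutes]
      change f (algebraMap C A c) ∈ maximalIdeal T ↔ _
      rw [← Ideal.mem_comap, hfloc, IsLocalization.AtPrime.to_map_mem_maximal_iff A p]
    have hres' : ∀ x : C', residue T (ψ' x) = τ (algebraMap C' p'.ResidueField x) := by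
      intro x
      rw [hτapp]
      change _ = ResidueField.map f (σ.symm (residue B (algebraMap C' B x)))
      obtain ⟨a, ha⟩ := hres (algebraMap C' B x)
      have h2 : residue B (algebraMap C' B x) = residue B (φ a) := by
        rw [← sub_eq_zero, ← map_sub, residue_eq_zero_iff]; exact ha
      rw [h2, hσ, ResidueField.map_residue, ← hg'c a, hψ'app]
      rw [← sub_eq_zero, ← map_sub, ← map_sub, ← map_sub, residue_eq_zero_iff]
      -- the element algebraMap x - φ a lies in m_B, whose image under g' ∘ algebraMap lies in m_T
      have h3 : algebraMap C' B x - φ a ∈ Ideal.comap (g'.comp (algebraMap B R)) (maximalIdeal T) := by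
        -- the comap is a prime of B whose contraction to C' is p', hence it is m_B
        have hcm : Ideal.comap (algebraMap C' B)
            (Ideal.comap (g'.comp (algebraMap B R)) (maximalIdeal T)) = p' := hP
        haveI : (Ideal.comap (g'.comp (algebraMap B R)) (maximalIdeal T)).IsPrime :=
          Ideal.comap_isPrime _ _
        have hmB : Ideal.comap (g'.comp (algebraMap B R)) (maximalIdeal T) = maximalIdeal B := by
          have e1 := IsLocalization.map_comap p'.primeCompl B
            (Ideal.comap (g'.comp (algebraMap B R)) (maximalIdeal T))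
          rw [Ideal.under_def, hcm, IsLocalization.AtPrime.map_eq_maximalIdeal p' B] at e1
          exact e1.symm
        rw [hmB]; exact ha
      exact h3
    have := hψu ψ' ⟨hP, hres'⟩
    ext x
    change ψ' x = ψB (algebraMap C' B x)
    rw [this, hψB]

end Groth.Agent.Lib.Helper33.HensEtLocal
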