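import Mathlib
import Groth.Agent.Lib.Helper4.IndCriterion

/-!
A criterion for `HasFactorization (etaleClass B') D` from étale approximations over a ring `C` of
which `B'` is a localization (helper33).  Universe-heterogeneous: `C` and the approximations live
in `Type u`, `B'` and `D` in `Type (max u v)`.
-/

set_option autoImplicit false
universe u v

namespace Groth.Agent.Lib.Helper33.IndEtApprox

open TensorProduct Groth.Agent.Lib.Helper4

variable (C : Type u) [CommRing C] (M : Submonoid C)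
  (B' : Type (max u v)) [CommRing B'] [Algebra C B']
  (D : Type (max u v)) [CommRing D] [Algebra C D] [Algebra B' D] [IsScalarTower C B' D]

/-- every element of `B' ⊗[C] C₁` becomes a pure tensor `1 ⊗ t` after multiplying by an element
of `M`. -/
theorem exists_smul_eq_one_tmul [IsLocalization M B'] (C₁ : Type u) [CommRing C₁] [Algebra C C₁] (z : B' ⊗[C] C₁) :
    ∃ (c : M) (t : C₁), (c : C) • z = (1 : B') ⊗ₜ[C] t := by
  induction z using TensorProduct.induction_on with
  | zero => exact ⟨1, 0, by simp⟩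
  | tmul b t =>
    obtain ⟨⟨x, c⟩, hx⟩ := IsLocalization.surj M b
    refine ⟨c, x • t, ?_⟩
    have hb : (c : C) • b = x • (1 : B') := by
      rw [Algebra.smul_def, Algebra.smul_def, mul_one, mul_comm]
      exact hx
    rw [TensorProduct.smul_tmul', hb, TensorProduct.smul_tmul]
  | add z₁ z₂ h₁ h₂ =>
    obtain ⟨c₁, t₁, e₁⟩ := h₁
    obtain ⟨c₂, t₂, e₂⟩ := h₂
    refine ⟨c₁ * c₂, (c₂ : C) • t₁ + (c₁ : C) • t₂, ?_⟩
    have h1 : ((c₁ * c₂ : M) : C) • z₁ = (c₂ : C) • ((c₁ : C) • z₁) := by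
      rw [Submonoid.coe_mul, mul_comm, mul_smul]
    have h2 : ((c₁ * c₂ : M) : C) • z₂ = (c₁ : C) • ((c₂ : C) • z₂) := by
      rw [Submonoid.coe_mul, mul_smul]
    rw [smul_add, h1, h2, e₁, e₂, TensorProduct.tmul_add, TensorProduct.tmul_smul,
      TensorProduct.tmul_smul]

set_option maxHeartbeats 800000 in
/-- **Criterion for ind-étaleness over a localization.**  If finite subsets of `D` lie in the image
of "good" étale `C`-algebras mapping to `D`, and finitely many elements in the kernel of a good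
approximation die in a further étale approximation, then every map from a finitely presented
`B'`-algebra to `D` factors through an étale `B'`-algebra. -/
theorem hasFactorization_of_approx [IsLocalization M B']
    (good : ∀ (C₁ : Type u) [CommRing C₁] [Algebra C C₁] (_ : C₁ →ₐ[C] D), Prop)
    (G1 : ∀ s : Finset D, ∃ (C₁ : Type u) (_ : CommRing C₁) (_ : Algebra C C₁)
        (_ : Algebra.Etale C C₁) (g₁ : C₁ →ₐ[C] D), good C₁ g₁ ∧ ∀ d ∈ s, d ∈ Set.range g₁)
    (G2 : ∀ (C₁ : Type u) [CommRing C₁] [Algebra C C₁] [Algebra.Etale C C₁] (g₁ : C₁ →ₐ[C] D),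
        good C₁ g₁ → ∀ s : Finset C₁, (∀ t ∈ s, g₁ t = 0) →
        ∃ (C₂ : Type u) (_ : CommRing C₂) (_ : Algebra C C₂) (_ : Algebra.Etale C C₂)
          (ρ : C₁ →ₐ[C] C₂) (g₂ : C₂ →ₐ[C] D), g₂.comp ρ = g₁ ∧ ∀ t ∈ s, ρ t = 0) :
    HasFactorization (etaleClass B') D := by
  classical
  intro P _ _ hP φ
  obtain ⟨n, f, hf, G, hG⟩ := hP.out
  let s : Finset D := Finset.univ.image (fun k : Fin n => φ (f (MvPolynomial.X k)))
  obtain ⟨C₁, _, _, _, g₁, hgood, hs⟩ := G1 s
  have hs' : ∀ k : Fin n, ∃ e : C₁, g₁ e = φ (f (MvPolynomial.X k)) := fun k =>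
    hs _ (Finset.mem_image.mpr ⟨k, Finset.mem_univ _, rfl⟩)
  choose e he using hs'
  let β₁ : B' ⊗[C] C₁ →ₐ[B'] D :=
    Algebra.TensorProduct.lift (Algebra.ofId B' D) g₁ (fun _ _ => Commute.all _ _)
  let α₀ : MvPolynomial (Fin n) B' →ₐ[B'] B' ⊗[C] C₁ :=
    MvPolynomial.aeval (fun k => (1 : B') ⊗ₜ[C] e k)
  have hβα : β₁.comp α₀ = φ.comp f := by
    apply MvPolynomial.algHom_ext
    intro k
    simp only [AlgHom.comp_apply, α₀, MvPolynomial.aeval_X, β₁, Algebra.TensorProduct.lift_tmul,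
      map_one, one_mul, he]
  have hz : ∀ g ∈ G, β₁ (α₀ g) = 0 := by
    intro g hg
    have h1 : g ∈ RingHom.ker f.toRingHom := by rw [← hG]; exact Ideal.subset_span hg
    have h2 : f g = 0 := h1
    have h3 := congrArg (fun m => m g) hβα
    simp only [AlgHom.comp_apply] at h3
    rw [h3, h2, map_zero]
  choose c t hct using fun g : MvPolynomial (Fin n) B' =>
    exists_smul_eq_one_tmul C M B' C₁ (α₀ g)
  have hg₁t : ∀ g ∈ G, g₁ (t g) = 0 := by
    intro g hg
    have h1 : β₁ ((1 : B') ⊗ₜ[C] t g) = g₁ (t g) := by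
      simp only [β₁, Algebra.TensorProduct.lift_tmul, map_one, one_mul]
    rw [← h1, ← hct g]
    have h2 : ((c g : M) : C) • α₀ g = algebraMap C B' (c g) • α₀ g :=
      (algebraMap_smul B' _ _).symm
    rw [h2, map_smul, hz g hg, smul_zero]
  obtain ⟨C₂, _, _, _, ρ, g₂, hρ, hkill⟩ := G2 C₁ g₁ hgood (G.image t) (by
    intro x hx
    obtain ⟨g, hg, rfl⟩ := Finset.mem_image.mp hx
    exact hg₁t g hg)
  let β₂ : B' ⊗[C] C₂ →ₐ[B'] D :=
    Algebra.TensorProduct.lift (Algebra.ofId B' D) g₂ (fun _ _ => Commute.all _ _)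
  let γ : B' ⊗[C] C₁ →ₐ[B'] B' ⊗[C] C₂ := Algebra.TensorProduct.map (AlgHom.id B' B') ρ
  have hβγ : ∀ z, β₂ (γ z) = β₁ z := by
    intro z
    induction z using TensorProduct.induction_on with
    | zero => simp
    | tmul b x =>
      simp only [γ, β₁, β₂, Algebra.TensorProduct.map_tmul, Algebra.TensorProduct.lift_tmul,
        AlgHom.coe_id, id_eq]
      congr 1
      exact congrArg (fun m => m x) hρ
    | add z₁ z₂ h₁ h₂ => rw [map_add, map_add, map_add, h₁, h₂]
  have hγz : ∀ g ∈ G, γ (α₀ g) = 0 := by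
    intro g hg
    have h1 : γ (((c g : M) : C) • α₀ g) = 0 := by
      rw [hct g]
      simp only [γ, Algebra.TensorProduct.map_tmul, AlgHom.coe_id, id_eq]
      rw [hkill _ (Finset.mem_image.mpr ⟨g, hg, rfl⟩), TensorProduct.tmul_zero]
    have h2 : ((c g : M) : C) • α₀ g = algebraMap C B' (c g) • α₀ g :=
      (algebraMap_smul B' _ _).symm
    rw [h2, map_smul] at h1
    exact ((IsLocalization.map_units B' (c g)).smul_eq_zero).mp h1
  let α₁ : MvPolynomial (Fin n) B' →ₐ[B'] B' ⊗[C] C₂ := γ.comp α₀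
  have hker : ∀ a ∈ RingHom.ker f.toRingHom, α₁ a = 0 := by
    intro a ha
    have : RingHom.ker f.toRingHom ≤ RingHom.ker α₁.toRingHom := by
      rw [← hG, Ideal.span_le]
      intro g hg
      exact hγz g hg
    exact this ha
  let α : P →ₐ[B'] B' ⊗[C] C₂ :=
    (Ideal.Quotient.liftₐ (RingHom.ker f.toRingHom) α₁ hker).comp
      (Ideal.quotientKerAlgEquivOfSurjective hf).symm.toAlgHom
  have hα : ∀ x, α (f x) = α₁ x := by
    intro x
    have h1 : (Ideal.quotientKerAlgEquivOfSurjective hf).symm (f x) =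
        Ideal.Quotient.mk (RingHom.ker f.toRingHom) x := by
      apply (Ideal.quotientKerAlgEquivOfSurjective hf).injective
      rw [AlgEquiv.apply_symm_apply]
      rfl
    change (Ideal.Quotient.liftₐ (RingHom.ker f.toRingHom) α₁ hker)
      ((Ideal.quotientKerAlgEquivOfSurjective hf).symm (f x)) = α₁ x
    rw [h1]
    rfl
  refine ⟨B' ⊗[C] C₂, inferInstance, inferInstance, ?_, α, β₂, ?_⟩
  · change Algebra.Etale B' (B' ⊗[C] C₂)
    infer_instance
  · ext y
    obtain ⟨x, rfl⟩ := hf y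
    rw [AlgHom.comp_apply, hα]
    change β₂ (γ (α₀ x)) = φ (f x)
    rw [hβγ]
    exact congrArg (fun m => m x) hβα

end Groth.Agent.Lib.Helper33.IndEtApprox
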