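import Mathlib
import Groth.Agent.S0558
import Groth.Agent.Lib.Helper98.FixedReg
import Groth.Agent.Lib.Helper83.RegQuot

/-!
# Transversal primes in a regular local ring (helper33)

`A` regular local, `I ⊔ J = 𝔪`: there are finite `P ⊆ I`, `Q ⊆ J` with `(P) ⊔ (Q) = 𝔪` and
`#P + #Q ≤ dim A` (choose a basis of the cotangent space from the images of `I ∪ J`).
If moreover `I`, `J` are prime with `dim A/I + dim A/J ≥ dim A` then `A/I` is regular.
-/

set_option autoImplicit false
universe u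
open IsLocalRing

namespace Groth.Agent.Lib.Helper33.RegSup

theorem exists_sets {A : Type u} [CommRing A] [IsRegularLocalRing A] (I J : Ideal A)
    (hsup : I ⊔ J = maximalIdeal A) (D : ℕ) (hD : ringKrullDim A = D) :
    ∃ P Q : Set A, P.Finite ∧ Q.Finite ∧ P ⊆ (I : Set A) ∧ Q ⊆ (J : Set A) ∧
      Ideal.span P ⊔ Ideal.span Q = maximalIdeal A ∧ P.ncard + Q.ncard ≤ D := by
  classical
  have hIm : I ≤ maximalIdeal A := hsup ▸ le_sup_left
  have hJm : J ≤ maximalIdeal A := hsup ▸ le_sup_right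
  set S : Set (maximalIdeal A) := {x | (x : A) ∈ I ∨ (x : A) ∈ J} with hS
  have hSspan : Submodule.span A S = ⊤ := by
    rw [eq_top_iff]
    rintro ⟨x, hx⟩ -
    have hx' : x ∈ I ⊔ J := hsup ▸ hx
    obtain ⟨i, hi, j, hj, hij⟩ := Submodule.mem_sup.mp hx'
    have : (⟨x, hx⟩ : maximalIdeal A) = ⟨i, hIm hi⟩ + ⟨j, hJm hj⟩ := Subtype.ext hij.symm
    rw [this]
    exact Submodule.add_mem _ (Submodule.subset_span (Or.inl hi)) (Submodule.subset_span (Or.inr hj))
  have ht : Submodule.span (ResidueField A) ((maximalIdeal A).toCotangent '' S) = ⊤ :=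
    CotangentSpace.span_image_eq_top_iff.mpr hSspan
  obtain ⟨b, hbt, hbspan, hbli⟩ := exists_linearIndependent (ResidueField A)
    ((maximalIdeal A).toCotangent '' S)
  have hfr : Module.finrank (ResidueField A) (CotangentSpace A) = D := by
    have h1 := (IsRegularLocalRing.iff_finrank_cotangentSpace A).mp inferInstance
    rw [hD] at h1
    exact_mod_cast h1
  haveI hbfin : Finite b := hbli.finite
  have hbcard : Nat.card b ≤ D := by
    haveI := Fintype.ofFinite b
    rw [Nat.card_eq_fintype_card, ← hfr]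
    exact hbli.fintype_card_le_finrank
  have hlift : ∀ v : b, ∃ x : maximalIdeal A, x ∈ S ∧ (maximalIdeal A).toCotangent x = v.1 := by
    intro v
    obtain ⟨x, hx, hxv⟩ := hbt v.2
    exact ⟨x, hx, hxv⟩
  choose lift hliftS hliftv using hlift
  set s' : Set (maximalIdeal A) := Set.range lift with hs'
  have hs'fin : s'.Finite := Set.finite_range lift
  have hs'card : s'.ncard ≤ D := by
    have h1 : s'.ncard ≤ Nat.card b := by
      rw [hs', ← Set.image_univ]
      calc (lift '' Set.univ).ncard ≤ (Set.univ : Set b).ncard := Set.ncard_image_le Set.finite_univ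
        _ = Nat.card b := Set.ncard_univ b
    exact h1.trans hbcard
  have himg : (maximalIdeal A).toCotangent '' s' = b := by
    ext v
    constructor
    · rintro ⟨_, ⟨w, rfl⟩, rfl⟩
      rw [hliftv]; exact w.2
    · intro hv
      exact ⟨lift ⟨v, hv⟩, ⟨⟨v, hv⟩, rfl⟩, hliftv ⟨v, hv⟩⟩
  have hs'span : Submodule.span A s' = ⊤ := by
    rw [← CotangentSpace.span_image_eq_top_iff, himg, hbspan, ht]
  have hs'ideal : Ideal.span (Subtype.val '' s') = maximalIdeal A :=
    (Groth.Agent.Lib.Helper83.RegQuot.span_eq_top_iff_span_image_eq (maximalIdeal A) s').mp hs'span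
  refine ⟨Subtype.val '' (s' ∩ {x | (x : A) ∈ I}), Subtype.val '' (s' \ {x | (x : A) ∈ I}),
    (hs'fin.inter_of_left _).image _, (hs'fin.sdiff).image _, ?_, ?_, ?_, ?_⟩
  · rintro _ ⟨x, ⟨-, hx⟩, rfl⟩
    exact hx
  · rintro _ ⟨x, ⟨hxs, hx⟩, rfl⟩
    obtain ⟨w, rfl⟩ := hxs
    rcases hliftS w with h | h
    · exact absurd h hx
    · exact h
  · rw [← Ideal.span_union, ← Set.image_union, Set.inter_union_sdiff, hs'ideal]
  · calc (Subtype.val '' (s' ∩ {x | (x : A) ∈ I})).ncard +
          (Subtype.val '' (s' \ {x | (x : A) ∈ I})).ncard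
        ≤ (s' ∩ {x | (x : A) ∈ I}).ncard + (s' \ {x | (x : A) ∈ I}).ncard :=
          add_le_add (Set.ncard_image_le (hs'fin.inter_of_left _)) (Set.ncard_image_le hs'fin.sdiff)
      _ = s'.ncard := Set.ncard_inter_add_ncard_sdiff_eq_ncard s' _ hs'fin
      _ ≤ D := hs'card

theorem isRegularLocalRing_quotient' {A : Type u} [CommRing A] [IsRegularLocalRing A]
    (I J : Ideal A) (hsup : I ⊔ J = maximalIdeal A)
    (a b D : ℕ) (hD : ringKrullDim A = D) (ha : ringKrullDim (A ⧸ I) = a)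
    (hb : ringKrullDim (A ⧸ J) = b) (hab : D ≤ a + b) : IsRegularLocalRing (A ⧸ I) := by
  classical
  obtain ⟨P, Q, hPf, hQf, hPI, hQJ, hPQ, hcard⟩ := exists_sets I J hsup D hD
  have hI'I : Ideal.span P ≤ I := Ideal.span_le.mpr hPI
  have hJ'J : Ideal.span Q ≤ J := Ideal.span_le.mpr hQJ
  have hμI : (Ideal.span P).spanFinrank ≤ P.ncard :=
    Submodule.spanFinrank_span_le_ncard_of_finite hPf
  have hμJ : (Ideal.span Q).spanFinrank ≤ Q.ncard :=
    Submodule.spanFinrank_span_le_ncard_of_finite hQf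
  have hμm : (maximalIdeal A).spanFinrank = D := by
    have h1 := IsRegularLocalRing.spanFinrank_maximalIdeal (R := A)
    rw [hD] at h1
    exact_mod_cast h1
  haveI regI' : IsRegularLocalRing (A ⧸ Ideal.span P) :=
    Groth.Agent.Lib.Helper98.FixedReg.isRegularLocalRing_quotient_of_sup _ _ hPQ (by omega)
  have hQP : Ideal.span Q ⊔ Ideal.span P = maximalIdeal A := by rw [sup_comm]; exact hPQ
  haveI regJ' : IsRegularLocalRing (A ⧸ Ideal.span Q) :=
    Groth.Agent.Lib.Helper98.FixedReg.isRegularLocalRing_quotient_of_sup _ _ hQP (by omega)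
  have hdI' : ringKrullDim (A ⧸ Ideal.span P) ≤ ((Q.ncard : ℕ) : WithBot ℕ∞) := by
    rw [← IsRegularLocalRing.spanFinrank_maximalIdeal]
    have h1 := Groth.Agent.Lib.Helper83.RegQuot.spanFinrank_maximalIdeal_quotient_le
      (Ideal.span P) hQf.toFinset (by rw [Set.Finite.coe_toFinset]; exact hQP)
    rw [← Set.ncard_eq_toFinset_card Q hQf] at h1
    exact_mod_cast h1
  have hdJ' : ringKrullDim (A ⧸ Ideal.span Q) ≤ ((P.ncard : ℕ) : WithBot ℕ∞) := by
    rw [← IsRegularLocalRing.spanFinrank_maximalIdeal]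
    have h1 := Groth.Agent.Lib.Helper83.RegQuot.spanFinrank_maximalIdeal_quotient_le
      (Ideal.span Q) hPf.toFinset (by rw [Set.Finite.coe_toFinset]; exact hPQ)
    rw [← Set.ncard_eq_toFinset_card P hPf] at h1
    exact_mod_cast h1
  have haI' : ((a : ℕ) : WithBot ℕ∞) ≤ ringKrullDim (A ⧸ Ideal.span P) := by
    rw [← ha]
    exact ringKrullDim_le_of_surjective (Ideal.Quotient.factor hI'I)
      (Ideal.Quotient.factor_surjective hI'I)
  have hbJ' : ((b : ℕ) : WithBot ℕ∞) ≤ ringKrullDim (A ⧸ Ideal.span Q) := by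
    rw [← hb]
    exact ringKrullDim_le_of_surjective (Ideal.Quotient.factor hJ'J)
      (Ideal.Quotient.factor_surjective hJ'J)
  have h1 : a ≤ Q.ncard := by exact_mod_cast haI'.trans hdI'
  have h2 : b ≤ P.ncard := by exact_mod_cast hbJ'.trans hdJ'
  have h3 : Q.ncard = a := by omega
  have hdimI' : ringKrullDim (A ⧸ Ideal.span P) = ((a : ℕ) : WithBot ℕ∞) :=
    le_antisymm (h3 ▸ hdI') haI'
  haveI : IsDomain (A ⧸ Ideal.span P) := Groth.Agent.S0558.result _
  have e : ((A ⧸ Ideal.span P) ⧸ I.map (Ideal.Quotient.mk (Ideal.span P))) ≃+* A ⧸ I :=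
    DoubleQuot.quotQuotEquivQuotOfLE hI'I
  have hdimQ : ringKrullDim ((A ⧸ Ideal.span P) ⧸ I.map (Ideal.Quotient.mk (Ideal.span P))) =
      ((a : ℕ) : WithBot ℕ∞) := (ringKrullDim_eq_of_ringEquiv e).trans ha
  have hbot := Groth.Agent.Lib.Helper83.RegQuot.eq_bot_of_ringKrullDim_quotient_eq
    (I.map (Ideal.Quotient.mk (Ideal.span P))) a hdimI' hdimQ
  have hII' : I ≤ Ideal.span P := by
    intro x hx
    have hmem : Ideal.Quotient.mk (Ideal.span P) x ∈ I.map (Ideal.Quotient.mk (Ideal.span P)) :=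
      Ideal.mem_map_of_mem _ hx
    rw [hbot] at hmem
    exact Ideal.Quotient.eq_zero_iff_mem.mp hmem
  have hEq : Ideal.span P = I := le_antisymm hI'I hII'
  exact IsRegularLocalRing.of_ringEquiv (Ideal.quotEquivOfEq hEq)

theorem isRegularLocalRing_quotient {A : Type u} [CommRing A] [IsRegularLocalRing A]
    (I J : Ideal A) [hI : I.IsPrime] [hJ : J.IsPrime] (hsup : I ⊔ J = maximalIdeal A)
    (a b D : ℕ) (hD : ringKrullDim A = D) (ha : ringKrullDim (A ⧸ I) = a)
    (hb : ringKrullDim (A ⧸ J) = b) (hab : D ≤ a + b) : IsRegularLocalRing (A ⧸ I) :=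
  isRegularLocalRing_quotient' I J hsup a b D hD ha hb hab

end Groth.Agent.Lib.Helper33.RegSup
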