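import Mathlib
import Groth.Prelude.Def_IntMult
import Groth.Prelude.Def_Cyc
import Groth.Agent.Lib.Helper33.ClosedStalk
import Groth.Agent.Lib.Helper33.CMTor
import Groth.Agent.Lib.Helper33.RegSup
import Groth.Agent.Lib.Helper65.CIPres
import Groth.Agent.Lib.QCoh.Helper74_ParaFact2
import Groth.Agent.Lib.Helper91.GenPrime5

/-! # Transversal intersections have multiplicity one (helper33) -/

set_option autoImplicit false
universe u
open CategoryTheory CategoryTheory.Limits AlgebraicGeometry
attribute [local instance] HasDerivedCategory.standard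

namespace Groth.Agent.Lib.Helper33.InterOne

open Groth.Agent.Lib.Helper91.StalkIdeal Groth.Agent.Lib.Helper91.GenPrime
open Groth.Agent.Lib.Helper91

/-- pure algebra: `I + J = 𝔪` in complementary dimension ⇒ `χ(A/J, A/I) = 1`. -/
theorem chi_eq_one {A : Type u} [CommRing A] [IsRegularLocalRing A] (I J : Ideal A)
    (hsup : I ⊔ J = IsLocalRing.maximalIdeal A) (a b D : ℕ) (hD : ringKrullDim A = D)
    (ha : ringKrullDim (A ⧸ I) = a) (hb : ringKrullDim (A ⧸ J) = b) (hab : D ≤ a + b) :
    IntMult.chi A (A ⧸ J) (A ⧸ I) = 1 := by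
  have hsup' : J ⊔ I = IsLocalRing.maximalIdeal A := (sup_comm _ _).trans hsup
  haveI regI : IsRegularLocalRing (A ⧸ I) :=
    RegSup.isRegularLocalRing_quotient' I J hsup a b D hD ha hb hab
  haveI regJ : IsRegularLocalRing (A ⧸ J) :=
    RegSup.isRegularLocalRing_quotient' J I hsup' b a D hD hb ha (by omega)
  have cmI : LocCoh.IsCohenMacaulayLocalRing (A ⧸ I) :=
    Groth.Agent.Lib.Helper65.CIPres.isCM_of_isRegularLocalRing _
  have cmJ : LocCoh.IsCohenMacaulayLocalRing (A ⧸ J) :=
    Groth.Agent.Lib.Helper65.CIPres.isCM_of_isRegularLocalRing _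
  have hprime : ∀ Q : Ideal A, Q.IsPrime → J ≤ Q → I ≤ Q → Q = IsLocalRing.maximalIdeal A := by
    intro Q hQ hJQ hIQ
    have hle : IsLocalRing.maximalIdeal A ≤ Q := hsup ▸ sup_le hIQ hJQ
    exact ((IsLocalRing.maximalIdeal.isMaximal A).eq_of_le hQ.ne_top hle).symm
  rw [CMTor.chi_of_cm D hD J I cmJ cmI b a hb ha (by omega) hprime]
  have key : ∀ K : Ideal A, K = IsLocalRing.maximalIdeal A → Module.length A (A ⧸ K) = 1 := by
    rintro _ rfl
    rw [Module.length_eq_one_iff, isSimpleModule_iff_isCoatom]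
    exact Ideal.isMaximal_def.mp (IsLocalRing.maximalIdeal.isMaximal A)
  rw [key _ hsup']
  rfl

variable {X : Scheme.{u}}

theorem stalkIdeal_ptIdeal {ξ τ : X} (h : ξ ⤳ τ) :
    IntMult.stalkIdeal (IntMult.ptIdeal ξ) τ = primeOf h := by
  obtain ⟨U, hxU⟩ := exists_affine τ
  change stalkIdeal (Groth.Agent.Lib.QCoh.ParaFact74.ptIdeal ξ) τ = _
  rw [stalkIdeal_eq _ U hxU,
    Groth.Agent.Lib.QCoh.ParaFact74.ptIdeal_ideal ξ U (h.mem_open U.1.isOpen hxU)]
  exact map_germ_primeIdealOf_eq_primeOf U.2 h hxU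

/-- `subschemeFun` of an injective morphism vanishes off the image. -/
theorem subschemeFun_eq_zero {W : Scheme.{u}} (ι : W ⟶ X) (δ : X → ℤ) (k : ℤ) (x : X)
    (hx : ∀ w : W, ι w ≠ x) : Cyc.subschemeFun δ k ι x = 0 := by
  unfold Cyc.subschemeFun
  split_ifs
  · have hset : {z : W | ι z = x} = ∅ := by
      ext z
      simp only [Set.mem_setOf_eq, Set.mem_empty_iff_false, iff_false]
      exact hx z
    rw [hset, finsum_mem_empty]
  · rfl

/-- `subschemeFun` of an injective morphism at an image point. -/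
theorem subschemeFun_eq {W : Scheme.{u}} (ι : W ⟶ X) (hinj : Function.Injective ι)
    (δ : X → ℤ) (k : ℤ) (w : W) (x : X) (hw : ι w = x) (hk : δ x = k) :
    Cyc.subschemeFun δ k ι x =
      ((Module.length (W.presheaf.stalk w) (W.presheaf.stalk w)).toNat : ℤ) := by
  unfold Cyc.subschemeFun
  rw [if_pos hk]
  have hset : {z : W | ι z = x} = {w} := by
    ext z
    simp only [Set.mem_setOf_eq, Set.mem_singleton_iff]
    constructor
    · intro hz
      exact hinj (hz.trans hw.symm)
    · rintro rfl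
      exact hw
  rw [hset, finsum_mem_singleton]

end Groth.Agent.Lib.Helper33.InterOne
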