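import Mathlib
import Groth.Prelude.Def_CAlg
import Groth.Agent.Lib.Helper94.KoszulReg
import Groth.Agent.Lib.Helper13.KoszulCone
import Groth.Agent.S2424
import Groth.Agent.Lib.Helper29.Depth
import Groth.Agent.Lib.Helper29.DepthFinite
import Groth.Agent.Lib.Helper93.ReflexiveDepth
import Groth.Agent.Lib.Helper33.ComplexTranslate

/-!
# Depth sensitivity of the Koszul complex (mapping cone model)
-/

set_option autoImplicit false
universe u
open CategoryTheory CategoryTheory.Limits CochainComplex HomologicalComplex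
open Groth.Agent.Lib.Helper94.KoszulReg

namespace Groth.Agent.Lib.Helper33.KoszulDepth

variable {A : Type u} [CommRing A]

/-- Every member of the list acts null-homotopically on `kz X fs`. -/
theorem smul_id_nullHomotopic (X : CochainComplex (ModuleCat.{u} A) ℤ) (fs : List A)
    (a : A) (ha : a ∈ fs) : Nonempty (Homotopy (a • 𝟙 (kz X fs)) 0) := by
  induction fs with
  | nil => simp at ha
  | cons f fs ih =>
    rcases List.mem_cons.mp ha with rfl | h
    · exact ⟨Groth.Agent.Lib.Helper13.coneHeadHomotopy (kz X fs) a⟩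
    · obtain ⟨H⟩ := ih h
      exact ⟨Groth.Agent.Lib.Helper13.coneTailHomotopy (kz X fs) f a H⟩

/-- Every element of the ideal generated by the list acts as zero on the homology of `kz X fs`. -/
theorem homologyMap_smul_eq_zero (X : CochainComplex (ModuleCat.{u} A) ℤ) (fs : List A)
    (a : A) (ha : a ∈ Ideal.span {x | x ∈ fs}) (i : ℤ) :
    HomologicalComplex.homologyMap (a • 𝟙 (kz X fs)) i = 0 := by
  set K := kz X fs with hK
  have hle : Ideal.span {x | x ∈ fs} ≤ Groth.Agent.S2424.nullIdeal K := by
    rw [Ideal.span_le]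
    intro b hb
    obtain ⟨H⟩ := smul_id_nullHomotopic X fs b hb
    exact HomotopyCategory.eq_of_homotopy _ _ H |>.trans (by simp)
  have h1 : (HomotopyCategory.quotient _ _).map (a • 𝟙 K) = 0 := hle ha
  have h1' : (HomotopyCategory.quotient _ _).map (a • 𝟙 K) =
      (HomotopyCategory.quotient _ _).map 0 := by rw [h1, Functor.map_zero]
  have H : Homotopy (a • 𝟙 K) 0 := HomotopyCategory.homotopyOfEq _ _ h1'
  rw [H.homologyMap_eq i, HomologicalComplex.homologyMap_zero]


section LES

variable {f : A} {X Y : CochainComplex (ModuleCat.{u} A) ℤ} {p : X ⟶ Y}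

/-- vanishing step: `H^i(Y) = 0` and `f` acts as zero on `H^{i+1}(X)` imply `H^{i+1}(X) = 0`. -/
theorem isZero_homology_succ (h : DegExact f p) (i j : ℤ) (hij : i + 1 = j)
    (hY : IsZero (Y.homology i)) (hf : HomologicalComplex.homologyMap (f • 𝟙 X) j = 0) :
    IsZero (X.homology j) := by
  have hS := h.shortExact
  have ex := hS.homology_exact₁ i j hij
  have hepi := ex.epi_f hf
  exact @IsZero.of_epi _ _ _ _ _ _ hepi hY

/-- nonvanishing step: `H^i(X) = 0` and `H^{i+1}(X) = 0` imply `H^i(Y) = 0`. -/
theorem isZero_homology_quot (h : DegExact f p) (i j : ℤ) (hij : i + 1 = j)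
    (hX : IsZero (X.homology i)) (hX' : IsZero (X.homology j)) :
    IsZero (Y.homology i) := by
  have hS := h.shortExact
  have ex := hS.homology_exact₃ i j hij
  exact ex.isZero_of_both_zeros (hX.eq_of_src _ _) (hX'.eq_of_tgt _ _)

end LES


section Range

/-- The Koszul complex of a module on a list of length `n` vanishes outside degrees `[-n, 0]`. -/
theorem isZero_X_of_lt (M : ModuleCat.{u} A) : ∀ (fs : List A) (i : ℤ),
    (i < -(fs.length : ℤ) ∨ 0 < i) → IsZero ((kz (sg A M) fs).X i)
  | [], i, h => by
      apply HomologicalComplex.isZero_single_obj_X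
      rcases h with h | h
      · simp only [List.length_nil, Nat.cast_zero, neg_zero] at h; omega
      · omega
  | f :: fs, i, h => by
      change IsZero ((mappingCone (f • 𝟙 (kz (sg A M) fs))).X i)
      rw [mappingCone.isZero_X_iff]
      simp only [List.length_cons, Nat.cast_add, Nat.cast_one] at h
      constructor
      · apply isZero_X_of_lt M fs
        rcases h with h | h
        · left; omega
        · right; omega
      · apply isZero_X_of_lt M fs
        rcases h with h | h
        · left; omega
        · right; omega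

theorem isZero_homology_of_lt (M : ModuleCat.{u} A) (fs : List A) (i : ℤ)
    (h : i < -(fs.length : ℤ) ∨ 0 < i) : IsZero ((kz (sg A M) fs).homology i) :=
  ShortComplex.isZero_homology_of_isZero_X₂ _ (isZero_X_of_lt M fs i h)

end Range


section Bottom

/-- cone step for cycles in the bottom degree -/
theorem cone_cycle (K : CochainComplex (ModuleCat.{u} A) ℤ) (f : A) (j : ℤ) (z' : K.X (j + 1))
    (hd : ∀ k : ℤ, (K.d (j + 1) k).hom z' = 0) (hf : f • z' = 0) :
    (z' ≠ 0 → ((mappingCone.inl (f • 𝟙 K)).v (j + 1) j (by omega)).hom z' ≠ 0) ∧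
      ∀ k : ℤ, ((mappingCone (f • 𝟙 K)).d j k).hom
        (((mappingCone.inl (f • 𝟙 K)).v (j + 1) j (by omega)).hom z') = 0 := by
  constructor
  · intro hz' h0
    apply hz'
    have := fst_inl (f • 𝟙 K) j z'
    rw [h0, map_zero] at this
    exact this.symm
  · intro k
    by_cases hk : j + 1 = k
    · subst hk
      have h1 := mappingCone.inl_v_d (f • 𝟙 K) (j + 1) j (j + 1 + 1) (by omega) (by omega)
      have h2 := congrArg (fun g => g.hom z') h1
      simp only [ModuleCat.hom_comp, LinearMap.comp_apply, ModuleCat.hom_sub,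
        LinearMap.sub_apply] at h2
      rw [h2, hd (j + 1 + 1), map_zero, sub_zero]
      have h3 : ((f • 𝟙 K : K ⟶ K).f (j + 1)).hom z' = f • z' := by
        simp only [HomologicalComplex.smul_f_apply, HomologicalComplex.id_f]
        exact smul_id_hom_apply f _ z'
      rw [h3, hf, map_zero]
    · rw [(mappingCone (f • 𝟙 K)).shape j k hk]
      rfl

variable (M : Type u) [AddCommGroup M] [Module A M]

/-- A nonzero element killed by all members of the list gives a nonzero cycle in the bottom degree
of the Koszul complex. -/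
theorem exists_cycle (m : M) (hm : m ≠ 0) :
    ∀ (fs : List A) (j : ℤ), j = -(fs.length : ℤ) → (∀ x ∈ fs, x • m = 0) →
      ∃ z : (kz (sg A (ModuleCat.of A M)) fs).X j, z ≠ 0 ∧
        (∀ k : ℤ, ((kz (sg A (ModuleCat.of A M)) fs).d j k).hom z = 0) ∧
        ∀ r : A, r • m = 0 → r • z = 0
  | [], j, hj, _ => by
      simp only [List.length_nil, Nat.cast_zero, neg_zero] at hj
      subst hj
      change ∃ z : ((HomologicalComplex.single (ModuleCat.{u} A) (ComplexShape.up ℤ) 0).obj
          (ModuleCat.of A M)).X 0, z ≠ 0 ∧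
        (∀ k : ℤ, (((HomologicalComplex.single (ModuleCat.{u} A) (ComplexShape.up ℤ) 0).obj
          (ModuleCat.of A M)).d 0 k).hom z = 0) ∧ ∀ r : A, r • m = 0 → r • z = 0
      let e := (HomologicalComplex.singleObjXSelf (ComplexShape.up ℤ) 0
        (ModuleCat.of A M)).toLinearEquiv
      refine ⟨e.symm m, ?_, ?_, ?_⟩
      · intro h
        apply hm
        have := congrArg e h
        rwa [LinearEquiv.apply_symm_apply, map_zero] at this
      · intro k
        rw [HomologicalComplex.single_obj_d]
        rfl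
      · intro r hr
        rw [← map_smul, hr, map_zero]
  | f :: fs, j, hj, h => by
      simp only [List.length_cons, Nat.cast_add, Nat.cast_one] at hj
      obtain ⟨z', hz', hd', hr'⟩ := exists_cycle m hm fs (j + 1) (by omega)
        (fun x hx => h x (List.mem_cons_of_mem _ hx))
      obtain ⟨h1, h2⟩ := cone_cycle (kz (sg A (ModuleCat.of A M)) fs) f j z' hd'
        (hr' f (h f List.mem_cons_self))
      change ∃ z : (mappingCone (f • 𝟙 (kz (sg A (ModuleCat.of A M)) fs))).X j, z ≠ 0 ∧
        (∀ k : ℤ, ((mappingCone (f • 𝟙 (kz (sg A (ModuleCat.of A M)) fs))).d j k).hom z = 0) ∧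
        ∀ r : A, r • m = 0 → r • z = 0
      refine ⟨((mappingCone.inl (f • 𝟙 (kz (sg A (ModuleCat.of A M)) fs))).v (j + 1) j
        (by omega)).hom z', h1 hz', h2, ?_⟩
      intro r hr
      rw [← map_smul, hr' r hr, map_zero]

/-- The bottom Koszul cohomology is nonzero when some nonzero element is killed by the list. -/
theorem not_isZero_homology_bot (m : M) (hm : m ≠ 0) (fs : List A) (h : ∀ x ∈ fs, x • m = 0) :
    ¬ IsZero ((kz (sg A (ModuleCat.of A M)) fs).homology (-(fs.length : ℤ))) := by
  intro hz
  obtain ⟨z, hz0, hzd, -⟩ := exists_cycle M m hm fs _ rfl h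
  rw [Groth.Agent.Lib.Helper33.ComplexTranslate.isZero_homology_iff _
    (-(fs.length : ℤ) - 1) (-(fs.length : ℤ)) (-(fs.length : ℤ) + 1) (by simp) (by simp)] at hz
  have h1 : z ∈ LinearMap.ker ((kz (sg A (ModuleCat.of A M)) fs).d (-(fs.length : ℤ))
      (-(fs.length : ℤ) + 1)).hom := hzd _
  obtain ⟨w, hw⟩ := hz h1
  have hsub : Subsingleton ((kz (sg A (ModuleCat.of A M)) fs).X (-(fs.length : ℤ) - 1)) :=
    ModuleCat.subsingleton_of_isZero (isZero_X_of_lt _ fs _ (Or.inl (by omega)))
  rw [Subsingleton.elim w 0, map_zero] at hw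
  exact hz0 hw.symm

end Bottom


section Depth

open RingTheory.Sequence

/-- If no element of `I` is regular on a finite module over a Noetherian ring, then some nonzero
element is killed by `I`. -/
theorem exists_ne_zero_smul_eq_zero [IsNoetherianRing A] (I : Ideal A) (M : Type u) [AddCommGroup M]
    [Module A M] [Module.Finite A M] (h : ∀ x ∈ I, ¬ IsSMulRegular M x) :
    ∃ m : M, m ≠ 0 ∧ ∀ x ∈ I, x • m = 0 := by
  classical
  have hfin : (associatedPrimes A M).Finite := associatedPrimes.finite A M
  have hsub : (I : Set A) ⊆ ⋃ p ∈ ((hfin.toFinset : Finset (Ideal A)) : Set (Ideal A)), (p : Set A) := by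
    intro x hx
    have h1 : x ∈ {r : A | IsSMulRegular M r}ᶜ := h x hx
    rw [← biUnion_associatedPrimes_eq_compl_regular A M] at h1
    simpa using h1
  rw [Ideal.subset_union_prime (f := fun p : Ideal A => p) ⊥ ⊥] at hsub
  · obtain ⟨p, hp, hIp⟩ := hsub
    rw [Set.Finite.mem_toFinset] at hp
    obtain ⟨hprime, m, hm⟩ := isAssociatedPrime_iff.1 hp
    refine ⟨m, ?_, ?_⟩
    · rintro rfl
      apply hprime.ne_top
      rw [hm]
      ext r
      simp
    · intro x hx
      have : x ∈ (⊥ : Submodule A M).colon {m} := hm ▸ hIp hx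
      simpa [Submodule.mem_colon_singleton] using this
  · intro p hp _ _
    rw [Set.Finite.mem_toFinset] at hp
    exact hp.isPrime

variable [IsNoetherianRing A] (xs : List A)

/-- **Vanishing below the depth.** -/
theorem isZero_homology_of_lt_depth (r : ℕ) :
    ∀ (M : Type u) [AddCommGroup M] [Module A M] [Module.Finite A M],
      Ideal.span {x | x ∈ xs} • (⊤ : Submodule A M) ≠ ⊤ →
      (r : ℕ∞) ≤ LocCoh.idealDepth (Ideal.span {x | x ∈ xs}) M →
      ∀ i : ℤ, i + xs.length < r → IsZero ((kz (sg A (ModuleCat.of A M)) xs).homology i) := by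
  induction r with
  | zero =>
    intro M _ _ _ _ _ i hi
    exact isZero_homology_of_lt _ xs i (Or.inl (by push_cast at hi; omega))
  | succ r ih =>
    intro M _ _ _ haM hr i hi
    have h1 : 1 ≤ LocCoh.idealDepth (Ideal.span {x | x ∈ xs}) M :=
      le_trans (by exact_mod_cast Nat.succ_le_succ (Nat.zero_le r)) hr
    obtain ⟨f, hfa, hf⟩ := Groth.Agent.Lib.Helper93.ReflexiveDepth.exists_regular_one _ M h1 haM
    have haQ := Groth.Agent.S5151.smul_top_quotSMulTop_ne_top hfa haM
    have hdep := Groth.Agent.Lib.Helper29.DepthLib.idealDepth_quotSMulTop_add_one _ M haM hfa hf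
    have hrQ : (r : ℕ∞) ≤ LocCoh.idealDepth (Ideal.span {x | x ∈ xs}) (QuotSMulTop f M) := by
      rw [← hdep] at hr
      push_cast at hr
      exact (ENat.add_le_add_iff_right ENat.one_ne_top).mp hr
    have hY := ih (QuotSMulTop f M) haQ hrQ (i - 1) (by push_cast at hi ⊢; omega)
    have hd := degExact_kmap f _ (degExact_single f M hf) xs
    exact isZero_homology_succ hd (i - 1) i (by omega) hY
      (homologyMap_smul_eq_zero _ xs f hfa i)

/-- **Non-vanishing at the depth.** -/
theorem not_isZero_homology_depth (r : ℕ) :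
    ∀ (M : Type u) [AddCommGroup M] [Module A M] [Module.Finite A M],
      Ideal.span {x | x ∈ xs} • (⊤ : Submodule A M) ≠ ⊤ →
      LocCoh.idealDepth (Ideal.span {x | x ∈ xs}) M = r →
      ¬ IsZero ((kz (sg A (ModuleCat.of A M)) xs).homology ((r : ℤ) - xs.length)) := by
  induction r with
  | zero =>
    intro M _ _ _ haM hr
    rw [Nat.cast_zero] at hr
    rw [Groth.Agent.Lib.Helper29.DepthFinite.idealDepth_eq_zero_iff_forall_not_isSMulRegular _ M
      haM] at hr
    obtain ⟨m, hm, hkill⟩ := exists_ne_zero_smul_eq_zero _ M hr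
    have h0 : ((0 : ℕ) : ℤ) - xs.length = -(xs.length : ℤ) := by simp
    rw [h0]
    exact not_isZero_homology_bot M m hm xs
      (fun x hx => hkill x (Ideal.subset_span hx))
  | succ r ih =>
    intro M _ _ _ haM hr
    have h1 : 1 ≤ LocCoh.idealDepth (Ideal.span {x | x ∈ xs}) M := by
      rw [hr]
      exact_mod_cast Nat.succ_le_succ (Nat.zero_le r)
    obtain ⟨f, hfa, hf⟩ := Groth.Agent.Lib.Helper93.ReflexiveDepth.exists_regular_one _ M h1 haM
    have haQ := Groth.Agent.S5151.smul_top_quotSMulTop_ne_top hfa haM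
    have hdep := Groth.Agent.Lib.Helper29.DepthLib.idealDepth_quotSMulTop_add_one _ M haM hfa hf
    have hrQ : LocCoh.idealDepth (Ideal.span {x | x ∈ xs}) (QuotSMulTop f M) = r := by
      rw [hr] at hdep
      push_cast at hdep
      exact (ENat.add_left_injective_of_ne_top ENat.one_ne_top) hdep
    have hY := ih (QuotSMulTop f M) haQ hrQ
    have hd := degExact_kmap f _ (degExact_single f M hf) xs
    intro hX'
    apply hY
    have hX : IsZero ((kz (sg A (ModuleCat.of A M)) xs).homology ((r : ℤ) - xs.length)) :=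
      isZero_homology_of_lt_depth xs (r + 1) M haM hr.ge _ (by push_cast; omega)
    refine isZero_homology_quot hd ((r : ℤ) - xs.length) (((r + 1 : ℕ) : ℤ) - xs.length)
      (by push_cast; omega) hX hX'

end Depth

end Groth.Agent.Lib.Helper33.KoszulDepth
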