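import Mathlib
import Groth.Agent.Lib.Helper33.PullbackStalk
import Groth.Agent.Lib.Helper33.GorTransfer

/-!
# Stalks of a pullback along a closed immersion of affine bases: consequences
-/

set_option autoImplicit false
set_option maxHeartbeats 400000
set_option backward.isDefEq.respectTransparency.types false
universe u
open CategoryTheory CategoryTheory.Limits AlgebraicGeometry TopologicalSpace

namespace Groth.Agent.Lib.Helper33.PullbackStalk

open IsLocalRing

theorem map_asIdeal_germ {A : CommRingCat.{u}} (y : Spec A) :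
    (y.asIdeal).map ((Scheme.ΓSpecIso A).inv ≫ (Spec A).presheaf.germ ⊤ y trivial).hom =
      maximalIdeal ((Spec A).presheaf.stalk y) := by
  rw [← Spec.algebraMap_stalkIso_inv]
  have h1 : (CommRingCat.ofHom (algebraMap A (Localization.AtPrime y.asIdeal)) ≫
      (Spec.stalkIso A y).inv).hom =
      ((Spec.stalkIso A y).symm.commRingCatIsoToRingEquiv : _ →+* _).comp
        (algebraMap A (Localization.AtPrime y.asIdeal)) := rfl
  rw [h1, ← Ideal.map_map, Localization.AtPrime.map_eq_maximalIdeal]
  exact IsLocalRing.map_ringEquiv_maximalIdeal _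

theorem map_asIdeal_gl {A : CommRingCat.{u}} {P : Scheme.{u}} (f : P ⟶ Spec A) (x : P) :
    ((f.base x).asIdeal).map (gl f x).hom =
      (maximalIdeal ((Spec A).presheaf.stalk (f.base x))).map (f.stalkMap x).hom := by
  rw [← map_asIdeal_germ, Ideal.map_map]
  rfl

/-- Two surjections with the same kernel have isomorphic targets. -/
noncomputable def equivOfKerEq {R G H : Type u} [CommRing R] [CommRing G] [CommRing H]
    (π₁ : R →+* G) (π₂ : R →+* H) (h₁ : Function.Surjective π₁) (h₂ : Function.Surjective π₂)
    (hk : RingHom.ker π₁ = RingHom.ker π₂) : G ≃+* H :=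
  (RingHom.quotientKerEquivOfSurjective h₁).symm.trans
    ((Ideal.quotEquivOfEq hk).trans (RingHom.quotientKerEquivOfSurjective h₂))

theorem gorenstein_of_ker_eq {R G H : Type u} [CommRing R] [CommRing G] [CommRing H]
    (π₁ : R →+* G) (π₂ : R →+* H) (h₁ : Function.Surjective π₁) (h₂ : Function.Surjective π₂)
    (hk : RingHom.ker π₁ = RingHom.ker π₂) (hG : LocCoh.IsGorensteinLocalRing G) :
    LocCoh.IsGorensteinLocalRing H :=
  Groth.Agent.Lib.Helper33.GorTransfer.gorenstein_of_ringEquiv (equivOfKerEq π₁ π₂ h₁ h₂ hk) hG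

end Groth.Agent.Lib.Helper33.PullbackStalk
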