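import Mathlib
import Groth.Agent.Lib.Helper33.PullbackStalk2

/-!
# Flatness of the canonical map `A → O_{P,x}` for `P → Spec A` flat at `x`
-/

set_option autoImplicit false
set_option maxHeartbeats 400000
set_option backward.isDefEq.respectTransparency.types false
universe u
open CategoryTheory CategoryTheory.Limits AlgebraicGeometry TopologicalSpace

namespace Groth.Agent.Lib.Helper33.PullbackStalk

open IsLocalRing

theorem flat_germ {A : CommRingCat.{u}} (y : Spec A) :
    ((Scheme.ΓSpecIso A).inv ≫ (Spec A).presheaf.germ ⊤ y trivial).hom.Flat := by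
  rw [← Spec.algebraMap_stalkIso_inv]
  have h1 : (CommRingCat.ofHom (algebraMap A (Localization.AtPrime y.asIdeal)) ≫
      (Spec.stalkIso A y).inv).hom =
      ((Spec.stalkIso A y).symm.commRingCatIsoToRingEquiv : _ →+* _).comp
        (algebraMap A (Localization.AtPrime y.asIdeal)) := rfl
  rw [h1]
  refine RingHom.Flat.comp ?_ (RingHom.Flat.of_bijective (RingEquiv.bijective _))
  rw [RingHom.flat_algebraMap_iff]
  exact IsLocalization.flat _ y.asIdeal.primeCompl

theorem flat_gl {A : CommRingCat.{u}} {P : Scheme.{u}} (f : P ⟶ Spec A) (x : P)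
    (h : (f.stalkMap x).hom.Flat) : (gl f x).hom.Flat := by
  have : (gl f x).hom = (f.stalkMap x).hom.comp
      ((Scheme.ΓSpecIso A).inv ≫ (Spec A).presheaf.germ ⊤ (f.base x) trivial).hom := rfl
  rw [this]
  exact RingHom.Flat.comp (flat_germ _) h

/-- A nonzerodivisor of `A` stays a nonzerodivisor in the stalk when `f` is flat at `x`. -/
theorem isSMulRegular_gl {A : CommRingCat.{u}} {P : Scheme.{u}} (f : P ⟶ Spec A) (x : P)
    (h : (f.stalkMap x).hom.Flat) (a : A) (ha : a ∈ nonZeroDivisors A) :
    IsSMulRegular (P.presheaf.stalk x) ((gl f x).hom a) := by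
  letI : Algebra A (P.presheaf.stalk x) := (gl f x).hom.toAlgebra
  haveI : Module.Flat A (P.presheaf.stalk x) := flat_gl f x h
  have h1 : IsSMulRegular (P.presheaf.stalk x) a := Module.Flat.isSMulRegular_of_nonZeroDivisors ha
  intro b c hbc
  apply h1
  show (gl f x).hom a * b = (gl f x).hom a * c
  exact hbc

end Groth.Agent.Lib.Helper33.PullbackStalk
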