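import Mathlib

/-!
# Spreading out a weakly regular sequence from `M_p` to `M_g`
-/

set_option autoImplicit false
universe u v
open Pointwise

namespace Groth.Agent.Lib.Helper33.SpreadRegular

variable {R : Type u} [CommRing R]

/-- localization commutes with the quotient by `J • ⊤`. -/
noncomputable def quotSMulTopLocalizedEquiv (S' : Submonoid R) (M : Type v) [AddCommGroup M]
    [Module R M] (J : Ideal R) :
    (LocalizedModule S' M ⧸ (J • (⊤ : Submodule R (LocalizedModule S' M)))) ≃ₗ[R]
      LocalizedModule S' (M ⧸ (J • (⊤ : Submodule R M))) := by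
  let f := LocalizedModule.mkLinearMap S' M
  let P : Submodule (Localization S') (LocalizedModule S' M) :=
    (J • (⊤ : Submodule R M)).localized' (Localization S') S' f
  have h : (J • (⊤ : Submodule R (LocalizedModule S' M))) = P.restrictScalars R := by
    show _ = (J • (⊤ : Submodule R M)).localized₀ S' f
    rw [Submodule.localized₀_smul, Submodule.localized₀_top]
  exact (Submodule.quotEquivOfEq _ _ h).trans
    ((Submodule.Quotient.restrictScalarsEquiv R P).trans
      (IsLocalizedModule.iso S'
        ((J • (⊤ : Submodule R M)).toLocalizedQuotient' (Localization S') S' f)).symm)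

/-- kernel argument: regularity of `r` on `N_p` spreads to a neighbourhood. -/
theorem exists_isSMulRegular_localized [IsNoetherianRing R] (p : Ideal R) [p.IsPrime]
    (N : Type v) [AddCommGroup N] [Module R N] [Module.Finite R N] (r : R)
    (h : IsSMulRegular (LocalizedModule p.primeCompl N) r) :
    ∃ g : R, g ∉ p ∧ ∀ S' : Submonoid R, (∃ c, c * g ∈ S') →
      IsSMulRegular (LocalizedModule S' N) r := by
  let K : Submodule R N := LinearMap.ker (LinearMap.lsmul R N r)
  have hK : ∀ k : K, ∃ s ∉ p, s • k = 0 := by
    intro k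
    have h1 : r • (LocalizedModule.mk (k : N) (1 : p.primeCompl)) = 0 := by
      rw [LocalizedModule.smul'_mk]
      have : r • (k : N) = 0 := k.2
      rw [this, LocalizedModule.zero_mk]
    have h2 := (isSMulRegular_iff_right_eq_zero_of_smul.mp h) _ h1
    rw [← LocalizedModule.zero_mk (1 : p.primeCompl), LocalizedModule.mk_eq] at h2
    obtain ⟨t, ht⟩ := h2
    simp only [smul_zero, one_smul] at ht
    exact ⟨t, t.2, Subtype.ext ht⟩
  have hsupp : (⟨p, inferInstance⟩ : PrimeSpectrum R) ∉ Module.support R K :=
    Module.notMem_support_iff'.mpr hK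
  rw [Module.mem_support_iff_of_finite, SetLike.not_le_iff_exists] at hsupp
  obtain ⟨g, hgann, hgp⟩ := hsupp
  refine ⟨g, hgp, fun S' ⟨c, hc⟩ => ?_⟩
  rw [isSMulRegular_iff_right_eq_zero_of_smul]
  intro x hx
  induction x using LocalizedModule.induction_on with
  | h m s =>
    rw [LocalizedModule.smul'_mk, ← LocalizedModule.zero_mk s, LocalizedModule.mk_eq] at hx
    obtain ⟨t, ht⟩ := hx
    simp only [smul_zero, Submonoid.smul_def] at ht
    have hmem : ((t : R) * (s : R)) • m ∈ K := by
      show r • (((t : R) * (s : R)) • m) = 0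
      rw [smul_comm, mul_smul]
      exact ht
    have hg : g • (⟨((t : R) * (s : R)) • m, hmem⟩ : K) = 0 :=
      Module.mem_annihilator.mp hgann _
    have hg' : g • (((t : R) * (s : R)) • m) = 0 := congrArg Subtype.val hg
    rw [← LocalizedModule.zero_mk s, LocalizedModule.mk_eq]
    refine ⟨⟨c * g, hc⟩ * t * s, ?_⟩
    simp only [smul_zero, Submonoid.smul_def, Submonoid.coe_mul]
    rw [mul_smul, mul_smul, mul_smul, ← mul_smul (t : R), smul_comm ((t : R) * (s : R)) (s : R),
      smul_comm g (s : R), hg', smul_zero, smul_zero]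

/-- a weakly regular sequence on `M_p` is weakly regular on `M_g` for some `g ∉ p`. -/
theorem exists_isWeaklyRegular_localized [IsNoetherianRing R] (p : Ideal R) [p.IsPrime]
    (M : Type v) [AddCommGroup M] [Module R M] [Module.Finite R M] (rs : List R)
    (h : RingTheory.Sequence.IsWeaklyRegular (LocalizedModule p.primeCompl M) rs) :
    ∃ g : R, g ∉ p ∧
      RingTheory.Sequence.IsWeaklyRegular (LocalizedModule (Submonoid.powers g) M) rs := by
  classical
  rw [RingTheory.Sequence.isWeaklyRegular_iff_Fin] at h
  have h1 : ∀ i : Fin rs.length, ∃ g : R, g ∉ p ∧ ∀ S' : Submonoid R, (∃ c, c * g ∈ S') →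
      IsSMulRegular (LocalizedModule S' (M ⧸ (Ideal.ofList (rs.take i) • (⊤ : Submodule R M))))
        rs[i] := by
    intro i
    apply exists_isSMulRegular_localized p
    exact ((quotSMulTopLocalizedEquiv p.primeCompl M (Ideal.ofList (rs.take i))).isSMulRegular_congr
      rs[i]).mp (h i)
  choose g hgp hg using h1
  refine ⟨∏ i, g i, ?_, ?_⟩
  · intro hmem
    obtain ⟨i, -, hi⟩ := (Ideal.IsPrime.prod_mem_iff).mp hmem
    exact hgp i hi
  · rw [RingTheory.Sequence.isWeaklyRegular_iff_Fin]
    intro i
    have h2 := hg i (Submonoid.powers (∏ i, g i))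
      ⟨∏ j ∈ Finset.univ.erase i, g j, by
        rw [Finset.prod_erase_mul Finset.univ g (Finset.mem_univ i)]
        exact Submonoid.mem_powers _⟩
    exact ((quotSMulTopLocalizedEquiv (Submonoid.powers (∏ i, g i)) M
      (Ideal.ofList (rs.take i))).isSMulRegular_congr rs[i]).mpr h2

end Groth.Agent.Lib.Helper33.SpreadRegular
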