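import Mathlib
import Groth.Agent.Lib.Helper33.CMComp
import Groth.Agent.S9142

/-!
# Cohen–Macaulayness along syntomic ring maps
-/

set_option autoImplicit false
set_option maxHeartbeats 800000
universe u
open IsLocalRing TensorProduct

namespace Groth.Agent.Lib.Helper33.SyntCM

theorem cm_congr_ideal {B : Type u} [CommRing B] {r r' : Ideal B} [r.IsPrime] [r'.IsPrime]
    (h : r = r') (H : LocCoh.IsCohenMacaulayLocalRing (Localization.AtPrime r)) :
    LocCoh.IsCohenMacaulayLocalRing (Localization.AtPrime r') := by
  subst h; exact H

/-- The kernel ideal of the closed fibre of `A_p → B_r`. -/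
theorem map_maximalIdeal_localRingHom {A B : Type u} [CommRing A] [CommRing B] [Algebra A B]
    (p : Ideal A) [p.IsPrime] (r : Ideal B) [r.IsPrime] (hr : p = r.comap (algebraMap A B)) :
    (maximalIdeal (Localization.AtPrime p)).map (Localization.localRingHom p r (algebraMap A B) hr)
      = (p.map (algebraMap A B)).map (algebraMap B (Localization.AtPrime r)) := by
  rw [← Localization.AtPrime.map_eq_maximalIdeal, Ideal.map_map, Ideal.map_map]
  congr 1
  ext a
  simp [Localization.localRingHom_to_map]

/-- Flat base with CM local ring and CM fibre ring: the local rings upstairs are CM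
(fibre-prime form). -/
theorem cm_localization_of_fibre {A B : Type u} [CommRing A] [CommRing B] [Algebra A B]
    [IsNoetherianRing A] [IsNoetherianRing B] [Module.Flat A B]
    (p : Ideal A) [p.IsPrime] (hp : LocCoh.IsCohenMacaulayLocalRing (Localization.AtPrime p))
    (hF : LocCoh.IsCohenMacaulayRing (p.Fiber B))
    (q : Ideal (p.Fiber B)) [q.IsPrime] :
    LocCoh.IsCohenMacaulayLocalRing (Localization.AtPrime
      (q.comap (Algebra.TensorProduct.includeRight : B →ₐ[A] p.Fiber B))) := by
  set r : Ideal B := q.comap (Algebra.TensorProduct.includeRight : B →ₐ[A] p.Fiber B) with hrdef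
  have hr : p = r.comap (algebraMap A B) := by
    have h1 : r.comap (algebraMap A B) = q.comap (algebraMap A (p.Fiber B)) := by
      ext a
      simp only [hrdef, Ideal.mem_comap]
      rw [AlgHom.commutes]
    rw [h1]
    exact (inferInstance : q.LiesOver p).over
  let φ := Localization.localRingHom p r (algebraMap A B) hr
  have hφ : φ.Flat := RingHom.Flat.localRingHom (f := algebraMap A B)
    (RingHom.flat_algebraMap_iff.2 inferInstance) r p hr
  letI : Algebra (Localization.AtPrime p) (Localization.AtPrime r) := φ.toAlgebra
  haveI : Module.Flat (Localization.AtPrime p) (Localization.AtPrime r) := hφ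
  haveI : IsLocalHom (algebraMap (Localization.AtPrime p) (Localization.AtPrime r)) :=
    inferInstanceAs (IsLocalHom (Localization.localRingHom p r (algebraMap A B) hr))
  haveI : IsNoetherianRing (Localization.AtPrime p) :=
    IsLocalization.isNoetherianRing p.primeCompl _ inferInstance
  haveI : IsNoetherianRing (Localization.AtPrime r) :=
    IsLocalization.isNoetherianRing r.primeCompl _ inferInstance
  let e := Ideal.Fiber.algEquivAux₂ p q
  let π : Localization.AtPrime r →+* Localization.AtPrime q :=
    (e.symm.toRingEquiv.toRingHom).comp (Ideal.Quotient.mk _)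
  have hπ : Function.Surjective π :=
    e.symm.surjective.comp Ideal.Quotient.mk_surjective
  have hker : RingHom.ker π =
      (maximalIdeal (Localization.AtPrime p)).map
        (algebraMap (Localization.AtPrime p) (Localization.AtPrime r)) := by
    have h2 : (algebraMap (Localization.AtPrime p) (Localization.AtPrime r)) = φ := rfl
    rw [h2, map_maximalIdeal_localRingHom p r hr]
    ext x
    simp only [π, RingHom.mem_ker, RingHom.comp_apply]
    rw [show ((e.symm.toRingEquiv.toRingHom) (Ideal.Quotient.mk _ x) = 0) ↔
      (Ideal.Quotient.mk _ x = 0) from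
      map_eq_zero_iff _ e.symm.injective, Ideal.Quotient.eq_zero_iff_mem]
  exact (Groth.Agent.Lib.Helper33.CMComp.cm_flat_local_iff' (Localization.AtPrime p)
    (Localization.AtPrime r) (Localization.AtPrime q) π hπ hker).2
    ⟨hp, hF.isCohenMacaulayLocalRing_localization q⟩

/-- **Ascent.** A syntomic algebra over a Noetherian ring with CM local rings has CM local rings. -/
theorem cm_of_isSyntomic {A B : Type u} [CommRing A] [CommRing B] [Algebra A B]
    [IsNoetherianRing A] (hA : ∀ (p : Ideal A) [p.IsPrime],
      LocCoh.IsCohenMacaulayLocalRing (Localization.AtPrime p))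
    (hs : Synt.IsSyntomic A B) (r : Ideal B) [r.IsPrime] :
    LocCoh.IsCohenMacaulayLocalRing (Localization.AtPrime r) := by
  haveI : Module.Flat A B := hs.1
  haveI : Algebra.FinitePresentation A B := hs.2.1
  haveI : IsNoetherianRing B := Algebra.FiniteType.isNoetherianRing A B
  let p : Ideal A := r.comap (algebraMap A B)
  haveI : p.IsPrime := Ideal.comap_isPrime _ _
  have hF : LocCoh.IsCohenMacaulayRing (p.Fiber B) :=
    Groth.Agent.S9142.result p.ResidueField (p.Fiber B) (hs.2.2 ⟨p, inferInstance⟩)
  let q := PrimeSpectrum.preimageEquivFiber A B ⟨p, inferInstance⟩ ⟨⟨r, inferInstance⟩, rfl⟩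
  have hq := (PrimeSpectrum.preimageEquivFiber A B ⟨p, inferInstance⟩).left_inv
    ⟨⟨r, inferInstance⟩, rfl⟩
  have hq' : q.asIdeal.comap (Algebra.TensorProduct.includeRight : B →ₐ[A] p.Fiber B) = r := by
    have := congrArg (fun z => z.1.asIdeal) hq
    exact this
  haveI := q.isPrime
  exact cm_congr_ideal hq' (cm_localization_of_fibre p (hA p) hF q.asIdeal)

/-- **Descent.** Along a flat ring map, CM local rings upstairs force CM local rings at the
contracted primes. -/
theorem cm_of_flat_of_cm {A B : Type u} [CommRing A] [CommRing B] [Algebra A B]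
    [IsNoetherianRing A] [IsNoetherianRing B] [Module.Flat A B] (r : Ideal B) [r.IsPrime]
    (p : Ideal A) [p.IsPrime] (hr : p = r.comap (algebraMap A B))
    (H : LocCoh.IsCohenMacaulayLocalRing (Localization.AtPrime r)) :
    LocCoh.IsCohenMacaulayLocalRing (Localization.AtPrime p) := by
  let φ := Localization.localRingHom p r (algebraMap A B) hr
  have hφ : φ.Flat := RingHom.Flat.localRingHom (f := algebraMap A B)
    (RingHom.flat_algebraMap_iff.2 inferInstance) r p hr
  letI : Algebra (Localization.AtPrime p) (Localization.AtPrime r) := φ.toAlgebra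
  haveI : Module.Flat (Localization.AtPrime p) (Localization.AtPrime r) := hφ
  haveI : IsLocalHom (algebraMap (Localization.AtPrime p) (Localization.AtPrime r)) :=
    inferInstanceAs (IsLocalHom (Localization.localRingHom p r (algebraMap A B) hr))
  haveI : IsNoetherianRing (Localization.AtPrime p) :=
    IsLocalization.isNoetherianRing p.primeCompl _ inferInstance
  haveI : IsNoetherianRing (Localization.AtPrime r) :=
    IsLocalization.isNoetherianRing r.primeCompl _ inferInstance
  haveI : IsLocalRing (Localization.AtPrime r ⧸ (maximalIdeal (Localization.AtPrime p)).map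
      (algebraMap (Localization.AtPrime p) (Localization.AtPrime r))) :=
    Groth.Agent.Lib.Helper33.GorFlat.isLocalRing_quot
      (IsLocalRing.map_maximalIdeal_le (algebraMap (Localization.AtPrime p) (Localization.AtPrime r)))
  exact ((Groth.Agent.Lib.Helper33.CMComp.cm_flat_local_iff' (Localization.AtPrime p)
    (Localization.AtPrime r) _ (Ideal.Quotient.mk _) Ideal.Quotient.mk_surjective
    Ideal.mk_ker).1 H).1

end Groth.Agent.Lib.Helper33.SyntCM
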