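import Mathlib
import Groth.Agent.Lib.Helper33.GlobalDim

/-!
# Syzygies over rings of finite global dimension are projective

If every `B`-module has projective dimension `≤ k` and
`0 → X₀ → X₁ → ⋯ → X_k` is exact with `X₁, …, X_k` projective, then `X₀` is projective.
(helper33, for S12491)
-/

set_option autoImplicit false
universe u
open CategoryTheory

namespace Groth.Agent.Lib.Helper33

theorem hasProjectiveDimensionLT_of_projective_of_pos {B : Type u} [CommRing B]
    (X : Type u) [AddCommGroup X] [Module B X] [Module.Projective B X] (n : ℕ) (hn : 1 ≤ n) :
    HasProjectiveDimensionLT (ModuleCat.of B X) n := by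
  have : Projective (ModuleCat.of B X) := by
    rw [← IsProjective.iff_projective]; infer_instance
  exact hasProjectiveDimensionLT_of_ge (ModuleCat.of B X) 1 n hn

theorem projective_of_exact_of_hasProjectiveDimensionLT {B : Type u} [CommRing B] (k : ℕ)
    (hgl : ∀ (M : Type u) [AddCommGroup M] [Module B M],
      HasProjectiveDimensionLT (ModuleCat.of B M) (k + 1))
    (X : ℕ → Type u) [∀ i, AddCommGroup (X i)] [∀ i, Module B (X i)]
    (hproj : ∀ i, 1 ≤ i → i ≤ k → Module.Projective B (X i))
    (D : ∀ i, X i →ₗ[B] X (i + 1)) (hinj : Function.Injective (D 0))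
    (hex : ∀ i, i + 1 < k → LinearMap.range (D i) = LinearMap.ker (D (i + 1))) :
    Module.Projective B (X 0) := by
  obtain _ | k' := k
  · have h := hgl (X 0)
    have : Projective (ModuleCat.of B (X 0)) :=
      projective_iff_hasProjectiveDimensionLT_one.mpr h
    rw [← IsProjective.iff_projective] at this
    exact this
  · -- Step A
    have hA : HasProjectiveDimensionLT (ModuleCat.of B (LinearMap.range (D k'))) (k' + 1) := by
      have hS := LinearMap.shortExact_shortComplexKer
        (Submodule.mkQ_surjective (LinearMap.range (D k')))
      have := hproj (k' + 1) (by omega) le_rfl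
      have h2 : HasProjectiveDimensionLT (ModuleCat.of B (X (k' + 1))) (k' + 1) :=
        hasProjectiveDimensionLT_of_projective_of_pos _ _ (by omega)
      have h3 := hgl (X (k' + 1) ⧸ LinearMap.range (D k'))
      have h1 := hS.hasProjectiveDimensionLT_X₁ (k' + 1) h2 h3
      exact hasProjectiveDimensionLT_of_linearEquiv B
        (LinearEquiv.ofEq _ _ (Submodule.ker_mkQ _)) _ h1
    -- Step B
    have hB : ∀ j i, i + j = k' →
        HasProjectiveDimensionLT (ModuleCat.of B (LinearMap.range (D i))) (i + 1) := by
      intro j
      induction j with
      | zero => intro i hi; obtain rfl : i = k' := by omega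
                exact hA
      | succ j ih =>
        intro i hi
        have h3 := ih (i + 1) (by omega)
        have hS := LinearMap.shortExact_shortComplexKer
          (LinearMap.surjective_rangeRestrict (D (i + 1)))
        have := hproj (i + 1) (by omega) (by omega)
        have h2 : HasProjectiveDimensionLT (ModuleCat.of B (X (i + 1))) (i + 1) :=
          hasProjectiveDimensionLT_of_projective_of_pos _ _ (by omega)
        have h1 := hS.hasProjectiveDimensionLT_X₁ (i + 1) h2 h3
        refine hasProjectiveDimensionLT_of_linearEquiv B (LinearEquiv.ofEq _ _ ?_) _ h1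
        rw [LinearMap.ker_rangeRestrict, hex i (by omega)]
    -- Step C
    have h0 := hB k' 0 (by omega)
    have : Projective (ModuleCat.of B (LinearMap.range (D 0))) :=
      projective_iff_hasProjectiveDimensionLT_one.mpr h0
    rw [← IsProjective.iff_projective] at this
    exact Module.Projective.of_equiv (LinearEquiv.ofInjective (D 0) hinj).symm

end Groth.Agent.Lib.Helper33
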