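import Mathlib
import Groth.Agent.Lib.QCoh.Helper18_StalkLinear

/-!
# Dimension shifting for stalks of exact sequences of `O_X`-modules (helper33)
-/

set_option autoImplicit false
universe u

open CategoryTheory CategoryTheory.Limits AlgebraicGeometry

namespace Groth.Agent.Lib.Helper33.SyzygyStalk

open Groth.Agent.Lib.QCoh

section Abelian

variable {C : Type*} [Category C] [Abelian C]

/-- From `A ⟶ B ⟶ D` exact, the short exact sequence `0 ⟶ coker f ⟶ D ⟶ coker g ⟶ 0`. -/
theorem shortExact_cokernel {A B D : C} (f : A ⟶ B) (g : B ⟶ D) (w : f ≫ g = 0)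
    (h : (ShortComplex.mk f g w).Exact) :
    (ShortComplex.mk (cokernel.desc f g w) (cokernel.π g)
      (by
        rw [← cancel_epi (cokernel.π f), cokernel.π_desc_assoc, cokernel.condition,
          comp_zero])).ShortExact := by
  have hmono : Mono (cokernel.desc f g w) := h.mono_cokernelDesc
  refine ShortComplex.ShortExact.mk' ?_ hmono inferInstance
  apply ShortComplex.exact_of_g_is_cokernel
  refine CokernelCofork.IsColimit.ofπ _ _
    (fun {Z} k hk => cokernel.desc g k (by
      have : cokernel.π f ≫ cokernel.desc f g w ≫ k = 0 := by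
        rw [hk, comp_zero]
      rwa [cokernel.π_desc_assoc] at this))
    (fun k hk => cokernel.π_desc _ _ _)
    (fun k hk b hb => by
      rw [← cancel_epi (cokernel.π g), hb, cokernel.π_desc])

end Abelian

variable {X : Scheme.{u}} (x : X)

/-- the stalk of `M` at `x` has projective dimension `< k` over `O_{X,x}`. -/
def PdLT (M : X.Modules) (k : ℕ) : Prop :=
  HasProjectiveDimensionLT (ModuleCat.of (X.presheaf.stalk x) (M.presheaf.stalk x)) k

/-- the short complex of stalks. -/
noncomputable def stalkSC (S : ShortComplex X.Modules) :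
    ShortComplex (ModuleCat.{u} (X.presheaf.stalk x)) :=
  ShortComplex.mk (ModuleCat.ofHom (stalkMapₗ S.f x)) (ModuleCat.ofHom (stalkMapₗ S.g x)) (by
    ext m
    change stalkMap S.g x (stalkMap S.f x m) = 0
    have h1 : stalkMap S.f x ≫ stalkMap S.g x = 0 := by
      change (stalkFunctor X x).map S.f ≫ (stalkFunctor X x).map S.g = 0
      rw [← Functor.map_comp, S.zero, Functor.map_zero]
    exact congrArg (fun φ => φ m) h1)

theorem stalkSC_shortExact (S : ShortComplex X.Modules) (hS : S.ShortExact) :
    (stalkSC x S).ShortExact := by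
  obtain ⟨hinj, hsurj, hex⟩ := stalk_exact_of_shortExact S hS x
  refine ShortComplex.ShortExact.mk' ?_ ?_ ?_
  · rw [ShortComplex.moduleCat_exact_iff]
    intro m hm
    exact hex m hm
  · exact (ModuleCat.mono_iff_injective _).mpr hinj
  · exact (ModuleCat.epi_iff_surjective _).mpr hsurj

theorem pdLT_X₁ (S : ShortComplex X.Modules) (hS : S.ShortExact) (n : ℕ)
    (hP : PdLT x S.X₂ 1) (h3 : PdLT x S.X₃ (n + 2)) : PdLT x S.X₁ (n + 1) := by
  have hproj : Projective (stalkSC x S).X₂ := projective_iff_hasProjectiveDimensionLT_one.mpr hP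
  exact ((stalkSC_shortExact x S hS).hasProjectiveDimensionLT_X₃_iff n hproj).mp h3

theorem pdLT_of_iso {M N : X.Modules} (e : M ≅ N) (k : ℕ) (h : PdLT x M k) : PdLT x N k := by
  have e' : ModuleCat.of (X.presheaf.stalk x) (M.presheaf.stalk x) ≅
      ModuleCat.of (X.presheaf.stalk x) (N.presheaf.stalk x) :=
    { hom := ModuleCat.ofHom (stalkMapₗ e.hom x)
      inv := ModuleCat.ofHom (stalkMapₗ e.inv x)
      hom_inv_id := by
        ext m
        change stalkMap e.inv x (stalkMap e.hom x m) = m
        have h1 : stalkMap e.hom x ≫ stalkMap e.inv x = 𝟙 _ := by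
          change (stalkFunctor X x).map e.hom ≫ (stalkFunctor X x).map e.inv = 𝟙 _
          rw [← Functor.map_comp, e.hom_inv_id, CategoryTheory.Functor.map_id]
        exact congrArg (fun φ => φ m) h1
      inv_hom_id := by
        ext m
        change stalkMap e.hom x (stalkMap e.inv x m) = m
        have h1 : stalkMap e.inv x ≫ stalkMap e.hom x = 𝟙 _ := by
          change (stalkFunctor X x).map e.inv ≫ (stalkFunctor X x).map e.hom = 𝟙 _
          rw [← Functor.map_comp, e.inv_hom_id, CategoryTheory.Functor.map_id]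
        exact congrArg (fun φ => φ m) h1 }
  haveI : HasProjectiveDimensionLT
      (ModuleCat.of (X.presheaf.stalk x) (M.presheaf.stalk x)) k := h
  exact hasProjectiveDimensionLT_of_iso e' k

theorem pdLT_of_ge (M : X.Modules) {k l : ℕ} (hkl : k ≤ l) (h : PdLT x M k) : PdLT x M l := by
  haveI : HasProjectiveDimensionLT
      (ModuleCat.of (X.presheaf.stalk x) (M.presheaf.stalk x)) k := h
  exact hasProjectiveDimensionLT_of_ge _ k l hkl

/-- **Dimension shifting along an exact sequence.** -/
theorem pdLT_cokernel : ∀ (m k : ℕ) (S : ComposableArrows X.Modules (m + 2)) (_ : S.Exact)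
    (_ : Epi (S.map' (m + 1) (m + 2)))
    (_ : ∀ (j : ℕ) (_ : 1 ≤ j) (hj : j ≤ m + 1), PdLT x (S.obj' j) 1)
    (_ : PdLT x (S.obj' (m + 2)) (k + m + 1)),
    PdLT x (cokernel (S.map' 0 1)) (k + 1) := by
  intro m
  induction m with
  | zero =>
    intro k S hS hepi hproj hpd
    have hex : (ShortComplex.mk (S.map' 0 1) (S.map' 1 2) (hS.toIsComplex.zero 0)).Exact :=
      hS.exact 0
    have hcok := hex.gIsCokernel
    let e : cokernel (S.map' 0 1) ≅ S.obj' 2 :=
      IsColimit.coconePointUniqueUpToIso (cokernelIsCokernel (S.map' 0 1)) hcok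
    exact pdLT_of_iso x e.symm _ hpd
  | succ m ih =>
    intro k S hS hepi hproj hpd
    have h1 : PdLT x (cokernel (S.δ₀.map' 0 1)) (k + 1 + 1) := by
      apply ih (k + 1) S.δ₀ hS.δ₀ hepi
      · intro j hj1 hj
        exact hproj (j + 1) (by omega) (by omega)
      · have : k + 1 + m + 1 = k + (m + 1) + 1 := by omega
        rw [this]
        exact hpd
    have hex : (ShortComplex.mk (S.map' 0 1) (S.map' 1 2) (hS.toIsComplex.zero 0)).Exact :=
      hS.exact 0
    have hSES := shortExact_cokernel (S.map' 0 1) (S.map' 1 2) (hS.toIsComplex.zero 0) hex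
    exact pdLT_X₁ x _ hSES k (hproj 2 (by omega) (by omega)) h1

end Groth.Agent.Lib.Helper33.SyzygyStalk
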