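import Mathlib
import Groth.Agent.Lib.Helper33.ChangeOfRings
import Groth.Agent.S2187

/-!
# Passing to `R/x` for an ideal of finite projective dimension (Vasconcelos)
-/

set_option autoImplicit false
universe u
open CategoryTheory IsLocalRing Pointwise

namespace Groth.Agent.Lib.Helper33.Vasconcelos

variable {R : Type u} [CommRing R] (I : Ideal R) (x : R) (hx : x ∈ I)

/-- the canonical map `I → I(R/x)`. -/
def toMap : I →ₗ[R] (I.map (Ideal.Quotient.mk (Ideal.span {x}))) where
  toFun a := ⟨Ideal.Quotient.mk (Ideal.span {x}) a, Ideal.mem_map_of_mem _ a.2⟩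
  map_add' a b := by ext; simp
  map_smul' r a := by
    ext
    simp only [SetLike.val_smul, smul_eq_mul, map_mul, RingHom.id_apply]
    rfl

theorem toMap_surjective : Function.Surjective (toMap I x) := by
  rintro ⟨y, hy⟩
  obtain ⟨a, ha, rfl⟩ := (Ideal.mem_map_iff_of_surjective _ Ideal.Quotient.mk_surjective).mp hy
  exact ⟨⟨a, ha⟩, rfl⟩

include hx in
theorem toMap_self : toMap I x ⟨x, hx⟩ = 0 := by
  ext
  show Ideal.Quotient.mk (Ideal.span {x}) x = 0
  rw [Ideal.Quotient.eq_zero_iff_mem]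
  exact Ideal.mem_span_singleton_self x

include hx in
theorem mem_ker_toMap (a : I) (ha : a ∈ LinearMap.ker (toMap I x)) :
    ∃ t : R, a = t • (⟨x, hx⟩ : I) := by
  rw [LinearMap.mem_ker] at ha
  have h1 : Ideal.Quotient.mk (Ideal.span {x}) (a : R) = 0 := congrArg Subtype.val ha
  rw [Ideal.Quotient.eq_zero_iff_mem, Ideal.mem_span_singleton'] at h1
  obtain ⟨t, ht⟩ := h1
  exact ⟨t, Subtype.ext ht.symm⟩

/-- descending an `R`-linear map `I → N` killing `x` to `I(R/x) → N`. -/
theorem exists_descend {N : Type u} [AddCommGroup N] [Module R N]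
    [Module (R ⧸ Ideal.span {x}) N] [IsScalarTower R (R ⧸ Ideal.span {x}) N]
    (g : I →ₗ[R] N) (hg : g ⟨x, hx⟩ = 0) :
    ∃ g' : (I.map (Ideal.Quotient.mk (Ideal.span {x}))) →ₗ[R ⧸ Ideal.span {x}] N,
      ∀ a : I, g' (toMap I x a) = g a := by
  have hker : LinearMap.ker (toMap I x) ≤ LinearMap.ker g := by
    intro a ha
    obtain ⟨t, rfl⟩ := mem_ker_toMap I x hx a ha
    rw [LinearMap.mem_ker, map_smul, hg, smul_zero]
  let g₁ : (I.map (Ideal.Quotient.mk (Ideal.span {x}))) →ₗ[R] N :=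
    ((LinearMap.ker (toMap I x)).liftQ g hker) ∘ₗ
      (LinearMap.quotKerEquivOfSurjective (toMap I x) (toMap_surjective I x)).symm.toLinearMap
  refine ⟨g₁.extendScalarsOfSurjective Ideal.Quotient.mk_surjective, fun a => ?_⟩
  show g₁ (toMap I x a) = g a
  have h1 : (LinearMap.quotKerEquivOfSurjective (toMap I x) (toMap_surjective I x)).symm
      (toMap I x a) = Submodule.Quotient.mk a := by
    rw [LinearEquiv.symm_apply_eq]
    rfl
  simp only [g₁, LinearMap.coe_comp, LinearEquiv.coe_coe, Function.comp_apply]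
  rw [h1]
  rfl

include hx in
/-- If `x ∈ I` is a nonzerodivisor and there is an `R`-linear map `ψ : I → R/I` with `ψ x = 1`,
then `pd_{R/x} (I (R/x)) ≤ pd_R I`. -/
theorem hasProjectiveDimensionLT_map (hreg : IsSMulRegular R x) (ψ : I →ₗ[R] R ⧸ I)
    (hψ : ψ ⟨x, hx⟩ = 1) (n : ℕ)
    (hpd : HasProjectiveDimensionLT (ModuleCat.of R I) (n + 1)) :
    HasProjectiveDimensionLT (ModuleCat.of (R ⧸ Ideal.span {x})
      (I.map (Ideal.Quotient.mk (Ideal.span {x})))) (n + 1) := by
  have hregI : IsSMulRegular I x := by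
    intro a b hab
    apply Subtype.ext
    apply hreg
    exact congrArg Subtype.val hab
  have hQ := hasProjectiveDimensionLT_quotSMulTop R x hreg n I hregI hpd
  -- the projection `p : I/xI → I(R/x)`
  have hle : (x • (⊤ : Submodule R I)) ≤ LinearMap.ker (toMap I x) := by
    intro a ha
    rw [Submodule.mem_smul_pointwise_iff_exists] at ha
    obtain ⟨b, -, rfl⟩ := ha
    rw [LinearMap.mem_ker, map_smul, ← algebraMap_smul (R ⧸ Ideal.span {x}),
      Ideal.Quotient.algebraMap_eq,
      Ideal.Quotient.eq_zero_iff_mem.mpr (Ideal.mem_span_singleton_self x), zero_smul]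
  let p₀ : QuotSMulTop x I →ₗ[R] (I.map (Ideal.Quotient.mk (Ideal.span {x}))) :=
    (x • (⊤ : Submodule R I)).liftQ (toMap I x) hle
  let p : QuotSMulTop x I →ₗ[R ⧸ Ideal.span {x}] (I.map (Ideal.Quotient.mk (Ideal.span {x}))) :=
    p₀.extendScalarsOfSurjective Ideal.Quotient.mk_surjective
  -- the class of `x`
  let cx : QuotSMulTop x I := Submodule.Quotient.mk ⟨x, hx⟩
  have hlam : I ≤ LinearMap.ker (LinearMap.toSpanSingleton R (QuotSMulTop x I) cx) := by
    intro t ht
    rw [LinearMap.mem_ker, LinearMap.toSpanSingleton_apply]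
    show t • (Submodule.Quotient.mk (⟨x, hx⟩ : I) : QuotSMulTop x I) = 0
    rw [← Submodule.Quotient.mk_smul, Submodule.Quotient.mk_eq_zero,
      Submodule.mem_smul_pointwise_iff_exists]
    exact ⟨⟨t, ht⟩, Submodule.mem_top, Subtype.ext (by simp [mul_comm])⟩
  let lam : (R ⧸ I) →ₗ[R] QuotSMulTop x I :=
    Submodule.liftQ I (LinearMap.toSpanSingleton R (QuotSMulTop x I) cx) hlam
  have hlam1 : lam 1 = cx := by
    show lam (Submodule.Quotient.mk (1 : R)) = cx
    simp only [lam, Submodule.liftQ_apply, LinearMap.toSpanSingleton_apply, one_smul]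
  let θ : I →ₗ[R] QuotSMulTop x I := (x • (⊤ : Submodule R I)).mkQ - lam ∘ₗ ψ
  have hθ : θ ⟨x, hx⟩ = 0 := by
    simp only [θ, LinearMap.sub_apply, LinearMap.coe_comp, Function.comp_apply, hψ, hlam1]
    exact sub_self _
  obtain ⟨i', hi'⟩ := exists_descend I x hx θ hθ
  have hplam : ∀ s : R ⧸ I, p₀ (lam s) = 0 := by
    intro s
    obtain ⟨s, rfl⟩ := Submodule.Quotient.mk_surjective _ s
    simp only [lam, Submodule.liftQ_apply, LinearMap.toSpanSingleton_apply, map_smul]
    have : p₀ cx = 0 := by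
      show p₀ (Submodule.Quotient.mk ⟨x, hx⟩) = 0
      simp only [p₀, Submodule.liftQ_apply]
      exact toMap_self I x hx
    rw [this, smul_zero]
  have hret : ∀ y, p (i' y) = y := by
    intro y
    obtain ⟨a, rfl⟩ := toMap_surjective I x y
    rw [hi']
    show p₀ (θ a) = _
    simp only [θ, LinearMap.sub_apply, LinearMap.coe_comp, Function.comp_apply, map_sub, hplam,
      sub_zero]
    rfl
  have hR : Retract (ModuleCat.of (R ⧸ Ideal.span {x}) (I.map (Ideal.Quotient.mk (Ideal.span {x}))))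
      (ModuleCat.of (R ⧸ Ideal.span {x}) (QuotSMulTop x I)) :=
    { i := ModuleCat.ofHom i'
      r := ModuleCat.ofHom p
      retract := by
        ext y
        exact congrArg Subtype.val (hret y) }
  exact hR.hasProjectiveDimensionLT (n + 1)

include hx in
/-- descending a functional `χ : I → R/I` with `χ x = 0` to `I(R/x) → (R/x)/(I(R/x))`. -/
theorem exists_descend_functional (χ : I →ₗ[R] R ⧸ I) (hχ : χ ⟨x, hx⟩ = 0) :
    ∃ χ' : (I.map (Ideal.Quotient.mk (Ideal.span {x}))) →ₗ[R ⧸ Ideal.span {x}]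
        ((R ⧸ Ideal.span {x}) ⧸ (I.map (Ideal.Quotient.mk (Ideal.span {x})))),
      ∀ a : I, (χ a = 1 → χ' (toMap I x a) = 1) ∧ (χ a = 0 → χ' (toMap I x a) = 0) := by
  have hle : I ≤ LinearMap.ker
      (((Submodule.mkQ (I.map (Ideal.Quotient.mk (Ideal.span {x})))).restrictScalars R) ∘ₗ
        (Algebra.linearMap R (R ⧸ Ideal.span {x}))) := by
    intro t ht
    rw [LinearMap.mem_ker]
    simp only [LinearMap.coe_comp, LinearMap.coe_restrictScalars, Function.comp_apply,
      Algebra.linearMap_apply, Submodule.mkQ_apply, Submodule.Quotient.mk_eq_zero]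
    exact Ideal.mem_map_of_mem _ ht
  let τ : (R ⧸ I) →ₗ[R] ((R ⧸ Ideal.span {x}) ⧸ (I.map (Ideal.Quotient.mk (Ideal.span {x})))) :=
    Submodule.liftQ I _ hle
  have hτ1 : τ 1 = 1 := by
    show τ (Submodule.Quotient.mk (1 : R)) = 1
    simp only [τ, Submodule.liftQ_apply, LinearMap.coe_comp, LinearMap.coe_restrictScalars,
      Function.comp_apply, Algebra.linearMap_apply, map_one, Submodule.mkQ_apply]
    rfl
  obtain ⟨χ', hχ'⟩ := exists_descend I x hx (τ ∘ₗ χ)
    (by rw [LinearMap.comp_apply, hχ, map_zero])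
  refine ⟨χ', fun a => ⟨fun h => ?_, fun h => ?_⟩⟩
  · rw [hχ', LinearMap.comp_apply, h, hτ1]
  · rw [hχ', LinearMap.comp_apply, h, map_zero]

/-- a functional `I → R/I` only depends on the class modulo `I²`. -/
theorem map_eq_of_sub_mem_sq (ψ : I →ₗ[R] R ⧸ I) (u v : I) (h : (u - v : R) ∈ I ^ 2) :
    ψ u = ψ v := by
  have h1 : u - v ∈ LinearMap.ker I.toCotangent := by
    rw [Ideal.mem_toCotangent_ker]
    exact h
  have h2 : LinearMap.ker I.toCotangent = I • (⊤ : Submodule R I) := Submodule.ker_mkQ _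
  rw [h2] at h1
  have h3 : ψ (u - v) = 0 := by
    refine Submodule.smul_induction_on h1 ?_ ?_
    · intro t ht b _
      rw [map_smul, Algebra.smul_def, Ideal.Quotient.algebraMap_eq,
        Ideal.Quotient.eq_zero_iff_mem.mpr ht, zero_mul]
    · intro y z hy hz
      rw [map_add, hy, hz, add_zero]
  rw [map_sub, sub_eq_zero] at h3
  exact h3

theorem span_singleton_eq_smul_top' (x : R) :
    (Ideal.span {x} : Submodule R R) = x • (⊤ : Submodule R R) := by
  ext y
  rw [Submodule.mem_smul_pointwise_iff_exists]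
  constructor
  · intro hy
    obtain ⟨a, rfl⟩ := Ideal.mem_span_singleton'.1 hy
    exact ⟨a, Submodule.mem_top, by rw [smul_eq_mul, mul_comm]⟩
  · rintro ⟨a, -, rfl⟩
    exact Ideal.mem_span_singleton'.2 ⟨a, by rw [smul_eq_mul, mul_comm]⟩

/-- **Vasconcelos.** Let `I` be a proper ideal of finite projective dimension in a Noetherian
local ring, `a₁, …, a_r ∈ I` and `φ₁, …, φ_r : I → R/I` linear with `φ_i (a_j) = δ_ij`. Then
there are `x_i ≡ a_i mod I²` forming a (weakly) regular sequence. -/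
theorem exists_weaklyRegular (r : ℕ) : ∀ (R : Type u) [CommRing R] [IsNoetherianRing R]
    [IsLocalRing R] (I : Ideal R) (_ : I ≠ ⊤) (n : ℕ)
    (_ : HasProjectiveDimensionLT (ModuleCat.of R I) n)
    (a : Fin r → I) (φ : Fin r → (I →ₗ[R] R ⧸ I))
    (_ : ∀ i, φ i (a i) = 1) (_ : ∀ i j, i ≠ j → φ i (a j) = 0),
    ∃ (x : Fin r → R), (∀ i, x i ∈ I) ∧
      RingTheory.Sequence.IsWeaklyRegular R (List.ofFn x) ∧ ∀ i, (x i - a i : R) ∈ I ^ 2 := by
  induction r with
  | zero =>
    intro R _ _ _ I _ n _ a φ _ _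
    refine ⟨fun i => i.elim0, fun i => i.elim0, ?_, fun i => i.elim0⟩
    rw [List.ofFn_zero]
    exact RingTheory.Sequence.IsWeaklyRegular.nil R R
  | succ r ih =>
    intro R _ _ _ I hI n hpd a φ hφ1 hφ0
    have hnt : Nontrivial (R ⧸ I) := Ideal.Quotient.nontrivial_iff.mpr hI
    have hI0 : I ≠ ⊥ := by
      intro h0
      have h1 := hφ1 0
      have h2 : a 0 = 0 := by
        apply Subtype.ext
        have h3 : (a 0 : R) ∈ (⊥ : Ideal R) := h0 ▸ (a 0).2
        exact h3
      rw [h2, map_zero] at h1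
      exact zero_ne_one h1
    obtain ⟨x₁, hx₁, hnzd, hcl⟩ := Groth.Agent.S2187.exists_nzd_in_class I hI0 n hpd (a 0)
    have hsq : (x₁ - (a 0 : R)) ∈ I ^ 2 := (Ideal.toCotangent_eq I).mp hcl
    have hφx : ∀ i, φ i ⟨x₁, hx₁⟩ = φ i (a 0) := fun i =>
      map_eq_of_sub_mem_sq I (φ i) ⟨x₁, hx₁⟩ (a 0) hsq
    have hreg : IsSMulRegular R x₁ := by
      intro u v huv
      have h1 : x₁ * (u - v) = 0 := by
        rw [mul_sub, sub_eq_zero]; exact huv
      have := (mul_left_mem_nonZeroDivisors_eq_zero_iff hnzd).mp h1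
      exact sub_eq_zero.mp this
    -- the quotient ring
    have hJI : Ideal.span {x₁} ≤ I := (Ideal.span_singleton_le_iff_mem I).mpr hx₁
    have hJ : Ideal.span {x₁} ≠ ⊤ := fun h => hI (top_le_iff.mp (h ▸ hJI))
    have hnt' : Nontrivial (R ⧸ Ideal.span {x₁}) := Ideal.Quotient.nontrivial_iff.mpr hJ
    have hloc : IsLocalRing (R ⧸ Ideal.span {x₁}) :=
      IsLocalRing.of_surjective' (Ideal.Quotient.mk (Ideal.span {x₁})) Ideal.Quotient.mk_surjective
    have hI' : I.map (Ideal.Quotient.mk (Ideal.span {x₁})) ≠ ⊤ := by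
      intro h
      have h1 := Ideal.comap_map_of_surjective (Ideal.Quotient.mk (Ideal.span {x₁}))
        Ideal.Quotient.mk_surjective I
      rw [h, Ideal.comap_top, ← RingHom.ker_eq_comap_bot, Ideal.mk_ker,
        sup_eq_left.mpr hJI] at h1
      exact hI h1.symm
    have hpd1 : HasProjectiveDimensionLT (ModuleCat.of R I) (n + 1) :=
      hasProjectiveDimensionLT_of_ge _ n (n + 1) (Nat.le_succ n)
    have hpd' := hasProjectiveDimensionLT_map I x₁ hx₁ hreg (φ 0)
      (by rw [hφx 0, hφ1 0]) n hpd1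
    have hdesc : ∀ j : Fin r, ∃ χ' : (I.map (Ideal.Quotient.mk (Ideal.span {x₁}))) →ₗ[R ⧸ Ideal.span {x₁}]
        ((R ⧸ Ideal.span {x₁}) ⧸ (I.map (Ideal.Quotient.mk (Ideal.span {x₁})))),
        ∀ b : I, (φ j.succ b = 1 → χ' (toMap I x₁ b) = 1) ∧
          (φ j.succ b = 0 → χ' (toMap I x₁ b) = 0) := fun j =>
      exists_descend_functional I x₁ hx₁ (φ j.succ)
        (by rw [hφx j.succ]; exact hφ0 j.succ 0 (Fin.succ_ne_zero j))
    choose φ' hφ' using hdesc
    obtain ⟨x', hx'I, hx'reg, hx'sq⟩ := ih (R ⧸ Ideal.span {x₁})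
      (I.map (Ideal.Quotient.mk (Ideal.span {x₁}))) hI' (n + 1) hpd'
      (fun j => toMap I x₁ (a j.succ)) φ'
      (fun j => (hφ' j (a j.succ)).1 (hφ1 j.succ))
      (fun i j hij => (hφ' i (a j.succ)).2 (hφ0 i.succ j.succ (fun h => hij (Fin.succ_injective _ h))))
    -- lift
    have hlift : ∀ j : Fin r, ∃ w ∈ I ^ 2, Ideal.Quotient.mk (Ideal.span {x₁}) w =
        x' j - Ideal.Quotient.mk (Ideal.span {x₁}) (a j.succ : R) := by
      intro j
      have h1 := hx'sq j
      rw [← Ideal.map_pow] at h1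
      exact (Ideal.mem_map_iff_of_surjective _ Ideal.Quotient.mk_surjective).mp h1
    choose w hwI hw using hlift
    have hwI' : ∀ j, w j ∈ I := fun j => Ideal.pow_le_self (by norm_num) (hwI j)
    refine ⟨Fin.cons x₁ (fun j => (a j.succ : R) + w j), ?_, ?_, ?_⟩
    · intro i
      refine Fin.cases ?_ (fun j => ?_) i
      · rw [Fin.cons_zero]; exact hx₁
      · rw [Fin.cons_succ]; exact I.add_mem (a j.succ).2 (hwI' j)
    · rw [List.ofFn_succ, Fin.cons_zero, RingTheory.Sequence.isWeaklyRegular_cons_iff]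
      refine ⟨hreg, ?_⟩
      have h2 : List.ofFn x' = (List.ofFn fun j : Fin r => (a j.succ : R) + w j).map
          (algebraMap R (R ⧸ Ideal.span {x₁})) := by
        rw [List.map_ofFn]
        congr 1
        funext j
        simp only [Function.comp_apply, Ideal.Quotient.algebraMap_eq, map_add, hw j]
        ring
      rw [h2, RingTheory.Sequence.isWeaklyRegular_map_algebraMap_iff] at hx'reg
      simp only [Fin.cons_succ]
      exact (LinearEquiv.isWeaklyRegular_congr
        (Submodule.quotEquivOfEq _ _ (span_singleton_eq_smul_top' x₁)) _).1 hx'reg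
    · intro i
      refine Fin.cases ?_ (fun j => ?_) i
      · rw [Fin.cons_zero]; exact hsq
      · rw [Fin.cons_succ, add_sub_cancel_left]; exact hwI j

end Groth.Agent.Lib.Helper33.Vasconcelos
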